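import Groth.Agent.L23.RelGen.Glue
import Groth.Prelude.Def_StMod6

/-!
# Sections of inverse images
-/

universe w' v' w v u

open CategoryTheory CategoryTheory.Limits AlgebraicGeometry Opposite TopologicalSpace

set_option backward.isDefEq.respectTransparency false
set_option backward.isDefEq.respectTransparency.types false
set_option linter.style.haveILetI false
set_option linter.unusedSectionVars false

noncomputable section

namespace Groth.L23.RelGen

open StMod

section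

variable {X X' T T' : Scheme.{u}}

/-- Global sections of a module read along an equality of schemes. -/
def castSec (h : X = T) (M : X.Modules) : Γ(M, ⊤) ≃+ Γ(castMod h M, ⊤) := by subst h; exact AddEquiv.refl _

/-- Global functions read along an equality of schemes. -/
abbrev castFn (h : X = T) : Γ(T, ⊤) →+* Γ(X, ⊤) := (eqToHom h).appTop.hom

theorem castSec_smul (h : X = T) (M : X.Modules) (r : Γ(T, ⊤)) (m : Γ(M, ⊤)) :
    castSec h M (castFn h r • m) = r • castSec h M m := by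
  subst h
  show castFn rfl r • m = r • m
  rw [castFn, eqToHom_refl, Scheme.Hom.id_appTop]
  rfl

theorem castSec_map (hX : X = T) (hX' : X' = T') {g₁ : X' ⟶ X} {g : T' ⟶ T}
    (hg : g₁ ≫ eqToHom hX = eqToHom hX' ≫ g) {M : X.Modules} {N : X'.Modules}
    (a : M ⟶ (Scheme.Modules.pushforward g₁).obj N) (m : Γ(M, ⊤)) :
    (castMap hX hX' hg a).app ⊤ (castSec hX M m) =
      (show Γ(castMod hX' N, ⊤) from castSec hX' N (show Γ(N, ⊤) from a.app ⊤ m)) := by
  subst hX hX'
  obtain rfl : g₁ = g := by simpa using hg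
  rw [castMap_rfl_self]
  rfl

theorem castSec_app (h : X = T) {M N : X.Modules} (a : M ⟶ N) (m : Γ(M, ⊤)) :
    (castHom h a).app ⊤ (castSec h M m) = castSec h N (a.app ⊤ m) := by subst h; rfl

theorem isAffine_cast (h : X = T) [IsAffine T] : IsAffine X := IsAffine.of_isIso (eqToHom h)

end

variable {S : Scheme.{u}} {𝒳 : BasedCategory.{v, w} (Over S)} {ℬ : BasedCategory.{v', w'} (Over S)}
  (Φ : ℬ ⥤ᵇ 𝒳)

/-- Sections of an inverse image. -/
def secC (F : Mod 𝒳) (b : ℬ.obj) : Sec F (Φ.obj b) ≃+ Sec (Mod.comap Φ F) b :=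
  castSec (sch_obj_eq Φ b) (F.obj (Φ.obj b))

theorem secC_smul (F : Mod 𝒳) (b : ℬ.obj) (r : Fn b) (m : Sec F (Φ.obj b)) :
    secC Φ F b (castFn (sch_obj_eq Φ b) r • m) = r • secC Φ F b m := castSec_smul _ _ r m

theorem secC_symm_smul (F : Mod 𝒳) (b : ℬ.obj) (r : Fn b) (m : Sec (Mod.comap Φ F) b) :
    (secC Φ F b).symm (r • m) = castFn (sch_obj_eq Φ b) r • (secC Φ F b).symm m := by
  rw [AddEquiv.symm_apply_eq, secC_smul, AddEquiv.apply_symm_apply]

theorem secC_mapTop (F : Mod 𝒳) {b' b : ℬ.obj} (k : b' ⟶ b) (m : Sec F (Φ.obj b)) :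
    (Mod.comap Φ F).mapTop k (secC Φ F b m) = secC Φ F b' (F.mapTop (Φ.map k) m) :=
  castSec_map (sch_obj_eq Φ b) (sch_obj_eq Φ b') (bmap_map_comm Φ k rfl) (F.map (Φ.map k) rfl) m

theorem secC_symm_mapTop (F : Mod 𝒳) {b' b : ℬ.obj} (k : b' ⟶ b) (m : Sec (Mod.comap Φ F) b) :
    (secC Φ F b').symm ((Mod.comap Φ F).mapTop k m) = F.mapTop (Φ.map k) ((secC Φ F b).symm m) := by
  rw [AddEquiv.symm_apply_eq, ← secC_mapTop, AddEquiv.apply_symm_apply]

theorem secC_app {F G : Mod 𝒳} (u : F ⟶ G) (b : ℬ.obj) (m : Sec F (Φ.obj b)) :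
    ((Mod.comapMap Φ u).app b).app ⊤ (secC Φ F b m) = secC Φ G b ((u.app (Φ.obj b)).app ⊤ m) :=
  castSec_app (sch_obj_eq Φ b) (u.app (Φ.obj b)) m

theorem castFn_natural {b' b : ℬ.obj} (k : b' ⟶ b) (r : Fn b) :
    castFn (sch_obj_eq Φ b') (fnMap k r) = fnMap (Φ.map k) (castFn (sch_obj_eq Φ b) r) := by
  have h := congrArg (fun t => t.appTop.hom r) (bmap_map_comm Φ k rfl)
  simp only [Scheme.Hom.comp_appTop] at h
  exact h.symm

theorem castFn_bijective (b : ℬ.obj) : Function.Bijective (castFn (sch_obj_eq Φ b)) :=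
  ConcreteCategory.bijective_of_isIso (eqToHom (sch_obj_eq Φ b)).appTop

theorem isAffine_obj_iff (b : ℬ.obj) : IsAffine (sch 𝒳 (Φ.obj b)) ↔ IsAffine (sch ℬ b) :=
  ⟨fun h => haveI := h; IsAffine.of_isIso (eqToHom (sch_obj_eq Φ b).symm),
    fun h => haveI := h; IsAffine.of_isIso (eqToHom (sch_obj_eq Φ b))⟩

end Groth.L23.RelGen
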