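import Groth.Agent.L23.RelGen.ToFib
import Groth.Agent.L24.St.QcSep
import Groth.Agent.L24.St.DiagRep
import Groth.Agent.L24.St.PointsSp
import Groth.Agent.L09.Artin.Apps.Model

/-!
# Atlases of the category over an affine object
-/

universe w v u

open CategoryTheory CategoryTheory.Limits AlgebraicGeometry Opposite TopologicalSpace

set_option backward.isDefEq.respectTransparency false
set_option backward.isDefEq.respectTransparency.types false
set_option linter.style.haveILetI false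
set_option linter.unusedSectionVars false

noncomputable section

namespace Groth.L23.RelGen

open StMod Groth.L24.St
open Groth.L19.QCohFpqc (IsCov)

variable {S : Scheme.{u}}

/-- Covering families transported along isomorphisms. -/
theorem isCov_conj {κ : Type*} {U U' : Scheme.{u}} {W W' : κ → Scheme.{u}} {g : ∀ l, W l ⟶ U} (hg : IsCov g)
    {g' : ∀ l, W' l ⟶ U'} (e : ∀ l, W' l ⟶ W l) [∀ l, IsIso (e l)] (e₀ : U' ⟶ U) [IsIso e₀]
    (h : ∀ l, g' l ≫ e₀ = e l ≫ g l) : IsCov g' := by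
  refine ⟨fun l => ?_, fun y => ?_⟩
  · haveI := hg.flat l
    rw [show g' l = e l ≫ g l ≫ inv e₀ by rw [← Category.assoc, ← h, Category.assoc, IsIso.hom_inv_id, Category.comp_id]]
    infer_instance
  · obtain ⟨l, w, hw⟩ := hg.surj (e₀ y)
    obtain ⟨p, hp⟩ := (e l).surjective w
    refine ⟨l, p, e₀.isOpenEmbedding.injective ?_⟩
    rw [← Scheme.Hom.comp_apply, h, Scheme.Hom.comp_apply, hp, hw]

variable {𝒵 : BasedCategory.{v, w} (Over S)}

/-- Objects with affine scheme lift to a flat chart, locally on finitely many affines. -/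
theorem exists_chart_cover {U : Over S} {x : FibCat.overCat U ⥤ᵇ 𝒵} (hg : FibCat.IsFibGrpd 𝒵.p)
    (hp : AlgSt.RepByAlgSpWith L09.Artin.Res.FLP x) (hs : AlgSt.RepByAlgSpWith AlgSp.IsSurjectiveMor x)
    (z : 𝒵.obj) [IsAffine (sch 𝒵 z)] :
    ∃ (n : ℕ) (t : Fin n → (FibCat.overCat U).obj) (m : ∀ l, x.obj (t l) ⟶ z),
      (∀ l, IsAffine (sch 𝒵 (x.obj (t l)))) ∧ IsCov (fun l => bmap 𝒵 (m l)) := by
  obtain ⟨W, h, t, ξ, hξ, hflat, hlfp, hsur⟩ := L09.Artin.Model.exists_cover hg hp hs z rfl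
  haveI := hflat
  haveI := hlfp
  let 𝒰 := W.left.affineCover
  have hopen : IsOpenMap h.left := h.left.isOpenMap
  have hcpt : IsCompact (Set.univ : Set (sch 𝒵 z)) := isCompact_univ
  obtain ⟨s, hs'⟩ := hcpt.elim_finite_subcover (fun i => h.left '' Set.range (𝒰.f i))
    (fun i => hopen _ (𝒰.f i).isOpenEmbedding.isOpen_range) (fun y _ => by
      obtain ⟨w, hw⟩ := h.left.surjective y
      obtain ⟨i, v, hv⟩ := 𝒰.exists_eq w
      exact Set.mem_iUnion.2 ⟨i, w, ⟨v, hv⟩, hw⟩)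
  let V : Fin s.card → Over S := fun l => Over.mk (𝒰.f (s.equivFin.symm l).1 ≫ W.hom)
  let j : ∀ l, V l ⟶ W := fun l => Over.homMk (𝒰.f (s.equivFin.symm l).1) rfl
  let tl : Fin s.card → (FibCat.overCat U).obj := fun l => Over.mk (j l ≫ t)
  let cl : ∀ l, tl l ⟶ Over.mk t := fun l => Over.homMk (j l)
  have haff : ∀ l, IsAffine (sch 𝒵 (x.obj (tl l))) := fun l => by
    haveI : IsAffine (sch (FibCat.overCat U) (tl l)) :=
      (inferInstance : IsAffine (𝒰.X (s.equivFin.symm l).1))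
    exact IsAffine.of_isIso (eqToHom (sch_obj_eq x (tl l)))
  refine ⟨s.card, tl, fun l => x.map (cl l) ≫ ξ, haff, ?_⟩
  have eW : sch 𝒵 (x.obj (Over.mk t)) = W.left := sch_obj_eq x _
  have hbξ : bmap 𝒵 ξ = eqToHom eW ≫ h.left := by
    have h' := congrArg (fun k => k.left) (IsHomLift.fac' 𝒵.p h ξ)
    simp only [Over.comp_left, Over.eqToHom_left] at h'
    show (𝒵.p.map ξ).left = _
    rw [h']
    simp
  have hg' : IsCov (fun l => 𝒰.f (s.equivFin.symm l).1 ≫ h.left) := ⟨fun l => inferInstance, fun y => by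
    obtain ⟨i, hi, w, ⟨v, rfl⟩, hw⟩ : ∃ i ∈ s, y ∈ h.left '' Set.range (𝒰.f i) := by
      simpa using hs' (Set.mem_univ y)
    obtain ⟨l, hl⟩ : ∃ l, s.equivFin.symm l = ⟨i, hi⟩ := s.equivFin.symm.surjective _
    obtain rfl : (s.equivFin.symm l).1 = i := by rw [hl]
    exact ⟨l, v, hw⟩⟩
  refine isCov_conj hg' (fun l => eqToHom (sch_obj_eq x (tl l))) (𝟙 (sch 𝒵 z)) fun l => ?_
  rw [Category.comp_id, bmap_comp, hbξ, ← Category.assoc, bmap_map_comm x (cl l) rfl, Category.assoc]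
  rfl

set_option maxHeartbeats 1600000 in
/-- The category over an affine object has an atlas. -/
theorem exists_atlas {𝒳 𝒴 : AlgSt.Cat S} (h𝒳 : AlgSt.IsAlgStack Scheme.fppfPrecoverage 𝒳)
    (h𝒴 : AlgSt.IsAlgStack Scheme.fppfPrecoverage 𝒴) (f : 𝒳 ⥤ᵇ 𝒴)
    (hfqc : AlgSt.IsQuasiCompactMor Scheme.fppfPrecoverage f) (hfqs : AlgSt.IsQuasiSeparatedMor f)
    (η : 𝒴.obj) [IsAffine (sch 𝒴 η)] : Nonempty (Atlas (fibCat f η)) := by
  obtain ⟨G, ι, hι⟩ := exists_overCat_functor h𝒴.isStack.1 η rfl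
  have hT := isAlgStack_overCat (𝒴.p.obj η)
  haveI : CompactSpace (𝒴.p.obj η).left := inferInstanceAs (CompactSpace (sch 𝒴 η))
  have hZ := isAlgStack_fp hT h𝒳 h𝒴 G f
  obtain ⟨U, x, hU, hxsm, hxs⟩ := hfqc _ hT (isQuasiCompact_overCat _) G
  haveI := hU
  have hxflp : AlgSt.RepByAlgSpWith L09.Artin.Res.FLP x :=
    Groth.L24.St.repWith_mono (fun _ _ _ _ h => L09.Artin.Res.flp_of_smooth h) hxsm
  have hxqc : AlgSt.IsQuasiCompactMor Scheme.fppfPrecoverage x := by
    obtain ⟨k, ⟨ik⟩, -⟩ := exists_overMap_iso (BasedFunctor.comp x (FibCat.fpFst G f))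
    haveI : IsAffine (𝒴.p.obj η).left := inferInstanceAs (IsAffine (sch 𝒴 η))
    haveI : QuasiCompact k.left := inferInstance
    have hk : AlgSt.IsQuasiCompactMor Scheme.fppfPrecoverage (AlgSt.overMap k) :=
      have h₀ : AlgSt.RepByAlgSpWith AlgSp.IsQuasiCompactMor (AlgSt.overMap k) :=
        Groth.L24.St.repWith_mono (fun _ _ _ _ h => Groth.L23.isQuasiCompactMor_of_repWith h)
          (repWith_overMap (R := @QuasiCompact) ‹_›)
      (repWith_qcMor_iff (overCat_isFibGrpd U) (overCat_isFibGrpd _) (repWith_rep1 h₀)).1 h₀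
    refine isQuasiCompactMor_of_comp (isAlgStack_overCat U) hZ hT (g := FibCat.fpFst G f)
      (isQuasiCompactMor_congr _ ik.symm hk) ?_
    exact Groth.L24.St.repWith_mono (fun _ _ _ _ h => h.1) (diag_fpFst_repWith G hfqs)
  obtain ⟨W, c, hW, hcsm, hcs⟩ := hxqc _ (isAlgStack_overCat U) (isQuasiCompact_overCat U) x
  haveI := hW
  have hcflp : AlgSt.RepByAlgSpWith L09.Artin.Res.FLP c :=
    Groth.L24.St.repWith_mono (fun _ _ _ _ h => L09.Artin.Res.flp_of_smooth h) hcsm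
  have hQ := isAlgStack_fp (isAlgStack_overCat U) (isAlgStack_overCat U) hZ x x
  let u₀ := x.obj (idObj U)
  let F := toFib f G ι
  let v := c.obj (idObj W)
  have haffU : IsAffine (sch (FibCat.fp G f) u₀) :=
    haveI : IsAffine (sch (FibCat.overCat U) (idObj U)) := hU
    IsAffine.of_isIso (eqToHom (sch_obj_eq x (idObj U)))
  have haffF : ∀ z : (FibCat.fp G f).obj, IsAffine (sch (FibCat.fp G f) z) → IsAffine (sch (fibCat f η) (F.obj z)) :=
    fun z hz => IsAffine.of_isIso (eqToHom (sch_obj_eq (FibCat.fpSnd G f) z))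
  have hcov : ∀ {κ : Type} {z : (FibCat.fp G f).obj} {y : κ → (FibCat.fp G f).obj} (m : ∀ l, y l ⟶ z)
      {a : (fibCat f η).obj} (i : F.obj z ≅ a), IsCov (fun l => bmap (FibCat.fp G f) (m l)) →
        IsCov (fun l => bmap (fibCat f η) (F.map (m l) ≫ i.hom)) := by
    intro κ z y m a i hm
    haveI : IsIso (bmap (fibCat f η) i.inv) :=
      ⟨bmap (fibCat f η) i.hom, by rw [← bmap_comp, i.inv_hom_id, bmap_id], by rw [← bmap_comp, i.hom_inv_id, bmap_id]⟩
    refine isCov_conj hm (fun l => eqToHom (sch_obj_eq (FibCat.fpSnd G f) (y l)))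
      (bmap (fibCat f η) i.inv ≫ eqToHom (sch_obj_eq (FibCat.fpSnd G f) z)) fun l => ?_
    rw [← Category.assoc, ← bmap_comp, Category.assoc, i.hom_inv_id, Category.comp_id]
    exact bmap_toFib f G ι (m l)
  have hxterm : ∀ {t t' : (FibCat.overCat U).obj} (a b : t ⟶ t') (d : t' ⟶ idObj U), a ≫ d = b ≫ d →
      x.map a ≫ x.map d = x.map b ≫ x.map d := fun a b d e => by
    rw [← x.toFunctor.map_comp, ← x.toFunctor.map_comp, e]
  refine ⟨{
    x₀ := F.obj u₀
    aff₀ := haffF _ haffU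
    loc := ?_
    n := 1
    w := fun _ => F.obj (x.obj v.obj.fst)
    affw := fun _ => haffF _ ?_
    a := fun _ => F.map (x.map (L09.Fib.toTerm v.obj.fst))
    b := fun _ => F.map (v.obj.iso.hom ≫ x.map (L09.Fib.toTerm v.obj.snd))
    pairs := ?_ }⟩
  · intro a ha
    obtain ⟨z, ⟨i⟩⟩ := exists_toFib_iso f G ι h𝒴.isStack.1 hι a
    haveI : IsAffine (sch (fibCat f η) (F.obj z)) := by
      haveI : IsIso (bmap (fibCat f η) i.hom) :=
        ⟨bmap (fibCat f η) i.inv, by rw [← bmap_comp, i.hom_inv_id, bmap_id], by rw [← bmap_comp, i.inv_hom_id, bmap_id]⟩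
      exact IsAffine.of_isIso (bmap (fibCat f η) i.hom)
    haveI : IsAffine (sch 𝒳 ((FibCat.fpSnd G f).obj z)) := ‹IsAffine (sch (fibCat f η) (F.obj z))›
    haveI : IsAffine (sch (FibCat.fp G f) z) := IsAffine.of_isIso (eqToHom (sch_obj_eq (FibCat.fpSnd G f) z).symm)
    obtain ⟨n, t, m, hm, hm'⟩ := exists_chart_cover hZ.isStack.1 hxflp hxs z
    exact ⟨⟨ULift.{u} (Fin n), fun l => F.obj (x.obj (t l.down)), fun l => F.map (m l.down) ≫ i.hom,
      fun l => haffF _ (hm l.down),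
      ⟨fun l => (hcov m i hm').flat l.down, fun y => by
        obtain ⟨l, w, hw⟩ := (hcov m i hm').surj y
        exact ⟨⟨l⟩, w, hw⟩⟩⟩, (inferInstance : Finite (ULift.{u} (Fin n))),
      fun l => ⟨F.map (x.map (L09.Fib.toTerm (t l.down)))⟩⟩
  · haveI : IsAffine (sch (FibCat.overCat W) (idObj W)) := hW
    haveI : IsAffine (sch (FibCat.fp x x) v) := IsAffine.of_isIso (eqToHom (sch_obj_eq c (idObj W)))
    haveI : IsAffine (sch (FibCat.overCat U) v.obj.fst) := ‹IsAffine (sch (FibCat.fp x x) v)›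
    exact IsAffine.of_isIso (eqToHom (sch_obj_eq x v.obj.fst))
  · intro a ha p q
    obtain ⟨z, ⟨i⟩⟩ := exists_toFib_iso f G ι h𝒴.isStack.1 hι a
    obtain ⟨p', hp'⟩ := exists_toFib_map f G ι h𝒴.isStack.1 (z' := u₀) (i.hom ≫ p)
    obtain ⟨q', hq'⟩ := exists_toFib_map f G ι h𝒴.isStack.1 (z' := u₀) (i.hom ≫ q)
    have lift : ∀ r : z ⟶ u₀, ∃ (t : (FibCat.fp G f).p.obj z ⟶ U) (φ : z ⟶ x.obj (Over.mk t)),
        IsIso φ ∧ (∃ e, (FibCat.fp G f).p.map φ = eqToHom e) ∧ φ ≫ x.map (L09.Fib.toTerm (Over.mk t)) = r := by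
      intro r
      let t : (FibCat.fp G f).p.obj z ⟶ U := (FibCat.fp G f).p.map r ≫ eqToHom (x.w_obj (idObj U))
      have hfac : eqToHom (x.w_obj (Over.mk t)).symm ≫
          (FibCat.fp G f).p.map (x.map (L09.Fib.toTerm (Over.mk t))) = (FibCat.fp G f).p.map r := by
        haveI := (BasedFunctor.isHomLift_iff x ((FibCat.overCat U).p.map (L09.Fib.toTerm (Over.mk t)))
          (L09.Fib.toTerm (Over.mk t))).2 (IsHomLift.map _ _)
        rw [IsHomLift.fac' (FibCat.fp G f).p ((FibCat.overCat U).p.map (L09.Fib.toTerm (Over.mk t)))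
          (x.map (L09.Fib.toTerm (Over.mk t)))]
        rw [eqToHom_trans_assoc, eqToHom_refl, Category.id_comp]
        show ((FibCat.fp G f).p.map r ≫ eqToHom _) ≫ eqToHom _ = _
        rw [Category.assoc, eqToHom_trans, eqToHom_refl, Category.comp_id]
      obtain ⟨φ, ⟨hφ, hφ'⟩, -⟩ := existsUnique_factor hZ.isStack.1 r (x.map (L09.Fib.toTerm (Over.mk t))) _ hfac
      haveI : IsIso ((FibCat.fp G f).p.map φ) := by rw [hφ]; infer_instance
      haveI := hZ.isStack.1.isStronglyCartesian φ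
      exact ⟨t, φ, Functor.IsStronglyCartesian.isIso_of_base_isIso (FibCat.fp G f).p ((FibCat.fp G f).p.map φ) φ,
        ⟨_, hφ⟩, hφ'⟩
    obtain ⟨t₁, φ₁, hi₁, ⟨e₁, he₁⟩, hφ₁⟩ := lift p'
    obtain ⟨t₂, φ₂, hi₂, ⟨e₂, he₂⟩, hφ₂⟩ := lift q'
    have hprop : (FibCat.fp G f).p.IsHomLift (𝟙 ((FibCat.overCat U).p.obj (Over.mk t₁))) (inv φ₁ ≫ φ₂) := by
      refine IsHomLift.of_fac _ _ _ (x.w_obj _) (x.w_obj _) ?_
      have h₁ : (FibCat.fp G f).p.map (inv φ₁) = eqToHom e₁.symm := by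
        rw [Functor.map_inv]
        exact IsIso.inv_eq_of_hom_inv_id (by rw [he₁, eqToHom_trans, eqToHom_refl])
      rw [Functor.map_comp, h₁, he₂]
      simp only [eqToHom_trans]
      rfl
    let s : (FibCat.fp x x).obj :=
      ⟨{ fst := Over.mk t₁, snd := Over.mk t₂, iso := (asIso φ₁).symm ≪≫ asIso φ₂ }, hprop⟩
    haveI : IsAffine (sch (fibCat f η) (F.obj z)) := by
      haveI : IsIso (bmap (fibCat f η) i.hom) :=
        ⟨bmap (fibCat f η) i.inv, by rw [← bmap_comp, i.hom_inv_id, bmap_id], by rw [← bmap_comp, i.inv_hom_id, bmap_id]⟩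
      exact IsAffine.of_isIso (bmap (fibCat f η) i.hom)
    haveI : IsAffine (sch 𝒳 ((FibCat.fpSnd G f).obj z)) := ‹IsAffine (sch (fibCat f η) (F.obj z))›
    haveI : IsAffine (sch (FibCat.fp G f) z) := IsAffine.of_isIso (eqToHom (sch_obj_eq (FibCat.fpSnd G f) z).symm)
    haveI : IsAffine (sch (FibCat.fp x x) s) := ‹IsAffine (sch (FibCat.fp G f) z)›
    obtain ⟨n, t, m, hm, hm'⟩ := exists_chart_cover hQ.isStack.1 hcflp hcs s
    let μ : ∀ l, c.obj (t l) ⟶ v := fun l => c.map (L09.Fib.toTerm (t l))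
    let mz : ∀ l, x.obj (c.obj (t l)).obj.fst ⟶ z := fun l => x.map (m l).hom.fst ≫ inv φ₁
    have hmz : IsCov (fun l => bmap (FibCat.fp G f) (mz l)) := by
      haveI : IsIso (bmap (FibCat.fp G f) φ₁) := by
        show IsIso ((FibCat.fp G f).p.map φ₁).left
        rw [he₁]; infer_instance
      refine isCov_conj hm' (fun l => eqToHom (sch_obj_eq x (c.obj (t l)).obj.fst))
        (bmap (FibCat.fp G f) φ₁ ≫ eqToHom (sch_obj_eq x (Over.mk t₁))) fun l => ?_
      rw [← Category.assoc, ← bmap_comp, Category.assoc, IsIso.inv_hom_id, Category.comp_id]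
      exact bmap_map_comm x (m l).hom.fst rfl
    refine ⟨⟨ULift.{u} (Fin n), fun l => F.obj (x.obj (c.obj (t l.down)).obj.fst),
      fun l => F.map (mz l.down) ≫ i.hom, fun l => haffF _ ?_,
      ⟨fun l => (hcov mz i hmz).flat l.down, fun y => by
        obtain ⟨l, w, hw⟩ := (hcov mz i hmz).surj y
        exact ⟨⟨l⟩, w, hw⟩⟩⟩, fun l => ⟨0, F.map (x.map (μ l.down).hom.fst), ?_, ?_⟩⟩
    · haveI : IsAffine (sch (FibCat.overCat U) (c.obj (t l.down)).obj.fst) := hm l.down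
      exact IsAffine.of_isIso (eqToHom (sch_obj_eq x _))
    · rw [Category.assoc, ← hp', ← F.map_comp, ← F.map_comp, ← hφ₁]
      refine congrArg F.map ?_
      rw [Category.assoc, IsIso.inv_hom_id_assoc, ← x.toFunctor.map_comp, ← x.toFunctor.map_comp]
      exact congrArg x.map (Over.OverMorphism.ext ((Over.w _).trans (Over.w _).symm))
    · rw [Category.assoc, ← hq', ← F.map_comp, ← F.map_comp, ← hφ₂]
      refine congrArg F.map ?_
      simp only [mz, Category.assoc]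
      rw [reassoc_of% (μ l.down).hom.w, show inv φ₁ ≫ φ₂ ≫ x.map (L09.Fib.toTerm (Over.mk t₂)) =
        s.obj.iso.hom ≫ x.map (L09.Fib.toTerm (Over.mk t₂)) from (Category.assoc _ _ _).symm,
        reassoc_of% (m l.down).hom.w, ← x.toFunctor.map_comp, ← x.toFunctor.map_comp]
      exact congrArg (fun a => (c.obj (t l.down)).obj.iso.hom ≫ x.map a)
        (Over.OverMorphism.ext ((Over.w _).trans (Over.w _).symm))

end Groth.L23.RelGen
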