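import Groth.Agent.L23.RelGen.ChartPairs

/-!
# Atlases with flat charts of the double and triple overlaps
-/

universe w v u

open CategoryTheory CategoryTheory.Limits AlgebraicGeometry Opposite TopologicalSpace

set_option backward.isDefEq.respectTransparency false
set_option backward.isDefEq.respectTransparency.types false
set_option linter.style.haveILetI false
set_option linter.unusedSectionVars false

noncomputable section

namespace Groth.L23.RelGen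

open StMod Groth.L24.St
open Groth.L19.QCohFpqc (IsCov)

variable {S : Scheme.{u}}

/-- An affine atlas with an affine chart of the double overlaps, flat over the atlas, and one of the pairs of lifts. -/
structure Atlas3 (𝒵 : BasedCategory.{v, w} (Over S)) where
  /-- the chart -/
  x₀ : 𝒵.obj
  aff₀ : IsAffine (sch 𝒵 x₀)
  loc : ∀ (x : 𝒵.obj), IsAffine (sch 𝒵 x) → ∃ 𝒰 : Cover x, Finite 𝒰.ι ∧ ∀ l, Nonempty (𝒰.obj l ⟶ x₀)
  /-- the overlap -/
  ov : 𝒵.obj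
  affov : IsAffine (sch 𝒵 ov)
  /-- first projection -/
  a : ov ⟶ x₀
  /-- second projection -/
  b : ov ⟶ x₀
  flat_a : Flat (bmap 𝒵 a)
  flat_b : Flat (bmap 𝒵 b)
  pairs : ∀ (z : 𝒵.obj), IsAffine (sch 𝒵 z) → ∀ p q : z ⟶ x₀, ∃ 𝒰 : Cover z, Finite 𝒰.ι ∧ ∀ l,
    ∃ t : 𝒰.obj l ⟶ ov, t ≫ a = 𝒰.map l ≫ p ∧ t ≫ b = 𝒰.map l ≫ q
  /-- the overlap of lifts -/
  ov₂ : 𝒵.obj
  affov₂ : IsAffine (sch 𝒵 ov₂)
  /-- first lift -/
  π : ov₂ ⟶ ov
  /-- second lift -/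
  π' : ov₂ ⟶ ov
  flat_π : Flat (bmap 𝒵 π)
  flat_π' : Flat (bmap 𝒵 π')
  π_a : π ≫ a = π' ≫ a
  π_b : π ≫ b = π' ≫ b
  triple : ∀ (z : 𝒵.obj), IsAffine (sch 𝒵 z) → ∀ t t' : z ⟶ ov, t ≫ a = t' ≫ a → t ≫ b = t' ≫ b →
    ∃ 𝒰 : Cover z, Finite 𝒰.ι ∧ ∀ l, ∃ s : 𝒰.obj l ⟶ ov₂, s ≫ π = 𝒰.map l ≫ t ∧ s ≫ π' = 𝒰.map l ≫ t'

theorem flat_of_conj {X Y X' Y' : Scheme.{u}} {g : X ⟶ Y} {g' : X' ⟶ Y'} {i : X ⟶ X'} {j : Y ⟶ Y'} [IsIso i] [IsIso j]
    (e : g ≫ j = i ≫ g') (h : Flat g') : Flat g := by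
  haveI := h
  rw [show g = i ≫ g' ≫ inv j by rw [← Category.assoc, ← e, Category.assoc, IsIso.hom_inv_id, Category.comp_id]]
  infer_instance

theorem flat_bmap_chart {𝒬 : AlgSt.Cat S} {U : Over S} (x : FibCat.overCat U ⥤ᵇ 𝒬) {a b : (FibCat.overCat U).obj}
    (k : a ⟶ b) (h : Flat k.left.left) : Flat (bmap 𝒬 (x.map k)) :=
  flat_of_conj (bmap_map_comm x k rfl) (show Flat (bmap (FibCat.overCat U) k) from h)

theorem flat_bmap_of_overId {𝒬 : AlgSt.Cat S} {a b c : 𝒬.obj} (i : a ≅ b) (g : b ⟶ c) (h : Flat (bmap 𝒬 g)) :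
    Flat (bmap 𝒬 (i.hom ≫ g)) := by
  haveI : IsIso (bmap 𝒬 i.hom) :=
    ⟨bmap 𝒬 i.inv, by rw [← bmap_comp, i.hom_inv_id, bmap_id], by rw [← bmap_comp, i.inv_hom_id, bmap_id]⟩
  haveI := h
  rw [bmap_comp]
  infer_instance

theorem isQuasiSeparatedMor_chart {𝒬 : AlgSt.Cat S} {U V : Over S} [IsAffine U.left] [IsAffine V.left]
    (x : FibCat.overCat U ⥤ᵇ 𝒬) {P : 𝒬 ⥤ᵇ FibCat.overCat V} (hP : AlgSt.IsQuasiSeparatedMor P) :
    AlgSt.IsQuasiSeparatedMor x := by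
  obtain ⟨k, ⟨ik⟩, -⟩ := exists_overMap_iso (BasedFunctor.comp x P)
  have hk : AlgSt.RepByAlgSpWith (AlgSp.RepWith @IsSeparated) (AlgSt.overMap k) :=
    repWith_overMap (R := @IsSeparated) inferInstance
  have hk' : AlgSt.RepByAlgSpWith AlgSp.IsQuasiSeparatedMor (AlgSt.overMap k) :=
    Groth.L24.St.repWith_mono (fun _ _ _ _ h =>
      Groth.L23.repWith_mono (fun φ (_ : IsClosedImmersion φ) => inferInstanceAs (QuasiCompact φ))
        ((Groth.L23.isSeparatedMor_iff h.1).2 h)) hk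
  have hc := (repWith_congr ik).2 hk'
  refine isQuasiSeparatedMor_of_comp ((isQuasiSeparatedMor_iff_rep (repWith_rep1 hc)).2 hc) ?_
  exact Groth.L24.St.repWith_mono (fun _ _ _ _ h => h.2) hP

theorem toFib_map_injective {𝒳 𝒴 : AlgSt.Cat S} (f : 𝒳 ⥤ᵇ 𝒴) {η : 𝒴.obj}
    (G : FibCat.overCat (𝒴.p.obj η) ⥤ᵇ 𝒴) (ι : G.obj (idObj (𝒴.p.obj η)) ≅ η) {z z' : (FibCat.fp G f).obj}
    {k k' : z ⟶ z'} (h : (toFib f G ι).map k = (toFib f G ι).map k') : k = k' := by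
  have h₁ : k.hom.snd = k'.hom.snd := congrArg CommaMorphism.left h
  have e₁ := IsHomLift.fac' 𝒳.p ((FibCat.fp G f).p.map k) k.hom.snd
  have e₂ := IsHomLift.fac' 𝒳.p ((FibCat.fp G f).p.map k') k'.hom.snd
  have e₃ := e₁.symm.trans ((congrArg 𝒳.p.map h₁).trans e₂)
  rw [cancel_epi, cancel_mono] at e₃
  refine ObjectProperty.hom_ext _ (CategoricalPullback.hom_ext ?_ h₁)
  exact Over.OverMorphism.ext e₃

set_option maxHeartbeats 1600000 in
/-- The category over an affine object has an atlas with charts of the double and triple overlaps. -/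
theorem exists_atlas3 {𝒳 𝒴 : AlgSt.Cat S} (h𝒳 : AlgSt.IsAlgStack Scheme.fppfPrecoverage 𝒳)
    (h𝒴 : AlgSt.IsAlgStack Scheme.fppfPrecoverage 𝒴) (f : 𝒳 ⥤ᵇ 𝒴)
    (hfqc : AlgSt.IsQuasiCompactMor Scheme.fppfPrecoverage f) (hfqs : AlgSt.IsQuasiSeparatedMor f)
    (η : 𝒴.obj) [IsAffine (sch 𝒴 η)] : Nonempty (Atlas3 (fibCat f η)) := by
  obtain ⟨G, ι, hι⟩ := exists_overCat_functor h𝒴.isStack.1 η rfl
  have hT := isAlgStack_overCat (𝒴.p.obj η)
  haveI : CompactSpace (𝒴.p.obj η).left := inferInstanceAs (CompactSpace (sch 𝒴 η))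
  have hZ := isAlgStack_fp hT h𝒳 h𝒴 G f
  obtain ⟨U, x, hU, hxsm, hxs⟩ := hfqc _ hT (isQuasiCompact_overCat _) G
  haveI := hU
  haveI : IsAffine (𝒴.p.obj η).left := inferInstanceAs (IsAffine (sch 𝒴 η))
  have hxflp : AlgSt.RepByAlgSpWith L09.Artin.Res.FLP x :=
    Groth.L24.St.repWith_mono (fun _ _ _ _ h => L09.Artin.Res.flp_of_smooth h) hxsm
  have hxqc : AlgSt.IsQuasiCompactMor Scheme.fppfPrecoverage x := by
    obtain ⟨k, ⟨ik⟩, -⟩ := exists_overMap_iso (BasedFunctor.comp x (FibCat.fpFst G f))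
    haveI : IsAffine (𝒴.p.obj η).left := inferInstanceAs (IsAffine (sch 𝒴 η))
    haveI : QuasiCompact k.left := inferInstance
    have hk : AlgSt.IsQuasiCompactMor Scheme.fppfPrecoverage (AlgSt.overMap k) :=
      have h₀ : AlgSt.RepByAlgSpWith AlgSp.IsQuasiCompactMor (AlgSt.overMap k) :=
        Groth.L24.St.repWith_mono (fun _ _ _ _ h => Groth.L23.isQuasiCompactMor_of_repWith h)
          (repWith_overMap (R := @QuasiCompact) ‹_›)
      (repWith_qcMor_iff (overCat_isFibGrpd U) (overCat_isFibGrpd _) (repWith_rep1 h₀)).1 h₀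
    refine isQuasiCompactMor_of_comp (isAlgStack_overCat U) hZ hT (g := FibCat.fpFst G f)
      (isQuasiCompactMor_congr _ ik.symm hk) ?_
    exact Groth.L24.St.repWith_mono (fun _ _ _ _ h => h.1) (diag_fpFst_repWith G hfqs)
  obtain ⟨W, c, hW, hcsm, hcs⟩ := hxqc _ (isAlgStack_overCat U) (isQuasiCompact_overCat U) x
  haveI := hW
  have hcflp : AlgSt.RepByAlgSpWith L09.Artin.Res.FLP c :=
    Groth.L24.St.repWith_mono (fun _ _ _ _ h => L09.Artin.Res.flp_of_smooth h) hcsm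
  have hQ := isAlgStack_fp (isAlgStack_overCat U) (isAlgStack_overCat U) hZ x x
  have hcqc : AlgSt.IsQuasiCompactMor Scheme.fppfPrecoverage c := by
    obtain ⟨k, ⟨ik⟩, -⟩ := exists_overMap_iso (BasedFunctor.comp c (FibCat.fpFst x x))
    haveI : QuasiCompact k.left := inferInstance
    have hk : AlgSt.IsQuasiCompactMor Scheme.fppfPrecoverage (AlgSt.overMap k) :=
      have h₀ : AlgSt.RepByAlgSpWith AlgSp.IsQuasiCompactMor (AlgSt.overMap k) :=
        Groth.L24.St.repWith_mono (fun _ _ _ _ h => Groth.L23.isQuasiCompactMor_of_repWith h)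
          (repWith_overMap (R := @QuasiCompact) ‹_›)
      (repWith_qcMor_iff (overCat_isFibGrpd W) (overCat_isFibGrpd _) (repWith_rep1 h₀)).1 h₀
    refine isQuasiCompactMor_of_comp (isAlgStack_overCat W) hQ (isAlgStack_overCat U) (g := FibCat.fpFst x x)
      (isQuasiCompactMor_congr _ ik.symm hk) ?_
    refine diag_fpFst_repWith x ?_
    refine Groth.L24.St.repWith_mono (fun _ _ _ _ h => h.1)
      (isQuasiSeparatedMor_chart x (diag_fpFst_repWith G hfqs))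
  obtain ⟨W₂, d, hW₂, hdsm, hds⟩ := hcqc _ (isAlgStack_overCat W) (isQuasiCompact_overCat W) c
  haveI := hW₂
  have hdflp : AlgSt.RepByAlgSpWith L09.Artin.Res.FLP d :=
    Groth.L24.St.repWith_mono (fun _ _ _ _ h => L09.Artin.Res.flp_of_smooth h) hdsm
  have hQ₂ := isAlgStack_fp (isAlgStack_overCat W) (isAlgStack_overCat W) hQ c c
  let u₀ := x.obj (idObj U)
  let F := toFib f G ι
  let v := c.obj (idObj W)
  let v₂ := d.obj (idObj W₂)
  have haffF : ∀ z : (FibCat.fp G f).obj, IsAffine (sch (FibCat.fp G f) z) → IsAffine (sch (fibCat f η) (F.obj z)) :=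
    fun z hz => IsAffine.of_isIso (eqToHom (sch_obj_eq (FibCat.fpSnd G f) z))
  have haffU : IsAffine (sch (FibCat.fp G f) u₀) := isAffine_chart x _ hU
  haveI : IsAffine (sch (FibCat.fp x x) v) := isAffine_chart c _ hW
  haveI hv : IsAffine (sch (FibCat.overCat U) v.obj.fst) := ‹IsAffine (sch (FibCat.fp x x) v)›
  haveI : IsAffine (sch (FibCat.fp c c) v₂) := isAffine_chart d _ hW₂
  haveI : IsAffine (sch (FibCat.overCat W) v₂.obj.fst) := ‹IsAffine (sch (FibCat.fp c c) v₂)›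
  haveI : IsAffine (sch (FibCat.fp x x) (c.obj v₂.obj.fst)) := isAffine_chart c _ ‹_›
  haveI hv₂ : IsAffine (sch (FibCat.overCat U) (c.obj v₂.obj.fst).obj.fst) :=
    ‹IsAffine (sch (FibCat.fp x x) (c.obj v₂.obj.fst))›
  have hflatF : ∀ {z z' : (FibCat.fp G f).obj} (k : z ⟶ z'), Flat (bmap (FibCat.fp G f) k) →
      Flat (bmap (fibCat f η) (F.map k)) := fun k hk => flat_of_conj (bmap_toFib f G ι k) hk
  have hxfl : AlgSt.RepByAlgSpWith (AlgSp.LocP @Flat) x :=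
    Groth.L24.St.repWith_mono (fun _ _ _ _ h => h.1) hxflp
  have hcfl : AlgSt.RepByAlgSpWith (AlgSp.LocP @Flat) c :=
    Groth.L24.St.repWith_mono (fun _ _ _ _ h => h.1) hcflp
  have hdfl : AlgSt.RepByAlgSpWith (AlgSp.LocP @Flat) d :=
    Groth.L24.St.repWith_mono (fun _ _ _ _ h => h.1) hdflp
  have hcov : ∀ {κ : Type} {z : (FibCat.fp G f).obj} {y : κ → (FibCat.fp G f).obj} (m : ∀ l, y l ⟶ z)
      {a : (fibCat f η).obj} (i : F.obj z ≅ a), IsCov (fun l => bmap (FibCat.fp G f) (m l)) →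
        IsCov (fun l => bmap (fibCat f η) (F.map (m l) ≫ i.hom)) := by
    intro κ z y m a i hm
    haveI : IsIso (bmap (fibCat f η) i.inv) :=
      ⟨bmap (fibCat f η) i.hom, by rw [← bmap_comp, i.inv_hom_id, bmap_id], by rw [← bmap_comp, i.hom_inv_id, bmap_id]⟩
    refine isCov_conj hm (fun l => eqToHom (sch_obj_eq (FibCat.fpSnd G f) (y l)))
      (bmap (fibCat f η) i.inv ≫ eqToHom (sch_obj_eq (FibCat.fpSnd G f) z)) fun l => ?_
    rw [← Category.assoc, ← bmap_comp, Category.assoc, i.hom_inv_id, Category.comp_id]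
    exact bmap_toFib f G ι (m l)
  have hiso : ∀ a : (fibCat f η).obj, IsAffine (sch (fibCat f η) a) →
      ∃ (z : (FibCat.fp G f).obj) (_ : F.obj z ≅ a), IsAffine (sch (FibCat.fp G f) z) := by
    intro a ha
    obtain ⟨z, ⟨i⟩⟩ := exists_toFib_iso f G ι h𝒴.isStack.1 hι a
    haveI : IsIso (bmap (fibCat f η) i.hom) :=
      ⟨bmap (fibCat f η) i.inv, by rw [← bmap_comp, i.hom_inv_id, bmap_id], by rw [← bmap_comp, i.inv_hom_id, bmap_id]⟩
    haveI : IsAffine (sch (fibCat f η) (F.obj z)) := IsAffine.of_isIso (bmap (fibCat f η) i.hom)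
    haveI : IsAffine (sch 𝒳 ((FibCat.fpSnd G f).obj z)) := ‹IsAffine (sch (fibCat f η) (F.obj z))›
    exact ⟨z, i, IsAffine.of_isIso (eqToHom (sch_obj_eq (FibCat.fpSnd G f) z).symm)⟩
  have hterm₁ : (c.map (L09.Fib.toTerm v₂.obj.fst)).hom.fst ≫ L09.Fib.toTerm v.obj.fst =
      (v₂.obj.iso.hom ≫ c.map (L09.Fib.toTerm v₂.obj.snd)).hom.fst ≫ L09.Fib.toTerm v.obj.fst :=
    Over.OverMorphism.ext ((Over.w _).trans (Over.w _).symm)
  refine ⟨{
    x₀ := F.obj u₀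
    aff₀ := haffF _ haffU
    loc := ?_
    ov := F.obj (x.obj v.obj.fst)
    affov := haffF _ (isAffine_chart x _ hv)
    a := F.map (x.map (L09.Fib.toTerm v.obj.fst))
    b := F.map (v.obj.iso.hom ≫ x.map (L09.Fib.toTerm v.obj.snd))
    flat_a := hflatF _ (flat_bmap_chart x _ ?_)
    flat_b := hflatF _ (flat_bmap_of_overId v.obj.iso _ (flat_bmap_chart x _ ?_))
    pairs := ?_
    ov₂ := F.obj (x.obj (c.obj v₂.obj.fst).obj.fst)
    affov₂ := haffF _ (isAffine_chart x _ hv₂)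
    π := F.map (x.map (c.map (L09.Fib.toTerm v₂.obj.fst)).hom.fst)
    π' := F.map (x.map (v₂.obj.iso.hom ≫ c.map (L09.Fib.toTerm v₂.obj.snd)).hom.fst)
    flat_π := hflatF _ (flat_bmap_chart x _ ?_)
    flat_π' := hflatF _ (flat_bmap_chart x _ ?_)
    π_a := ?_
    π_b := ?_
    triple := ?_ }⟩
  · intro a ha
    obtain ⟨z, i, hz⟩ := hiso a ha
    haveI := hz
    obtain ⟨n, t, m, hm, hm'⟩ := exists_chart_cover hZ.isStack.1 hxflp hxs z
    exact ⟨⟨ULift.{u} (Fin n), fun l => F.obj (x.obj (t l.down)), fun l => F.map (m l.down) ≫ i.hom,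
      fun l => haffF _ (hm l.down),
      ⟨fun l => (hcov m i hm').flat l.down, fun y => by
        obtain ⟨l, w, hw⟩ := (hcov m i hm').surj y
        exact ⟨⟨l⟩, w, hw⟩⟩⟩, (inferInstance : Finite (ULift.{u} (Fin n))),
      fun l => ⟨F.map (x.map (L09.Fib.toTerm (t l.down)))⟩⟩
  · exact flat_chart_proj hQ.isStack.1 hcfl (repWith_fpFst x hxfl)
  · exact flat_chart_proj hQ.isStack.1 hcfl (repWith_fpSnd x hxfl)
  · intro a ha p q
    obtain ⟨z, i, hz⟩ := hiso a ha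
    haveI := hz
    obtain ⟨p', hp'⟩ := exists_toFib_map f G ι h𝒴.isStack.1 (z' := u₀) (i.hom ≫ p)
    obtain ⟨q', hq'⟩ := exists_toFib_map f G ι h𝒴.isStack.1 (z' := u₀) (i.hom ≫ q)
    obtain ⟨n, o, m, k, ho, hm, hk⟩ := exists_pairs_cover hZ.isStack.1 x hQ.isStack.1 c hcflp hcs z p' q'
    refine ⟨⟨ULift.{u} (Fin n), fun l => F.obj (o l.down), fun l => F.map (m l.down) ≫ i.hom,
      fun l => haffF _ (ho l.down),
      ⟨fun l => (hcov m i hm).flat l.down, fun y => by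
        obtain ⟨l, w, hw⟩ := (hcov m i hm).surj y
        exact ⟨⟨l⟩, w, hw⟩⟩⟩, (inferInstance : Finite (ULift.{u} (Fin n))),
      fun l => ⟨F.map (k l.down), ?_, ?_⟩⟩
    · show F.map (k l.down) ≫ F.map _ = (F.map (m l.down) ≫ i.hom) ≫ p
      rw [Category.assoc, ← hp', ← F.map_comp, ← F.map_comp]
      exact congrArg F.map (hk l.down).1
    · show F.map (k l.down) ≫ F.map _ = (F.map (m l.down) ≫ i.hom) ≫ q
      rw [Category.assoc, ← hq', ← F.map_comp, ← F.map_comp]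
      exact congrArg F.map (hk l.down).2
  · show Flat (bmap (FibCat.fp x x) (c.map (L09.Fib.toTerm v₂.obj.fst)))
    exact flat_bmap_chart c _ (flat_chart_proj hQ₂.isStack.1 hdfl (repWith_fpFst c hcfl))
  · show Flat (bmap (FibCat.fp x x) (v₂.obj.iso.hom ≫ c.map (L09.Fib.toTerm v₂.obj.snd)))
    exact flat_bmap_of_overId v₂.obj.iso _
      (flat_bmap_chart c _ (flat_chart_proj hQ₂.isStack.1 hdfl (repWith_fpSnd c hcfl)))
  · show F.map _ ≫ F.map _ = F.map _ ≫ F.map _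
    rw [← F.map_comp, ← F.map_comp, ← x.toFunctor.map_comp, ← x.toFunctor.map_comp, hterm₁]
  · show F.map _ ≫ F.map _ = F.map _ ≫ F.map _
    rw [← F.map_comp, ← F.map_comp, reassoc_of% (c.map (L09.Fib.toTerm v₂.obj.fst)).hom.w,
      reassoc_of% (v₂.obj.iso.hom ≫ c.map (L09.Fib.toTerm v₂.obj.snd)).hom.w, ← x.toFunctor.map_comp,
      ← x.toFunctor.map_comp]
    exact congrArg (fun a => F.map ((c.obj v₂.obj.fst).obj.iso.hom ≫ x.map a))
      (Over.OverMorphism.ext ((Over.w _).trans (Over.w _).symm))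
  · intro a ha t t' ea eb
    obtain ⟨z, i, hz⟩ := hiso a ha
    haveI := hz
    obtain ⟨t₀, ht₀⟩ := exists_toFib_map f G ι h𝒴.isStack.1 (z' := x.obj v.obj.fst) (i.hom ≫ t)
    obtain ⟨t₀', ht₀'⟩ := exists_toFib_map f G ι h𝒴.isStack.1 (z' := x.obj v.obj.fst) (i.hom ≫ t')
    have ea₀ : t₀ ≫ x.map (L09.Fib.toTerm v.obj.fst) = t₀' ≫ x.map (L09.Fib.toTerm v.obj.fst) := by
      refine toFib_map_injective f G ι ?_
      show F.map (t₀ ≫ _) = F.map (t₀' ≫ _)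
      rw [F.map_comp t₀, F.map_comp t₀', ht₀, ht₀', Category.assoc, Category.assoc, ea]
    have eb₀ : t₀ ≫ v.obj.iso.hom ≫ x.map (L09.Fib.toTerm v.obj.snd) =
        t₀' ≫ v.obj.iso.hom ≫ x.map (L09.Fib.toTerm v.obj.snd) := by
      refine toFib_map_injective f G ι ?_
      show F.map (t₀ ≫ _) = F.map (t₀' ≫ _)
      rw [F.map_comp t₀, F.map_comp t₀', ht₀, ht₀', Category.assoc, Category.assoc, eb]
    obtain ⟨n, o, m, k, ho, hm, hk⟩ :=
      exists_triple_cover hZ.isStack.1 x hQ.isStack.1 c hQ₂.isStack.1 d hdflp hds z t₀ t₀' ea₀ eb₀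
    refine ⟨⟨ULift.{u} (Fin n), fun l => F.obj (o l.down), fun l => F.map (m l.down) ≫ i.hom,
      fun l => haffF _ (ho l.down),
      ⟨fun l => (hcov m i hm).flat l.down, fun y => by
        obtain ⟨l, w, hw⟩ := (hcov m i hm).surj y
        exact ⟨⟨l⟩, w, hw⟩⟩⟩, (inferInstance : Finite (ULift.{u} (Fin n))),
      fun l => ⟨F.map (k l.down), ?_, ?_⟩⟩
    · show F.map (k l.down) ≫ F.map _ = (F.map (m l.down) ≫ i.hom) ≫ t
      rw [Category.assoc, ← ht₀, ← F.map_comp, ← F.map_comp]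
      exact congrArg F.map (hk l.down).1
    · show F.map (k l.down) ≫ F.map _ = (F.map (m l.down) ≫ i.hom) ≫ t'
      rw [Category.assoc, ← ht₀', ← F.map_comp, ← F.map_comp]
      exact congrArg F.map (hk l.down).2

end Groth.L23.RelGen
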