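import Groth.Agent.L23.RelGen.Bc
import Groth.Agent.L17.BC.PullSec

/-!
# The module on a category over schemes pulled back from a scheme
-/

universe w v u

open CategoryTheory CategoryTheory.Limits AlgebraicGeometry Opposite TopologicalSpace

set_option backward.isDefEq.respectTransparency false
set_option backward.isDefEq.respectTransparency.types false
set_option linter.style.haveILetI false
set_option linter.unusedSectionVars false

noncomputable section

namespace Groth.L23.RelGen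

open StMod
open Groth.L18.Frame (rs ro rs_rs rs_self rs_smul pull)
open Groth.L17.BC.PullSec (app_rs comp_pull congr_pull)

variable {X Y Z : Scheme.{u}}

/-- Morphisms out of a pullback are determined on pulled back sections. -/
theorem hom_ext_pull {p : Y ⟶ X} {M : X.Modules} {N : Y.Modules} (k k' : (Scheme.Modules.pullback p).obj M ⟶ N)
    (h : ∀ (U : X.Opens) (m : Γ(M, U)), k.app (p ⁻¹ᵁ U) (pull p M U m) = k'.app (p ⁻¹ᵁ U) (pull p M U m)) :
    k = k' := by
  refine ((Scheme.Modules.pullbackPushforwardAdjunction p).homEquiv M N).injective ?_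
  refine Scheme.Modules.hom_ext _ _ fun U => ?_
  ext m
  rw [Adjunction.homEquiv_unit, Adjunction.homEquiv_unit]
  exact h U m

/-- Restriction of pullbacks along a morphism over a scheme. -/
def pullMap {g : Z ⟶ Y} {p : Y ⟶ X} {p' : Z ⟶ X} (e : g ≫ p = p') (M : X.Modules) :
    (Scheme.Modules.pullback p).obj M ⟶
      (Scheme.Modules.pushforward g).obj ((Scheme.Modules.pullback p').obj M) :=
  ((Scheme.Modules.pullbackPushforwardAdjunction p).homEquiv _ _).symm
    ((Scheme.Modules.pullbackPushforwardAdjunction p').unit.app M ≫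
      (Scheme.Modules.pushforwardCongr e.symm).hom.app _ ≫ (Scheme.Modules.pushforwardComp g p).inv.app _)

theorem le_pull {g : Z ⟶ Y} {p : Y ⟶ X} {p' : Z ⟶ X} (e : g ≫ p = p') (U : X.Opens) :
    g ⁻¹ᵁ (p ⁻¹ᵁ U) ≤ p' ⁻¹ᵁ U := by
  rw [← e, Scheme.Hom.comp_preimage]

theorem pullMap_pull {g : Z ⟶ Y} {p : Y ⟶ X} {p' : Z ⟶ X} (e : g ≫ p = p') (M : X.Modules) (U : X.Opens)
    (m : Γ(M, U)) :
    (pullMap e M).app (p ⁻¹ᵁ U) (pull p M U m) =
      rs ((Scheme.Modules.pullback p').obj M) (le_pull e U) (pull p' M U m) := by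
  have h := congr($(congrArg (fun k => Scheme.Modules.Hom.app k U)
    (((Scheme.Modules.pullbackPushforwardAdjunction p).homEquiv_unit _ _ (pullMap e M)).symm.trans
      (Equiv.apply_symm_apply _ _))) m)
  refine h.trans ?_
  simp only [Scheme.Modules.Hom.comp_app, Scheme.Modules.pushforwardComp_inv_app_app,
    Scheme.Modules.pushforwardCongr_hom_app_app, Category.comp_id]
  rfl

theorem isIso_pullMap {g : Z ⟶ Y} {p : Y ⟶ X} {p' : Z ⟶ X} (e : g ≫ p = p') (M : X.Modules) :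
    IsIso (((Scheme.Modules.pullbackPushforwardAdjunction g).homEquiv _ _).symm (pullMap e M)) := by
  have h : ((Scheme.Modules.pullbackPushforwardAdjunction g).homEquiv _ _)
      ((Scheme.Modules.pullbackComp g p).hom.app M ≫ (Scheme.Modules.pullbackCongr e).hom.app M) = pullMap e M := by
    refine hom_ext_pull _ _ fun U m => ?_
    rw [pullMap_pull, Adjunction.homEquiv_unit]
    show ((Scheme.Modules.pullbackCongr e).hom.app M).app _
      (((Scheme.Modules.pullbackComp g p).hom.app M).app (g ⁻¹ᵁ (p ⁻¹ᵁ U)) (pull g _ (p ⁻¹ᵁ U) (pull p M U m))) = _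
    rw [comp_pull]
    have h₁ := congr_pull e M U m (g ⁻¹ᵁ (p ⁻¹ᵁ U)) (le_of_eq (Scheme.Hom.comp_preimage g p U).symm) (le_pull e U)
    rwa [show rs ((Scheme.Modules.pullback (g ≫ p)).obj M) _ (pull (g ≫ p) M U m) = pull (g ≫ p) M U m from
      rs_self _ _ _] at h₁
  rw [← h, Equiv.symm_apply_apply]
  infer_instance

theorem pullMap_congr {g g' : Z ⟶ Y} {p : Y ⟶ X} {p' : Z ⟶ X} (e : g ≫ p = p') (e' : g' ≫ p = p') (M : X.Modules)
    (h : g = g') (U : Y.Opens) (m : Γ((Scheme.Modules.pullback p).obj M, U)) {W : Z.Opens} (le : W ≤ g ⁻¹ᵁ U)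
    (le' : W ≤ g' ⁻¹ᵁ U) :
    rs ((Scheme.Modules.pullback p').obj M) le ((pullMap e M).app U m) =
      rs ((Scheme.Modules.pullback p').obj M) le' ((pullMap e' M).app U m) := by
  subst h; rfl

variable {S : Scheme.{u}} {𝒳 : BasedCategory.{v, w} (Over S)}

/-- The module pulled back from a scheme to a category over it. -/
def pullMod (b : ∀ x : 𝒳.obj, sch 𝒳 x ⟶ X) (hb : ∀ {x' x : 𝒳.obj} (φ : x' ⟶ x), bmap 𝒳 φ ≫ b x = b x')
    (M : X.Modules) : Mod 𝒳 where
  obj x := (Scheme.Modules.pullback (b x)).obj M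
  map φ _ hg := pullMap (hg ▸ hb φ) M
  map_id x := by
    refine hom_ext_pull _ _ fun U m => ?_
    simp only [Scheme.Modules.Hom.comp_app, Scheme.Modules.pushforwardId_hom_app_app, Category.comp_id]
    refine (pullMap_pull _ M U m).trans ?_
    exact rs_self _ _ _
  map_comp {x'' x' x} ψ φ h g hh hg := by
    refine hom_ext_pull _ _ fun U m => ?_
    simp only [Scheme.Modules.Hom.comp_app, Scheme.Modules.pushforwardComp_hom_app_app,
      Scheme.Modules.pushforward_map_app]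
    refine (pullMap_pull _ M U m).trans ?_
    show _ = (pullMap (hh ▸ hb ψ : h ≫ b x' = b x'') M).app (g ⁻¹ᵁ (b x ⁻¹ᵁ U))
      ((pullMap (hg ▸ hb φ : g ≫ b x = b x') M).app (b x ⁻¹ᵁ U) (pull (b x) M U m))
    rw [pullMap_pull (hg ▸ hb φ : g ≫ b x = b x'), app_rs, pullMap_pull]
    exact (rs_rs _ _ _ _).symm

theorem isQCoh_pullMod (b : ∀ x : 𝒳.obj, sch 𝒳 x ⟶ X)
    (hb : ∀ {x' x : 𝒳.obj} (φ : x' ⟶ x), bmap 𝒳 φ ≫ b x = b x') (M : X.Modules) [Coh.IsQCoh M] :
    StMod.isQCoh 𝒳 (pullMod b hb M) :=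
  ⟨fun _ _ φ _ hg => isIso_pullMap (hg ▸ hb φ) M, fun x => Groth.L16.AffineBC.isQCoh_pullback (b x) M⟩

theorem mapTop_pullMod (b : ∀ x : 𝒳.obj, sch 𝒳 x ⟶ X)
    (hb : ∀ {x' x : 𝒳.obj} (φ : x' ⟶ x), bmap 𝒳 φ ≫ b x = b x') (M : X.Modules) {x' x : 𝒳.obj} (φ : x' ⟶ x)
    (m : Γ(M, ⊤)) : (pullMod b hb M).mapTop φ (pull (b x) M ⊤ m) = pull (b x') M ⊤ m :=
  (pullMap_pull (hb φ) M ⊤ m).trans (rs_self _ _ _)

end Groth.L23.RelGen
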