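import Groth.Agent.L23.RelGen.FibCat

/-!
# Transfer of generation along flat morphisms of affine objects
-/

universe w' v' w v u

open CategoryTheory CategoryTheory.Limits AlgebraicGeometry Opposite TopologicalSpace

set_option backward.isDefEq.respectTransparency false
set_option backward.isDefEq.respectTransparency.types false
set_option linter.style.haveILetI false
set_option linter.unusedSectionVars false

noncomputable section

namespace Groth.L23.RelGen

open StMod

variable {S : Scheme.{u}} {𝒳 : BasedCategory.{v, w} (Over S)} {𝒴 : BasedCategory.{v', w'} (Over S)}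

/-- Comparison maps of an inverse image to the category over an object. -/
theorem mapTop_fibFst (f : 𝒳 ⥤ᵇ 𝒴) (η : 𝒴.obj) (F : Mod 𝒳) {x' x : (fibCat f η).obj} (φ : x' ⟶ x)
    (m : Sec (Mod.comap (fibFst f η) F) x) :
    (Mod.comap (fibFst f η) F).mapTop φ m = F.mapTop φ.left m := by
  refine congrArg (fun k => Scheme.Modules.Hom.app k ⊤ m) ?_
  rw [Mod.comap_map]
  exact castMap_rfl_self _ _

theorem mapTop_fibFst_comp (f : 𝒳 ⥤ᵇ 𝒴) {η' η : 𝒴.obj} (β : η' ⟶ η) (F : Mod 𝒳) {y' y : (fibCat f η').obj}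
    (φ : y' ⟶ y) (m : Sec (Mod.comap (fibFst f η') F) y) :
    (Mod.comap (fibFst f η') F).mapTop φ m = (Mod.comap (fibFst f η) F).mapTop ((fibComp f β).map φ) m := by
  have e₁ := mapTop_fibFst f η' F φ m
  have e₂ := mapTop_fibFst f η F ((fibComp f β).map φ) m
  have e₃ : ((fibComp f β).map φ).left = φ.left := rfl
  rw [e₃] at e₂
  exact e₁.trans e₂.symm

theorem isFinPres_fibFst (f : 𝒳 ⥤ᵇ 𝒴) (η : 𝒴.obj) {F : Mod 𝒳} (hF : F.IsFinPres) :
    (Mod.comap (fibFst f η) F).IsFinPres := fun x => hF x.left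

theorem isPushout_hom {P X Y Z : Scheme.{u}} [IsAffine X] [IsAffine Y] [IsAffine Z] {fst : P ⟶ X} {snd : P ⟶ Y}
    {f : X ⟶ Z} {g : Y ⟶ Z} (H : IsPullback fst snd f g) :
    letI := g.appTop.hom.toAlgebra
    IsPushout (CommRingCat.ofHom (algebraMap ↥Γ(Z, ⊤) ↥Γ(Y, ⊤))) (CommRingCat.ofHom f.appTop.hom)
      (CommRingCat.ofHom snd.appTop.hom) (CommRingCat.ofHom fst.appTop.hom) :=
  isPushout_appTop_of_isPullback H.flip

set_option maxHeartbeats 1600000 in
/-- A morphism killing every morphism from a finitely presented module still does so after restriction to an affine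
object flat over an affine object. -/
theorem kill_fibComp (h : FibCat.IsFibGrpd 𝒳.p) (h' : FibCat.IsFibGrpd 𝒴.p) {f : 𝒳 ⥤ᵇ 𝒴} {η' η : 𝒴.obj}
    (β : η' ⟶ η) [IsAffine (sch 𝒴 η)] [IsAffine (sch 𝒴 η')] [Flat (bmap 𝒴 β)]
    (A : Atlas (fibCat f η)) (E : QCoh 𝒳) (hfp : E.obj.IsFinPres) {M N : QCoh (fibCat f η)} (u : M ⟶ N)
    (hu : ∀ φ : (Mod.comap (fibFst f η) E.obj) ⟶ M.obj, φ ≫ u.hom = 0)
    (φ' : Mod.comap (fibFst f η') E.obj ⟶ Mod.comap (fibComp f β) M.obj) :
    φ' ≫ Mod.comapMap (fibComp f β) u.hom = 0 := by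
  have hg := isFibGrpd_fibCat h f η
  set Eη : Mod (fibCat f η) := Mod.comap (fibFst f η) E.obj with hEη
  have hE : Eη.IsCartesian := isCartesian_comap E.property.1
  have hEq : Eη.IsLocQCoh := isLocQCoh_comap E.property.2
  have hM := M.property.1
  have hMq := M.property.2
  let L : ∀ y : (fibCat f η').obj,
      Sec Eη ((fibComp f β).obj y) →ₗ[Fn ((fibComp f β).obj y)] Sec M.obj ((fibComp f β).obj y) := fun y =>
    { toFun := fun m => (φ'.app y).app ⊤ m
      map_add' := fun a b => map_add _ a b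
      map_smul' := fun r a => (φ'.app y).app_smul r a }
  have hL : ∀ {y' y : (fibCat f η').obj} (φ : y' ⟶ y), IsExt ((fibComp f β).map φ) (L y) (L y') := by
    intro y' y φ m
    have := Mod.mapTop_app φ' φ m
    rw [mapTop_fibComp, mapTop_fibFst_comp f β] at this
    exact this.symm
  haveI := A.aff₀
  haveI := A.affw
  obtain ⟨x₀', q₀, H₀, l₀⟩ := exists_bc h h' β A.x₀
  choose w' q H lq using fun k => exists_bc h h' β (A.w k)
  haveI : IsAffine (sch (fibCat f η) ((fibComp f β).obj x₀')) := IsAffine.of_isIso H₀.isoPullback.hom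
  haveI hw' : ∀ k, IsAffine (sch (fibCat f η) ((fibComp f β).obj (w' k))) :=
    fun k => IsAffine.of_isIso (H k).isoPullback.hom
  haveI hq₀ : Flat (bmap (fibCat f η) q₀) := MorphismProperty.of_isPullback H₀.flip ‹Flat (bmap 𝒴 β)›
  have hq : ∀ k, Flat (bmap (fibCat f η) (q k)) :=
    fun k => MorphismProperty.of_isPullback (H k).flip ‹Flat (bmap 𝒴 β)›
  choose a' ha' using fun k => l₀ (w' k) (q k ≫ A.a k)
  choose b' hb' using fun k => l₀ (w' k) (q k ≫ A.b k)
  have hzero : ∀ m, (u.hom.app ((fibComp f β).obj x₀')).app ⊤ (L x₀' m) = 0 := by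
    letI := (fnMap β).toAlgebra
    haveI : Module.Flat ↥Γ(sch 𝒴 η, ⊤) ↥Γ(sch 𝒴 η', ⊤) := fnMap_flat β
    have hbase : ∀ {z x : (fibCat f η).obj} (t : z ⟶ x) r,
        (toBase z).appTop.hom r = fnMap t ((toBase x).appTop.hom r) := fun t r => by
      rw [← bmap_toBase t, Scheme.Hom.comp_appTop]; rfl
    have hbase' : ∀ {z x : (fibCat f η').obj} (t : z ⟶ x) r,
        (toBase z).appTop.hom r = fnMap ((fibComp f β).map t) ((toBase x).appTop.hom r) := fun t r => by
      rw [← bmap_toBase t, Scheme.Hom.comp_appTop]; rfl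
    refine induction_agree hE hEq hM hMq (isFinPres_fibFst f η hfp) q₀ (toBase A.x₀).appTop.hom
      (toBase x₀').appTop.hom (isPushout_hom H₀) A.w
      (fun k => (fibComp f β).obj (w' k)) A.affw hw' q hq (fun k => (toBase (A.w k)).appTop.hom)
      (fun k => (toBase (w' k)).appTop.hom) (fun k => isPushout_hom (H k)) A.a A.b
      (fun k => (fibComp f β).map (a' k)) (fun k => (fibComp f β).map (b' k)) ha' hb'
      (fun k r => hbase _ r) (fun k r => hbase _ r) (fun k r => hbase' _ r) (fun k r => hbase' _ r) (L x₀') ?_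
      (p := fun θ => ∀ m, (u.hom.app ((fibComp f β).obj x₀')).app ⊤ (θ m) = 0) ?_ ?_ ?_
    · intro k θa θb ha hb
      rw [isExt_unique hE hEq _ ha (hL (a' k)), isExt_unique hE hEq _ hb (hL (b' k))]
    · intro m; exact map_zero _
    · intro s t hs ht m; rw [LinearMap.add_apply, map_add, hs, ht, add_zero]
    · intro r θ θ₁ hθ h₁ m
      rw [LinearMap.smul_apply, Scheme.Modules.Hom.app_smul]
      obtain ⟨φ, hφ⟩ := A.exists_hom hE hEq hM hMq hg (θ := θ) hθ
      have h0 : ∀ a, (u.hom.app A.x₀).app ⊤ (θ a) = 0 := fun a => by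
        rw [← hφ]
        exact congrArg (fun k : Eη ⟶ N.obj => (k.app A.x₀).app ⊤ a) (hu φ)
      rw [show (u.hom.app ((fibComp f β).obj x₀')).app ⊤ (θ₁ m) = 0 from
        induction_topMap hE hEq q₀ m (p := fun m => (u.hom.app ((fibComp f β).obj x₀')).app ⊤ (θ₁ m) = 0)
          (by rw [map_zero, map_zero])
          (fun c a => by rw [map_smul, Scheme.Modules.Hom.app_smul, h₁ a, ← Mod.mapTop_app, h0 a, Mod.mapTop_zero,
            smul_zero])
          (fun a b ha hb => by rw [map_add, map_add, ha, hb, add_zero])]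
      exact smul_zero _
  refine eq_zero_of_affine (isFibGrpd_fibCat h f η') (isCartesian_comap N.property.1) _ fun y hy m => ?_
  show (u.hom.app ((fibComp f β).obj y)).app ⊤ (L y m) = 0
  haveI : IsAffine (sch (fibCat f η) ((fibComp f β).obj y)) := hy
  obtain ⟨𝒰, -, h₀⟩ := A.loc ((fibComp f β).obj y) hy
  let yl : 𝒰.ι → (fibCat f η').obj := fun l => CostructuredArrow.mk (f.map (𝒰.map l).left ≫ y.hom)
  let tl : ∀ l, yl l ⟶ y := fun l => CostructuredArrow.homMk (𝒰.map l).left
  let 𝒱 : Cover ((fibComp f β).obj y) :=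
    ⟨𝒰.ι, fun l => (fibComp f β).obj (yl l), fun l => (fibComp f β).map (tl l), 𝒰.affine, 𝒰.cov⟩
  refine 𝒱.eq_zero N.property.1 N.property.2 _ fun l => ?_
  haveI := 𝒱.affine l
  let j : (fibComp f β).obj (yl l) ⟶ 𝒰.obj l := CostructuredArrow.homMk (𝟙 _) (by
    rw [f.toFunctor.map_id, Category.id_comp]
    show (𝒰.obj l).hom = (f.map (𝒰.map l).left ≫ y.hom) ≫ β
    rw [Category.assoc]
    exact (CostructuredArrow.w (𝒰.map l)).symm)
  obtain ⟨t, ht⟩ := l₀ (yl l) (j ≫ (h₀ l).some)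
  show N.obj.mapTop ((fibComp f β).map (tl l)) _ = 0
  rw [Mod.mapTop_app, ← hL (tl l) m]
  refine induction_topMap hE hEq ((fibComp f β).map t) _
    (p := fun e => (u.hom.app ((fibComp f β).obj (yl l))).app ⊤ (L (yl l) e) = 0) (by rw [map_zero, map_zero])
    (fun c a => ?_) (fun a b ha hb => by rw [map_add, map_add, ha, hb, add_zero])
  rw [map_smul, Scheme.Modules.Hom.app_smul, hL t a, ← Mod.mapTop_app, hzero a, Mod.mapTop_zero, smul_zero]

end Groth.L23.RelGen
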