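import Groth.Agent.L23.RelGen.Atlas3
import Groth.Agent.L23.RelGen.Transfer
import Groth.Agent.L23.RelGen.PullMod

/-!
# Descent data on the slice over a chart
-/

universe t w v u

open CategoryTheory CategoryTheory.Limits AlgebraicGeometry Opposite TopologicalSpace

set_option backward.isDefEq.respectTransparency false
set_option backward.isDefEq.respectTransparency.types false
set_option linter.style.haveILetI false
set_option linter.unusedSectionVars false

noncomputable section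

namespace Groth.L23.RelGen

open StMod

variable {S : Scheme.{u}} {𝒱 : BasedCategory.{v, w} (Over S)}

/-- The slice over an object. -/
abbrev Sl (x₀ : 𝒱.obj) : BasedCategory.{v, max w v} (Over S) := fibCat (BasedFunctor.id 𝒱) x₀

/-- Pairs of morphisms to an object. -/
abbrev Pr (x₀ : 𝒱.obj) : BasedCategory.{v, max w v} (Over S) := fibCat (fibFst (BasedFunctor.id 𝒱) x₀) x₀

/-- An object of the slice. -/
abbrev slMk {x₀ v : 𝒱.obj} (p : v ⟶ x₀) : (Sl x₀).obj := CostructuredArrow.mk p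

/-- A morphism of the slice. -/
abbrev slHom {x₀ : 𝒱.obj} {s' s : (Sl x₀).obj} (k : s'.left ⟶ s.left) (h : k ≫ s.hom = s'.hom) : s' ⟶ s :=
  CostructuredArrow.homMk k h

/-- A pair of morphisms to an object. -/
abbrev prMk {x₀ v : 𝒱.obj} (p q : v ⟶ x₀) : (Pr x₀).obj := CostructuredArrow.mk (Y := slMk p) q

/-- A morphism of pairs. -/
abbrev prHom {x₀ : 𝒱.obj} {z' z : (Pr x₀).obj} (k : z'.left.left ⟶ z.left.left) (h : k ≫ z.left.hom = z'.left.hom)
    (h' : k ≫ z.hom = z'.hom) : z' ⟶ z :=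
  CostructuredArrow.homMk (slHom k h) h'

/-- The second member of a pair. -/
def sndS (x₀ : 𝒱.obj) : Pr x₀ ⥤ᵇ Sl x₀ where
  toFunctor :=
    { obj := fun z => slMk z.hom
      map := fun {z z'} k => slHom k.left.left (CostructuredArrow.w k)
      map_id := fun z => CostructuredArrow.hom_ext _ _ rfl
      map_comp := fun k k' => CostructuredArrow.hom_ext _ _ rfl }
  w := rfl

variable {x₀ : 𝒱.obj}

theorem isFibGrpd_sl (h : FibCat.IsFibGrpd 𝒱.p) : FibCat.IsFibGrpd (Sl x₀).p := isFibGrpd_fibCat h _ _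

theorem isFibGrpd_pr (h : FibCat.IsFibGrpd 𝒱.p) : FibCat.IsFibGrpd (Pr x₀).p :=
  isFibGrpd_fibCat (isFibGrpd_sl h) _ _

theorem mapTop_sndS (F : Mod (Sl x₀)) {z' z : (Pr x₀).obj} (φ : z' ⟶ z) (m : Sec (Mod.comap (sndS x₀) F) z) :
    (Mod.comap (sndS x₀) F).mapTop φ m = F.mapTop ((sndS x₀).map φ) m := by
  refine congrArg (fun k => Scheme.Modules.Hom.app k ⊤ m) ?_
  rw [Mod.comap_map]
  exact castMap_rfl_self _ _

theorem map_app_sndS (F : Mod (Sl x₀)) {z' z : (Pr x₀).obj} (φ : z' ⟶ z) (U : (sch (Pr x₀) z).Opens)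
    (m : Γ((Mod.comap (sndS x₀) F).obj z, U)) :
    ((Mod.comap (sndS x₀) F).map φ rfl).app U m = (F.map ((sndS x₀).map φ) rfl).app U m := by
  refine congrArg (fun k => Scheme.Modules.Hom.app k U m) ?_
  rw [Mod.comap_map]
  exact castMap_rfl_self _ _

theorem map_app_fstS (F : Mod (Sl x₀)) {z' z : (Pr x₀).obj} (φ : z' ⟶ z) (U : (sch (Pr x₀) z).Opens)
    (m : Γ((Mod.comap (fibFst (fibFst (BasedFunctor.id 𝒱) x₀) x₀) F).obj z, U)) :
    ((Mod.comap (fibFst (fibFst (BasedFunctor.id 𝒱) x₀) x₀) F).map φ rfl).app U m =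
      (F.map φ.left rfl).app U m := by
  refine congrArg (fun k => Scheme.Modules.Hom.app k U m) ?_
  rw [Mod.comap_map]
  exact castMap_rfl_self _ _

/-- The atlas of the category of pairs. -/
def prAtlas (A : Atlas3 𝒱) : Atlas (Pr A.x₀) where
  x₀ := prMk A.a A.b
  aff₀ := A.affov
  loc z hz := by
    obtain ⟨𝒰, hfin, h𝒰⟩ := A.pairs z.left.left hz z.left.hom z.hom
    refine ⟨⟨𝒰.ι, fun l => prMk (𝒰.map l ≫ z.left.hom) (𝒰.map l ≫ z.hom), fun l => prHom (𝒰.map l) rfl rfl,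
      𝒰.affine, 𝒰.cov⟩, hfin, fun l => ?_⟩
    obtain ⟨t, ha, hb⟩ := h𝒰 l
    exact ⟨prHom t ha hb⟩
  n := 1
  w _ := prMk (A.π ≫ A.a) (A.π ≫ A.b)
  affw _ := A.affov₂
  a _ := prHom A.π rfl rfl
  b _ := prHom A.π' A.π_a.symm A.π_b.symm
  pairs z hz p q := by
    obtain ⟨𝒰, -, h𝒰⟩ := A.triple z.left.left hz p.left.left q.left.left
      ((CostructuredArrow.w p.left).trans (CostructuredArrow.w q.left).symm)
      ((CostructuredArrow.w p).trans (CostructuredArrow.w q).symm)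
    refine ⟨⟨𝒰.ι, fun l => prMk (𝒰.map l ≫ z.left.hom) (𝒰.map l ≫ z.hom), fun l => prHom (𝒰.map l) rfl rfl,
      𝒰.affine, 𝒰.cov⟩, fun l => ?_⟩
    obtain ⟨s, hs, hs'⟩ := h𝒰 l
    refine ⟨0, prHom s ?_ ?_, ?_, ?_⟩
    · show s ≫ A.π ≫ A.a = 𝒰.map l ≫ z.left.hom
      rw [← Category.assoc, hs, Category.assoc]
      exact congrArg _ (CostructuredArrow.w p.left)
    · show s ≫ A.π ≫ A.b = 𝒰.map l ≫ z.hom
      rw [← Category.assoc, hs, Category.assoc]
      exact congrArg _ (CostructuredArrow.w p)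
    · exact CostructuredArrow.hom_ext _ _ (CostructuredArrow.hom_ext _ _ hs)
    · exact CostructuredArrow.hom_ext _ _ (CostructuredArrow.hom_ext _ _ hs')

/-- Evaluation of a module on the slice in a presheaf of groups with scalars, bijective on objects flat over the chart. -/
structure Eval (G : Mod (Sl x₀)) where
  /-- the values -/
  H : 𝒱.obj → Type t
  [grp : ∀ v, AddCommGroup (H v)]
  /-- restriction -/
  res : ∀ {v' v : 𝒱.obj}, (v' ⟶ v) → H v → H v'
  /-- scalars -/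
  sc : ∀ v : 𝒱.obj, Fn v → H v → H v
  /-- evaluation -/
  β : ∀ s : (Sl x₀).obj, IsAffine (sch (Sl x₀) s) → (Sec G s →+ H s.left)
  res_zero : ∀ {v' v : 𝒱.obj} (k : v' ⟶ v), res k 0 = 0
  res_add : ∀ {v' v : 𝒱.obj} (k : v' ⟶ v) a b, res k (a + b) = res k a + res k b
  β_smul : ∀ s hs (r : Fn s) m, β s hs (r • m) = sc s.left r (β s hs m)
  res_sc : ∀ {v' v : 𝒱.obj} (k : v' ⟶ v) r h, res k (sc v r h) = sc v' (fnMap k r) (res k h)
  β_nat : ∀ {s' s : (Sl x₀).obj} (k : s' ⟶ s) hs' hs m, β s' hs' (G.mapTop k m) = res k.left (β s hs m)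
  bij : ∀ s hs, Flat (bmap 𝒱 (s.hom : s.left ⟶ x₀)) → Function.Bijective (β s hs)

namespace Eval

attribute [instance] Eval.grp

variable (A : Atlas3 𝒱) {G : QCoh (Sl A.x₀)} (ev : Eval G.obj)

local notation "E₁" => Mod.comap (fibFst (fibFst (BasedFunctor.id 𝒱) A.x₀) A.x₀) G.obj
local notation "E₂" => Mod.comap (sndS A.x₀) G.obj

/-- The identification over the overlap. -/
theorem exists_overlap_iso :
    ∃ θ : Sec E₁ (prMk A.a A.b) →ₗ[Fn (prMk A.a A.b)] Sec E₂ (prMk A.a A.b),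
      Function.Bijective θ ∧
        ∀ m, ev.β (slMk A.b) A.affov (θ m) = ev.β (slMk A.a) A.affov m := by
  have ha := ev.bij (slMk A.a) A.affov A.flat_a
  have hb := ev.bij (slMk A.b) A.affov A.flat_b
  choose θ hθ using fun m => hb.2 (ev.β (slMk A.a) A.affov m)
  let θ' : Sec E₁ (prMk A.a A.b) →ₗ[Fn (prMk A.a A.b)] Sec E₂ (prMk A.a A.b) :=
    { toFun := θ
      map_add' := fun a b => hb.1 ((hθ _).trans ((map_add _ a b).trans ((congrArg₂ (· + ·) (hθ a).symm
        (hθ b).symm).trans (map_add _ _ _).symm)))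
      map_smul' := fun r a => hb.1 ((hθ _).trans ((ev.β_smul (slMk A.a) A.affov r a).trans
        ((congrArg _ (hθ a).symm).trans (ev.β_smul (slMk A.b) A.affov r (θ a)).symm))) }
  refine ⟨θ', ⟨fun a b e => ?_, fun m => ?_⟩, hθ⟩
  · exact ha.1 ((hθ a).symm.trans ((congrArg _ e).trans (hθ b)))
  · obtain ⟨a, e⟩ := ha.2 (ev.β (slMk A.b) A.affov m)
    exact ⟨a, hb.1 ((hθ a).trans e)⟩

theorem β_ext (m : Sec E₁ (prMk A.a A.b)) {z : (Pr A.x₀).obj} (hz : IsAffine (sch (Pr A.x₀) z))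
    (t : z ⟶ prMk A.a A.b) :
    ev.β z.left hz ((E₁).mapTop t m) = ev.res t.left.left (ev.β (slMk A.a) A.affov m) :=
  (congrArg (ev.β z.left hz) (mapTop_fibFst _ _ G.obj t m)).trans (ev.β_nat t.left hz A.affov m)

theorem β_ext₂ (m : Sec E₂ (prMk A.a A.b)) {z : (Pr A.x₀).obj} (hz : IsAffine (sch (Pr A.x₀) z))
    (t : z ⟶ prMk A.a A.b) :
    ev.β (slMk z.hom) hz ((E₂).mapTop t m) = ev.res t.left.left (ev.β (slMk A.b) A.affov m) :=
  (congrArg (ev.β (slMk z.hom) hz) (mapTop_sndS G.obj t m)).trans (ev.β_nat ((sndS A.x₀).map t) hz A.affov m)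

/-- An extension of the identification commutes with evaluation. -/
theorem β_isExt {θ : Sec E₁ (prMk A.a A.b) →ₗ[Fn (prMk A.a A.b)] Sec E₂ (prMk A.a A.b)}
    (hθ : ∀ m, ev.β (slMk A.b) A.affov (θ m) = ev.β (slMk A.a) A.affov m) {z : (Pr A.x₀).obj}
    (hz : IsAffine (sch (Pr A.x₀) z)) (t : z ⟶ prMk A.a A.b) {θ' : Sec E₁ z →ₗ[Fn z] Sec E₂ z}
    (h : IsExt t θ θ') (e : Sec E₁ z) : ev.β (slMk z.hom) hz (θ' e) = ev.β z.left hz e := by
  haveI := hz
  haveI : IsAffine (sch (Pr A.x₀) (prMk A.a A.b)) := A.affov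
  refine induction_topMap (isCartesian_comap G.property.1) (isLocQCoh_comap G.property.2) t e
    (p := fun e => ev.β (slMk z.hom) hz (θ' e) = ev.β z.left hz e)
    (((congrArg (ev.β (slMk z.hom) hz) (map_zero θ')).trans (map_zero (ev.β (slMk z.hom) hz))).trans (map_zero (ev.β z.left hz)).symm)
    (fun r a => ?_) (fun a b ha hb => ?_)
  · rw [map_smul]
    refine (ev.β_smul (slMk z.hom) hz r _).trans (Eq.trans ?_ (ev.β_smul z.left hz r _).symm)
    refine congrArg (ev.sc z.left.left r) ?_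
    rw [h a, β_ext₂, hθ, ← β_ext]
  · rw [map_add]
    exact (map_add _ _ _).trans ((congrArg₂ (· + ·) ha hb).trans (map_add _ _ _).symm)

include ev in
/-- The identification over pairs of morphisms to the chart. -/
theorem exists_tau (h : FibCat.IsFibGrpd 𝒱.p) :
    ∃ τ : E₁ ⟶ E₂, ∀ (z : (Pr A.x₀).obj) (hz : IsAffine (sch (Pr A.x₀) z)) (_ : z ⟶ prMk A.a A.b) (e : Sec E₁ z),
      ev.β (slMk z.hom) hz ((τ.app z).app ⊤ e) = ev.β z.left hz e := by
  have hE : (E₁).IsCartesian := isCartesian_comap G.property.1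
  have hEq : (E₁).IsLocQCoh := isLocQCoh_comap G.property.2
  have hM : (E₂).IsCartesian := isCartesian_comap G.property.1
  have hMq : (E₂).IsLocQCoh := isLocQCoh_comap G.property.2
  obtain ⟨θ, -, hθ⟩ := ev.exists_overlap_iso A
  have hagree : (prAtlas A).Agree θ := fun k θa θb ha hb => by
    refine LinearMap.ext fun e => ?_
    haveI := A.flat_π
    haveI := A.flat_b
    refine (ev.bij (slMk (A.π ≫ A.b)) A.affov₂ ?_).1 ?_
    · show Flat (bmap 𝒱 (A.π ≫ A.b))
      rw [bmap_comp]; infer_instance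
    · exact (ev.β_isExt A hθ (z := prMk (A.π ≫ A.a) (A.π ≫ A.b)) A.affov₂ _ ha e).trans
        (ev.β_isExt A hθ (z := prMk (A.π ≫ A.a) (A.π ≫ A.b)) A.affov₂ _ hb e).symm
  obtain ⟨τ, hτ⟩ := (prAtlas A).exists_hom hE hEq hM hMq (isFibGrpd_pr h) hagree
  refine ⟨τ, fun z hz t e => ?_⟩
  exact ev.β_isExt A hθ hz t (θ' :=
    { toFun := fun e => (τ.app z).app ⊤ e
      map_add' := fun a b => map_add _ a b
      map_smul' := fun r a => (τ.app z).app_smul r a })
    (fun m => (Mod.mapTop_app τ t m).symm.trans (congrArg ((E₂).mapTop t) (hτ m))) e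

end Eval

end Groth.L23.RelGen
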