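import Groth.Agent.L23.RelGen.Bc
import Groth.Prelude.Def_FibCat2
import Groth.Agent.L19.QCohFpqc.Local

/-!
# Morphisms of quasi-coherent modules from their values at affine objects
-/

universe w v u

open CategoryTheory CategoryTheory.Limits AlgebraicGeometry Opposite TopologicalSpace

set_option backward.isDefEq.respectTransparency false
set_option backward.isDefEq.respectTransparency.types false
set_option linter.style.haveILetI false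
set_option linter.unusedSectionVars false

noncomputable section

namespace Groth.L23.RelGen

open StMod
open Groth.L18.Frame (rs ro rs_rs rs_self rs_smul pull pull_rs pull_smul)
open Groth.L17.BC.PullSec (app_rs)

variable {S : Scheme.{u}} {𝒳 : BasedCategory.{v, w} (Over S)}

/-- A lift with prescribed target. -/
theorem exists_lift (h : FibCat.IsFibGrpd 𝒳.p) {x : 𝒳.obj} {V : Over S} (f : V ⟶ 𝒳.p.obj x) :
    ∃ (y : 𝒳.obj) (φ : y ⟶ x) (e : 𝒳.p.obj y = V), 𝒳.p.map φ = eqToHom e ≫ f := by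
  obtain ⟨y, φ, hφ⟩ := h.exists_lift f
  refine ⟨y, φ, IsHomLift.domain_eq 𝒳.p f φ, ?_⟩
  simpa using IsHomLift.fac' 𝒳.p f φ

/-- Factorization through a morphism of the category. -/
theorem existsUnique_factor (h : FibCat.IsFibGrpd 𝒳.p) {z y x : 𝒳.obj} (s : z ⟶ x) (r : y ⟶ x)
    (g : 𝒳.p.obj z ⟶ 𝒳.p.obj y) (hg : g ≫ 𝒳.p.map r = 𝒳.p.map s) :
    ∃! t : z ⟶ y, 𝒳.p.map t = g ∧ t ≫ r = s := by
  haveI := h.isStronglyCartesian r
  obtain ⟨t, ⟨ht, ht'⟩, hu⟩ :=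
    Functor.IsStronglyCartesian.universal_property 𝒳.p (𝒳.p.map r) r g (𝒳.p.map s) hg.symm s
  refine ⟨t, ⟨?_, ht'⟩, fun t' h' => hu t' ⟨?_, h'.2⟩⟩
  · simpa using (IsHomLift.fac' 𝒳.p g t)
  · rw [← h'.1]; exact IsHomLift.map 𝒳.p t'

theorem sch_hom_eq {x x' : 𝒳.obj} (φ : x' ⟶ x) :
    bmap 𝒳 φ ≫ (𝒳.p.obj x).hom = (𝒳.p.obj x').hom := Over.w (𝒳.p.map φ)

/-- A morphism whose scheme map factors through an open immersion factors. -/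
theorem exists_factor_open (h : FibCat.IsFibGrpd 𝒳.p) {z y x : 𝒳.obj} (s : z ⟶ x) (r : y ⟶ x)
    [IsOpenImmersion (bmap 𝒳 r)] (hs : Set.range (bmap 𝒳 s) ⊆ Set.range (bmap 𝒳 r)) :
    ∃ t : z ⟶ y, t ≫ r = s := by
  let g : sch 𝒳 z ⟶ sch 𝒳 y := IsOpenImmersion.lift (bmap 𝒳 r) (bmap 𝒳 s) hs
  have hg : g ≫ bmap 𝒳 r = bmap 𝒳 s := IsOpenImmersion.lift_fac _ _ _
  let g' : 𝒳.p.obj z ⟶ 𝒳.p.obj y := Over.homMk g (by
    show g ≫ (𝒳.p.obj y).hom = (𝒳.p.obj z).hom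
    rw [← sch_hom_eq r, ← sch_hom_eq s, ← Category.assoc, hg])
  obtain ⟨t, ⟨-, ht⟩, -⟩ := existsUnique_factor h s r g' (Over.OverMorphism.ext hg)
  exact ⟨t, ht⟩

/-- The object over an open subscheme. -/
theorem exists_restrict (h : FibCat.IsFibGrpd 𝒳.p) (x : 𝒳.obj) (U : (sch 𝒳 x).Opens) :
    ∃ (y : 𝒳.obj) (r : y ⟶ x), IsOpenImmersion (bmap 𝒳 r) ∧ Set.range (bmap 𝒳 r) = (U : Set (sch 𝒳 x)) ∧
      (IsAffineOpen U → IsAffine (sch 𝒳 y)) := by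
  let V : Over S := Over.mk (U.ι ≫ (𝒳.p.obj x).hom)
  obtain ⟨y, r, e, hr⟩ := exists_lift h (Over.homMk U.ι rfl : V ⟶ 𝒳.p.obj x)
  have hb : bmap 𝒳 r = eqToHom (congrArg Comma.left e) ≫ U.ι := by
    have := congrArg (fun k => k.left) hr
    simp only [Over.comp_left, Over.eqToHom_left] at this
    exact this
  refine ⟨y, r, ?_, ?_, fun hU => ?_⟩
  · rw [hb]; infer_instance
  · let i : sch 𝒳 y ⟶ U.toScheme := eqToHom (congrArg Comma.left e)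
    haveI : IsIso i := inferInstanceAs (IsIso (eqToHom (congrArg Comma.left e)))
    rw [show bmap 𝒳 r = i ≫ U.ι from hb]
    refine Set.ext fun p => ⟨?_, fun hp => ?_⟩
    · rintro ⟨q, rfl⟩; exact (i q).2
    · obtain ⟨q, hq⟩ := i.surjective ⟨p, hp⟩
      exact ⟨q, by rw [Scheme.Hom.comp_apply, hq]; rfl⟩
  · haveI : IsAffine U.toScheme := hU
    exact IsAffine.of_isIso (eqToHom (congrArg Comma.left e) : sch 𝒳 y ⟶ U.toScheme)

variable {F G : Mod 𝒳}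

/-- Sections over an open restricted along a morphism landing in it. -/
def resTo (F : Mod 𝒳) {z x : 𝒳.obj} (s : z ⟶ x) {U : (sch 𝒳 x).Opens}
    (e : (⊤ : (sch 𝒳 z).Opens) ≤ bmap 𝒳 s ⁻¹ᵁ U) : Γ(F.obj x, U) →+ Sec F z where
  toFun m := rs (F.obj z) e ((F.map s rfl).app U m)
  map_zero' := by rw [map_zero]; exact map_zero _
  map_add' a b := by rw [map_add]; exact map_add _ _ _

theorem resTo_apply {z x : 𝒳.obj} (s : z ⟶ x) {U : (sch 𝒳 x).Opens}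
    (e : (⊤ : (sch 𝒳 z).Opens) ≤ bmap 𝒳 s ⁻¹ᵁ U) (m : Γ(F.obj x, U)) :
    resTo F s e m = rs (F.obj z) e ((F.map s rfl).app U m) := rfl

theorem resTo_top {z x : 𝒳.obj} (s : z ⟶ x) (e) (m : Sec F x) : resTo F s (U := ⊤) e m = F.mapTop s m :=
  rs_self _ e _

theorem resTo_smul {z x : 𝒳.obj} (s : z ⟶ x) {U : (sch 𝒳 x).Opens}
    (e : (⊤ : (sch 𝒳 z).Opens) ≤ bmap 𝒳 s ⁻¹ᵁ U) (a : Γ(sch 𝒳 x, U)) (m : Γ(F.obj x, U)) :
    resTo F s e (a • m) = (bmap 𝒳 s).appLE U ⊤ e a • resTo F s e m := by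
  rw [resTo_apply, Scheme.Modules.Hom.app_smul]
  exact rs_smul _ e _ _

theorem resTo_rs {z x : 𝒳.obj} (s : z ⟶ x) {U W : (sch 𝒳 x).Opens} (h : W ≤ U)
    (e : (⊤ : (sch 𝒳 z).Opens) ≤ bmap 𝒳 s ⁻¹ᵁ W) (m : Γ(F.obj x, U)) :
    resTo F s e (rs (F.obj x) h m) = resTo F s (e.trans ((bmap 𝒳 s).preimage_mono h)) m := by
  rw [resTo_apply, app_rs (F.map s rfl) h m]
  exact rs_rs _ _ _ _

theorem resTo_comp {z' z x : 𝒳.obj} (t : z' ⟶ z) (s : z ⟶ x) {U : (sch 𝒳 x).Opens}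
    (e : (⊤ : (sch 𝒳 z).Opens) ≤ bmap 𝒳 s ⁻¹ᵁ U) (e' : (⊤ : (sch 𝒳 z').Opens) ≤ bmap 𝒳 (t ≫ s) ⁻¹ᵁ U)
    (m : Γ(F.obj x, U)) : resTo F (t ≫ s) e' m = F.mapTop t (resTo F s e m) := by
  have key : ∀ (g : sch 𝒳 z' ⟶ sch 𝒳 x) (hg : bmap 𝒳 (t ≫ s) = g) (e'' : (⊤ : (sch 𝒳 z').Opens) ≤ g ⁻¹ᵁ U),
      resTo F (t ≫ s) e' m = rs (F.obj z') e'' ((F.map (t ≫ s) hg).app U m) := by
    rintro g rfl e''; rfl
  have e2 : (⊤ : (sch 𝒳 z').Opens) ≤ bmap 𝒳 t ⁻¹ᵁ (bmap 𝒳 s ⁻¹ᵁ U) := by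
    refine le_trans ?_ ((bmap 𝒳 t).preimage_mono e); exact le_rfl
  rw [key _ (bmap_comp t s) e2, Mod.map_comp_app F t s rfl rfl U]
  show rs (F.obj z') e2 ((F.map t rfl).app _ ((F.map s rfl).app U m)) =
    (F.map t rfl).app ⊤ (rs (F.obj z) e ((F.map s rfl).app U m))
  rw [app_rs (F.map t rfl) e ((F.map s rfl).app U m)]
  rfl

theorem resTo_app (φ : F ⟶ G) {z x : 𝒳.obj} (s : z ⟶ x) {U : (sch 𝒳 x).Opens}
    (e : (⊤ : (sch 𝒳 z).Opens) ≤ bmap 𝒳 s ⁻¹ᵁ U) (m : Γ(F.obj x, U)) :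
    resTo G s e ((φ.app x).app U m) = (φ.app z).app ⊤ (resTo F s e m) := by
  have h : (φ.app z).app (bmap 𝒳 s ⁻¹ᵁ U) ((F.map s rfl).app U m) = (G.map s rfl).app U ((φ.app x).app U m) :=
    congrArg (fun f => Scheme.Modules.Hom.app f U m) (φ.comm s rfl)
  rw [resTo_apply, resTo_apply, app_rs (φ.app z) e, h]

/-- Restriction to the object over an open is bijective. -/
theorem resTo_bijective (hF : F.IsCartesian) {y x : 𝒳.obj} (r : y ⟶ x) [IsOpenImmersion (bmap 𝒳 r)]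
    {U : (sch 𝒳 x).Opens} (hU : Set.range (bmap 𝒳 r) = (U : Set (sch 𝒳 x))) :
    ∃ e : (⊤ : (sch 𝒳 y).Opens) ≤ bmap 𝒳 r ⁻¹ᵁ U, Function.Bijective (resTo F r e) := by
  set g := bmap 𝒳 r
  have htop : g ⁻¹ᵁ U = ⊤ := top_le_iff.1 fun p _ => hU.subset ⟨p, rfl⟩
  refine ⟨htop.ge, ?_⟩
  have himg : g ''ᵁ (g ⁻¹ᵁ U) = U := by
    rw [Scheme.Hom.image_preimage_eq_opensRange_inf]
    exact inf_eq_right.2 hU.ge
  have b1 : ∀ {X : Scheme.{u}} (M : X.Modules) {V V' : X.Opens} (h : V = V') (h' : V' ≤ V),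
      Function.Bijective (rs M h') := by
    intro X M V V' h h'
    subst h
    exact Function.bijective_iff_has_inverse.2 ⟨id, fun s => rs_self _ _ _, fun s => rs_self _ _ _⟩
  have hpull : Function.Bijective (pull g (F.obj x) U) := by
    let a := (Scheme.Modules.restrictFunctorIsoPullback g).app (F.obj x)
    have ha : Function.Bijective (a.hom.app (g ⁻¹ᵁ U)) :=
      Function.bijective_iff_has_inverse.2 ⟨fun s => a.inv.app _ s,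
        fun s => congr($(congrArg (fun k => Scheme.Modules.Hom.app k (g ⁻¹ᵁ U)) a.hom_inv_id) s),
        fun s => congr($(congrArg (fun k => Scheme.Modules.Hom.app k (g ⁻¹ᵁ U)) a.inv_hom_id) s)⟩
    have e : (pull g (F.obj x) U : _ → _) = (fun s => a.hom.app (g ⁻¹ᵁ U) s) ∘
        (fun s => (show Γ((Scheme.Modules.restrictFunctor g).obj (F.obj x), g ⁻¹ᵁ U) from
          rs (F.obj x) (g.image_preimage_le U) s)) :=
      funext fun s => (Groth.L17.BC.PullSec.restrict_pull g (F.obj x) U s).symm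
    rw [e]
    exact ha.comp (b1 _ himg.symm _)
  have e : (resTo F r htop.ge : _ → _) = rs (F.obj y) htop.ge ∘ (fun s => (cmpIso hF r).hom.app (g ⁻¹ᵁ U) s) ∘
      pull g (F.obj x) U := funext fun m => congrArg _ (map_app_eq hF r U m)
  rw [e]
  exact (b1 _ htop _).comp ((cmpIso_bijective hF r _).comp hpull)

theorem resTo_map {z x' x : 𝒳.obj} (t : z ⟶ x') (φ : x' ⟶ x) {U : (sch 𝒳 x).Opens}
    (e : (⊤ : (sch 𝒳 z).Opens) ≤ bmap 𝒳 t ⁻¹ᵁ (bmap 𝒳 φ ⁻¹ᵁ U))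
    (e' : (⊤ : (sch 𝒳 z).Opens) ≤ bmap 𝒳 (t ≫ φ) ⁻¹ᵁ U) (m : Γ(F.obj x, U)) :
    resTo F t e ((F.map φ rfl).app U m) = resTo F (t ≫ φ) e' m := by
  have key : ∀ (g : sch 𝒳 z ⟶ sch 𝒳 x) (hg : bmap 𝒳 (t ≫ φ) = g) (e'' : (⊤ : (sch 𝒳 z).Opens) ≤ g ⁻¹ᵁ U),
      resTo F (t ≫ φ) e' m = rs (F.obj z) e'' ((F.map (t ≫ φ) hg).app U m) := by
    rintro g rfl e''; rfl
  rw [key _ (bmap_comp t φ) e, Mod.map_comp_app F t φ rfl rfl U]
  rfl

/-- A morphism of quasi-coherent modules given compatibly at affine objects. -/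
theorem exists_hom_of_affine (h : FibCat.IsFibGrpd 𝒳.p) {E M : Mod 𝒳} (hM : M.IsCartesian)
    (θ : ∀ z : 𝒳.obj, IsAffine (sch 𝒳 z) → (Sec E z →ₗ[Fn z] Sec M z))
    (hθ : ∀ ⦃z' z : 𝒳.obj⦄ (t : z' ⟶ z) (hz' : IsAffine (sch 𝒳 z')) (hz : IsAffine (sch 𝒳 z)) (m : Sec E z),
      θ z' hz' (E.mapTop t m) = M.mapTop t (θ z hz m)) :
    ∃ φ : E ⟶ M, ∀ (z : 𝒳.obj) (hz : IsAffine (sch 𝒳 z)) (m : Sec E z), (φ.app z).app ⊤ m = θ z hz m := by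
  have hψ : ∀ (x : 𝒳.obj) (U : (sch 𝒳 x).Opens) (hU : IsAffineOpen U), ∃ ψ : Γ(E.obj x, U) →+ Γ(M.obj x, U),
      ∀ (z : 𝒳.obj) (hz : IsAffine (sch 𝒳 z)) (s : z ⟶ x)
        (e : (⊤ : (sch 𝒳 z).Opens) ≤ bmap 𝒳 s ⁻¹ᵁ U) (m : Γ(E.obj x, U)),
          resTo M s e (ψ m) = θ z hz (resTo E s e m) := by
    intro x U hU
    obtain ⟨y, r, hi, hr, ha⟩ := exists_restrict h x U
    haveI := hi
    have hy := ha hU
    obtain ⟨eM, bM⟩ := resTo_bijective hM r hr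
    let inv := (AddEquiv.ofBijective (resTo M r eM) bM).symm
    refine ⟨inv.toAddMonoidHom.comp ((θ y hy).toAddMonoidHom.comp (resTo E r eM)), fun z hz s e m => ?_⟩
    obtain ⟨t, rfl⟩ := exists_factor_open h s r (by
      rw [hr]; rintro _ ⟨p, rfl⟩; exact e (show p ∈ (⊤ : (sch 𝒳 z).Opens) from trivial))
    rw [resTo_comp t r eM e, resTo_comp t r eM e, hθ t hz hy]
    exact congrArg _ ((AddEquiv.ofBijective (resTo M r eM) bM).apply_symm_apply _)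
  choose ψ hψ using hψ
  have uniq : ∀ (x : 𝒳.obj) (U : (sch 𝒳 x).Opens) (hU : IsAffineOpen U) (a b : Γ(M.obj x, U)),
      (∀ (z : 𝒳.obj) (_ : IsAffine (sch 𝒳 z)) (s : z ⟶ x) (e : (⊤ : (sch 𝒳 z).Opens) ≤ bmap 𝒳 s ⁻¹ᵁ U),
        resTo M s e a = resTo M s e b) → a = b := by
    intro x U hU a b hab
    obtain ⟨y, r, hi, hr, ha⟩ := exists_restrict h x U
    haveI := hi
    obtain ⟨eM, bM⟩ := resTo_bijective hM r hr
    exact bM.1 (hab y (ha hU) r eM)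
  have hres : ∀ (x : 𝒳.obj) (U V : (sch 𝒳 x).Opens) (hU : IsAffineOpen U) (hV : IsAffineOpen V) (hle : V ≤ U)
      (m : Γ(E.obj x, U)), ψ x V hV (rs (E.obj x) hle m) = rs (M.obj x) hle (ψ x U hU m) := by
    intro x U V hU hV hle m
    refine uniq x V hV _ _ fun z hz s e => ?_
    rw [hψ x V hV z hz s e, resTo_rs, resTo_rs, hψ x U hU z hz s]
  have happ : ∀ x : 𝒳.obj, ∃ a : E.obj x ⟶ M.obj x, ∀ (U : (sch 𝒳 x).Opens) (hU : IsAffineOpen U) m,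
      a.app U m = ψ x U hU m := fun x =>
    Groth.L16.AffineBC.exists_hom_affine (ψ x) (hres x) fun U hU r m =>
      uniq x U hU _ _ fun z hz s e => by
        rw [hψ x U hU z hz s e, resTo_smul, resTo_smul, hψ x U hU z hz s e, LinearMap.map_smul]
  choose a ha using happ
  refine ⟨⟨a, fun {x' x} φ g hg => ?_⟩, fun z hz m => ?_⟩
  · subst hg
    refine Groth.L16.AffineBC.hom_ext_affine _ _ fun U hU m => ?_
    show (a x').app (bmap 𝒳 φ ⁻¹ᵁ U) ((E.map φ rfl).app U m) = (M.map φ rfl).app U ((a x).app U m)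
    rw [ha x U hU]
    refine Groth.L19.QCohFpqc.eq_of_affine (M.obj x') fun W hW hle => ?_
    rw [← app_rs, ha x' W hW]
    refine uniq x' W hW _ _ fun z hz t e => ?_
    have e₂ : (⊤ : (sch 𝒳 z).Opens) ≤ bmap 𝒳 t ⁻¹ᵁ (bmap 𝒳 φ ⁻¹ᵁ U) := e.trans ((bmap 𝒳 t).preimage_mono hle)
    have e₃ : (⊤ : (sch 𝒳 z).Opens) ≤ bmap 𝒳 (t ≫ φ) ⁻¹ᵁ U := by rw [bmap_comp]; exact e₂
    rw [hψ x' W hW z hz t e, resTo_rs, resTo_rs, resTo_map t φ e₂ e₃, resTo_map t φ e₂ e₃,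
      hψ x U hU z hz (t ≫ φ) e₃]
  · show (a z).app ⊤ m = _
    rw [ha z ⊤ (isAffineOpen_top _)]
    have e : (⊤ : (sch 𝒳 z).Opens) ≤ bmap 𝒳 (𝟙 z) ⁻¹ᵁ ⊤ := le_top
    have := hψ z ⊤ (isAffineOpen_top _) z hz (𝟙 z) e m
    rwa [resTo_top, resTo_top, Mod.mapTop_id, Mod.mapTop_id] at this

/-- A morphism vanishing at all affine objects vanishes. -/
theorem eq_zero_of_affine (h : FibCat.IsFibGrpd 𝒳.p) {E M : Mod 𝒳} (hM : M.IsCartesian) (φ : E ⟶ M)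
    (h0 : ∀ (z : 𝒳.obj), IsAffine (sch 𝒳 z) → ∀ m : Sec E z, (φ.app z).app ⊤ m = 0) : φ = 0 := by
  refine Mod.hom_ext fun x => Groth.L16.AffineBC.hom_ext_affine _ _ fun U hU m => ?_
  obtain ⟨y, r, hi, hr, ha⟩ := exists_restrict h x U
  haveI := hi
  obtain ⟨eM, bM⟩ := resTo_bijective hM r hr
  refine bM.1 ?_
  rw [resTo_app, h0 y (ha hU)]
  exact (map_zero _).symm

end Groth.L23.RelGen
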