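import Groth.Agent.L23.RelGen.Glue
import Groth.Agent.L19.QCohFpqc.Pull
import Mathlib.Algebra.Module.FinitePresentation

/-!
# Descent of sections and of morphisms to affine objects along flat families
-/

universe w v u

open CategoryTheory CategoryTheory.Limits AlgebraicGeometry Opposite TopologicalSpace
open scoped TensorProduct

set_option backward.isDefEq.respectTransparency false
set_option backward.isDefEq.respectTransparency.types false
set_option linter.style.haveILetI false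
set_option linter.unusedSectionVars false

noncomputable section

namespace Groth.L23.RelGen

open StMod

variable {S : Scheme.{u}} {𝒳 : BasedCategory.{v, w} (Over S)} {F : Mod 𝒳}

/-- Base change of sections, as an additive equivalence. -/
theorem exists_bcEquiv (hF : F.IsCartesian) (hq : F.IsLocQCoh) {x' x : 𝒳.obj} (φ : x' ⟶ x)
    [IsAffine (sch 𝒳 x')] [IsAffine (sch 𝒳 x)] :
    letI := (fnMap φ).toAlgebra
    ∃ E : Fn x' ⊗[Fn x] Sec F x ≃+ Sec F x', ∀ b m, E (b ⊗ₜ m) = b • F.mapTop φ m := by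
  letI := (fnMap φ).toAlgebra
  letI := Module.compHom (Sec F x') (fnMap φ)
  haveI : IsScalarTower (Fn x) (Fn x') (Sec F x') := IsScalarTower.of_algebraMap_smul fun _ _ => rfl
  have hb := isBaseChange_topMap hF hq φ
  exact ⟨hb.equiv.toAddEquiv, fun b m => hb.equiv_tmul b m⟩

/-- The fibre product of two morphisms of affine objects. -/
theorem exists_square (h : FibCat.IsFibGrpd 𝒳.p) {a b x : 𝒳.obj} (c : a ⟶ x) (d : b ⟶ x) :
    ∃ (q : 𝒳.obj) (p₁ : q ⟶ a) (p₂ : q ⟶ b), p₁ ≫ c = p₂ ≫ d ∧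
      IsPullback (bmap 𝒳 p₁) (bmap 𝒳 p₂) (bmap 𝒳 c) (bmap 𝒳 d) := by
  let V : Over S := Over.mk (pullback.fst (bmap 𝒳 c) (bmap 𝒳 d) ≫ (𝒳.p.obj a).hom)
  obtain ⟨q, p₁, e, hp⟩ := exists_lift h (Over.homMk (pullback.fst (bmap 𝒳 c) (bmap 𝒳 d)) rfl : V ⟶ 𝒳.p.obj a)
  let g : 𝒳.p.obj q ⟶ 𝒳.p.obj b := eqToHom e ≫ (Over.homMk (pullback.snd (bmap 𝒳 c) (bmap 𝒳 d)) (by
    show _ ≫ (𝒳.p.obj b).hom = pullback.fst _ _ ≫ (𝒳.p.obj a).hom
    rw [← sch_hom_eq c, ← sch_hom_eq d, pullback.condition_assoc]) : V ⟶ 𝒳.p.obj b)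
  have hb₁ : bmap 𝒳 p₁ = eqToHom (congrArg Comma.left e) ≫ pullback.fst (bmap 𝒳 c) (bmap 𝒳 d) := by
    have := congrArg (fun k => k.left) hp
    simp only [Over.comp_left, Over.eqToHom_left] at this
    exact this
  have hg : g ≫ 𝒳.p.map d = 𝒳.p.map (p₁ ≫ c) := by
    rw [Functor.map_comp, hp]
    apply Over.OverMorphism.ext
    simp only [g, Over.comp_left, Category.assoc]
    exact congrArg _ pullback.condition.symm
  obtain ⟨p₂, ⟨hp₂, hw⟩, -⟩ := existsUnique_factor h (p₁ ≫ c) d g hg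
  have hb₂ : bmap 𝒳 p₂ = eqToHom (congrArg Comma.left e) ≫ pullback.snd (bmap 𝒳 c) (bmap 𝒳 d) := by
    have := congrArg (fun k => k.left) hp₂
    simp only [g, Over.comp_left, Over.eqToHom_left] at this
    exact this
  refine ⟨q, p₁, p₂, hw.symm, ?_⟩
  rw [hb₁, hb₂]
  exact (IsPullback.of_hasPullback _ _).of_iso (eqToIso (congrArg Comma.left e).symm) (Iso.refl _) (Iso.refl _)
    (Iso.refl _) (by simp) (by simp) (by simp) (by simp)

/-- Sections over a base change square are a tensor product. -/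
theorem exists_bcSquare (hF : F.IsCartesian) (hq : F.IsLocQCoh) {q a b x : 𝒳.obj} {c : a ⟶ x} {d : b ⟶ x}
    {p₁ : q ⟶ a} {p₂ : q ⟶ b} [IsAffine (sch 𝒳 x)] [IsAffine (sch 𝒳 a)] [IsAffine (sch 𝒳 b)]
    (H : IsPullback (bmap 𝒳 p₁) (bmap 𝒳 p₂) (bmap 𝒳 c) (bmap 𝒳 d)) :
    letI := (fnMap c).toAlgebra
    letI := Module.compHom (Sec F b) (fnMap d)
    ∃ E : Fn a ⊗[Fn x] Sec F b ≃+ Sec F q, ∀ r m, E (r ⊗ₜ m) = fnMap p₁ r • F.mapTop p₂ m := by
  haveI : IsAffine (sch 𝒳 q) := IsAffine.of_isIso H.isoPullback.hom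
  letI := (fnMap c).toAlgebra
  letI := (fnMap d).toAlgebra
  letI := (fnMap p₂).toAlgebra
  letI := (fnMap p₁).toAlgebra
  letI : Algebra (Fn x) (Fn q) := ((fnMap p₁).comp (fnMap c)).toAlgebra
  haveI : IsScalarTower (Fn x) (Fn a) (Fn q) := IsScalarTower.of_algebraMap_eq fun _ => rfl
  have hsq := isPushout_appTop_of_isPullback H
  haveI : IsScalarTower (Fn x) (Fn b) (Fn q) := IsScalarTower.of_algebraMap_eq fun r => by
    exact congr($(hsq.w) r)
  letI := Module.compHom (Sec F b) (fnMap d)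
  haveI : IsScalarTower (Fn x) (Fn b) (Sec F b) := IsScalarTower.of_algebraMap_smul fun _ _ => rfl
  haveI : Algebra.IsPushout (Fn x) (Fn a) (Fn b) (Fn q) := CommRingCat.isPushout_iff_isPushout.mp hsq
  obtain ⟨E, hE⟩ := exists_bcEquiv hF hq p₂
  refine ⟨(Algebra.IsPushout.cancelBaseChange (Fn x) (Fn a) (Fn b) (Fn q) (Sec F b)).symm.toAddEquiv.trans E,
    fun r m => ?_⟩
  show E ((Algebra.IsPushout.cancelBaseChange (Fn x) (Fn a) (Fn b) (Fn q) (Sec F b)).symm (r ⊗ₜ m)) = _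
  rw [Algebra.IsPushout.cancelBaseChange_symm_tmul, hE]
  rfl

/-- A family of morphisms to an affine object from affine objects, flat and jointly surjective. -/
structure Cover (x : 𝒳.obj) where
  /-- the index -/
  ι : Type u
  /-- the members -/
  obj : ι → 𝒳.obj
  /-- the morphisms -/
  map : ∀ l, obj l ⟶ x
  affine : ∀ l, IsAffine (sch 𝒳 (obj l))
  cov : Groth.L19.QCohFpqc.IsCov (fun l => bmap 𝒳 (map l))

/-- A section killed on a covering family is zero. -/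
theorem Cover.eq_zero {x : 𝒳.obj} [IsAffine (sch 𝒳 x)] (𝒰 : Cover x) (hF : F.IsCartesian) (hq : F.IsLocQCoh)
    (m : Sec F x) (h0 : ∀ l, F.mapTop (𝒰.map l) m = 0) : m = 0 := by
  letI := fun l => (fnMap (𝒰.map l)).toAlgebra
  haveI := 𝒰.affine
  haveI := fun l => Groth.L19.QCohFpqc.IsCov.flat_appTop (fun l => bmap 𝒳 (𝒰.map l)) 𝒰.cov l
  refine Groth.L19.QCohFpqc.eq_zero_of_forall (fun l => Fn (𝒰.obj l))
    (Groth.L19.QCohFpqc.IsCov.prime_lift (fun l => bmap 𝒳 (𝒰.map l)) 𝒰.cov) m fun l => ?_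
  obtain ⟨E, hE⟩ := exists_bcEquiv hF hq (𝒰.map l)
  refine E.injective ?_
  rw [hE, h0 l, smul_zero, map_zero]

theorem Cover.ext {x : 𝒳.obj} [IsAffine (sch 𝒳 x)] (𝒰 : Cover x) (hF : F.IsCartesian) (hq : F.IsLocQCoh)
    (m m' : Sec F x) (h0 : ∀ l, F.mapTop (𝒰.map l) m = F.mapTop (𝒰.map l) m') : m = m' := by
  refine sub_eq_zero.1 (𝒰.eq_zero hF hq _ fun l => ?_)
  show (topMap F (𝒰.map l)) (m - m') = 0
  rw [map_sub, topMap_apply, topMap_apply, h0 l, sub_self]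

/-- Gluing of sections along a finite covering family. -/
theorem Cover.exists_glue (h : FibCat.IsFibGrpd 𝒳.p) {x : 𝒳.obj} [IsAffine (sch 𝒳 x)] (𝒰 : Cover x) [Finite 𝒰.ι]
    (hF : F.IsCartesian) (hq : F.IsLocQCoh) (y : ∀ l, Sec F (𝒰.obj l))
    (hy : ∀ (z : 𝒳.obj) (_ : IsAffine (sch 𝒳 z)) (k l : 𝒰.ι) (p : z ⟶ 𝒰.obj k) (q : z ⟶ 𝒰.obj l),
      p ≫ 𝒰.map k = q ≫ 𝒰.map l → F.mapTop p (y k) = F.mapTop q (y l)) :
    ∃ m : Sec F x, ∀ l, F.mapTop (𝒰.map l) m = y l := by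
  classical
  haveI : Fintype 𝒰.ι := Fintype.ofFinite _
  haveI := 𝒰.affine
  letI := fun l => (fnMap (𝒰.map l)).toAlgebra
  haveI := fun l => Groth.L19.QCohFpqc.IsCov.flat_appTop (fun l => bmap 𝒳 (𝒰.map l)) 𝒰.cov l
  letI := fun l => Module.compHom (Sec F (𝒰.obj l)) (fnMap (𝒰.map l))
  let D : Sec F x →ₗ[Fn x] ∀ l, Sec F (𝒰.obj l) :=
    LinearMap.pi fun l =>
      { toFun := F.mapTop (𝒰.map l), map_add' := F.mapTop_add _, map_smul' := F.mapTop_smul _ }
  suffices hy' : y ∈ LinearMap.range D by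
    obtain ⟨m, hm⟩ := hy'
    exact ⟨m, fun l => congrFun hm l⟩
  rw [← Submodule.Quotient.mk_eq_zero (LinearMap.range D)]
  refine Groth.L19.QCohFpqc.eq_zero_of_forall (A := Fn x) (fun k => Fn (𝒰.obj k))
    (Groth.L19.QCohFpqc.IsCov.prime_lift (fun l => bmap 𝒳 (𝒰.map l)) 𝒰.cov)
    (Q := (∀ l, Sec F (𝒰.obj l)) ⧸ LinearMap.range D) _ fun k => ?_
  obtain ⟨Ek, hEk⟩ := exists_bcEquiv hF hq (𝒰.map k)
  obtain ⟨t, ht⟩ := Ek.surjective (y k)
  have hm : D.lTensor (Fn (𝒰.obj k)) t = (1 : Fn (𝒰.obj k)) ⊗ₜ y := by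
    refine (TensorProduct.piRight (Fn x) (Fn x) (Fn (𝒰.obj k)) fun l => Sec F (𝒰.obj l)).injective ?_
    funext l
    obtain ⟨q, p₁, p₂, hw, H⟩ := exists_square h (𝒰.map k) (𝒰.map l)
    haveI : IsAffine (sch 𝒳 q) := IsAffine.of_isIso H.isoPullback.hom
    obtain ⟨E, hE⟩ := exists_bcSquare hF hq H
    refine E.injective ?_
    have key : ∀ t, E ((TensorProduct.piRight (Fn x) (Fn x) (Fn (𝒰.obj k)) (fun l => Sec F (𝒰.obj l))
        (D.lTensor _ t)) l) = F.mapTop p₁ (Ek t) := fun t => by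
      induction t using TensorProduct.induction_on with
      | zero => simp only [map_zero, Pi.zero_apply]; exact (F.mapTop_zero _).symm
      | tmul c m =>
        rw [LinearMap.lTensor_tmul, TensorProduct.piRight_apply, TensorProduct.piRightHom_tmul, hE, hEk,
          Mod.mapTop_smul, ← Mod.mapTop_comp, hw]
        refine congrArg _ ?_
        show F.mapTop p₂ (F.mapTop (𝒰.map l) m) = _
        rw [Mod.mapTop_comp]
      | add a b ha hb => simp only [map_add, Pi.add_apply, ha, hb]; exact (F.mapTop_add _ _ _).symm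
    rw [key, ht, TensorProduct.piRight_apply, TensorProduct.piRightHom_tmul, hE, map_one, one_smul]
    exact hy q inferInstance k l p₁ p₂ hw
  rw [show (Submodule.Quotient.mk y : _ ⧸ LinearMap.range D) = (LinearMap.range D).mkQ y from rfl,
    ← LinearMap.lTensor_tmul, ← hm, ← LinearMap.comp_apply, ← LinearMap.lTensor_comp,
    LinearMap.range_mkQ_comp, LinearMap.lTensor_zero, LinearMap.zero_apply]

/-- Composition of a morphism to an affine object with a cover. -/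
theorem fnMap_flat {x' x : 𝒳.obj} (φ : x' ⟶ x) [IsAffine (sch 𝒳 x')] [IsAffine (sch 𝒳 x)] [Flat (bmap 𝒳 φ)] :
    letI := (fnMap φ).toAlgebra
    Module.Flat (Fn x) (Fn x') :=
  (bmap 𝒳 φ).flat_appTop

end Groth.L23.RelGen
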