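import Mathlib.RingTheory.TensorProduct.Basic

/-!
# Tensor products along isomorphisms of rings
-/

universe u

open scoped TensorProduct

set_option autoImplicit false
set_option linter.unusedSectionVars false

noncomputable section

namespace Groth.L23.RelGen

variable {R R' R₂ R₂' : Type u} [CommRing R] [CommRing R'] [CommRing R₂] [CommRing R₂'] [Algebra R R']
  [Algebra R₂ R₂'] {M M₂ : Type u} [AddCommGroup M] [Module R M] [AddCommGroup M₂] [Module R₂ M₂]

/-- The additive map between tensor products along compatible maps. -/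
theorem exists_tensorMap (σ : R → R₂) (hσ : Function.Surjective σ) (σ' : R' →+ R₂')
    (hmul : ∀ r c, σ' (r • c) = σ r • σ' c) (ψ : M →+ M₂) (hψ : ∀ r m, ψ (r • m) = σ r • ψ m) :
    ∃ Θ : R' ⊗[R] M →+ R₂' ⊗[R₂] M₂, ∀ c m, Θ (c ⊗ₜ m) = σ' c ⊗ₜ ψ m := by
  let g : R' →+ M →+ R₂' ⊗[R₂] M₂ :=
    AddMonoidHom.mk' (fun c => AddMonoidHom.mk' (fun m => σ' c ⊗ₜ ψ m)
      (fun a b => by rw [map_add, TensorProduct.tmul_add]))
      (fun a b => AddMonoidHom.ext fun m => by simp [TensorProduct.add_tmul])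
  refine ⟨TensorProduct.liftAddHom g fun r c m => ?_, fun c m => rfl⟩
  show σ' (r • c) ⊗ₜ[R₂] ψ m = σ' c ⊗ₜ[R₂] ψ (r • m)
  rw [hmul, hψ, TensorProduct.smul_tmul]

/-- Tensor products along isomorphisms. -/
theorem exists_tensorTransport (σ : R →+* R₂) (hσ : Function.Bijective σ) (σ' : R' →+* R₂')
    (hσ' : Function.Bijective σ') (hcomm : ∀ r, σ' (algebraMap R R' r) = algebraMap R₂ R₂' (σ r))
    (ψ : M →+ M₂) (hψb : Function.Bijective ψ) (hψ : ∀ r m, ψ (r • m) = σ r • ψ m) :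
    ∃ Θ : R' ⊗[R] M ≃+ R₂' ⊗[R₂] M₂, ∀ c m, Θ (c ⊗ₜ m) = σ' c ⊗ₜ ψ m := by
  have hmul : ∀ (r : R) (c : R'), σ' (r • c) = σ r • σ' c := fun r c => by
    rw [Algebra.smul_def, Algebra.smul_def, map_mul, hcomm]
  let eσ := RingEquiv.ofBijective σ hσ
  let eσ' := RingEquiv.ofBijective σ' hσ'
  let eψ := AddEquiv.ofBijective ψ hψb
  obtain ⟨Θ, hΘ⟩ := exists_tensorMap σ hσ.2 σ'.toAddMonoidHom hmul ψ hψ
  obtain ⟨Ξ, hΞ⟩ := exists_tensorMap (R := R₂) (R' := R₂') (R₂ := R) (R₂' := R') (M := M₂) (M₂ := M)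
    eσ.symm eσ.symm.surjective eσ'.symm.toAddMonoidHom
    (fun r c => eσ'.injective (by
      show eσ' (eσ'.symm (r • c)) = σ' (eσ.symm r • eσ'.symm c)
      rw [hmul, eσ'.apply_symm_apply]
      show r • c = eσ (eσ.symm r) • eσ' (eσ'.symm c)
      rw [eσ.apply_symm_apply, eσ'.apply_symm_apply]))
    eψ.symm.toAddMonoidHom
    (fun r m => eψ.injective (by
      show eψ (eψ.symm (r • m)) = ψ (eσ.symm r • eψ.symm m)
      rw [hψ, eψ.apply_symm_apply]
      show r • m = eσ (eσ.symm r) • eψ (eψ.symm m)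
      rw [eσ.apply_symm_apply, eψ.apply_symm_apply]))
  refine ⟨AddEquiv.ofBijective Θ (Function.bijective_iff_has_inverse.2 ⟨Ξ, fun t => ?_, fun t => ?_⟩), hΘ⟩
  · induction t using TensorProduct.induction_on with
    | zero => rw [map_zero, map_zero]
    | tmul c m =>
      rw [hΘ, hΞ]
      exact congrArg₂ (· ⊗ₜ[R] ·) (eσ'.symm_apply_apply c) (eψ.symm_apply_apply m)
    | add a b ha hb => rw [map_add, map_add, ha, hb]
  · induction t using TensorProduct.induction_on with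
    | zero => rw [map_zero, map_zero]
    | tmul c m =>
      rw [hΞ, hΘ]
      exact congrArg₂ (· ⊗ₜ[R₂] ·) (eσ'.apply_symm_apply c) (eψ.apply_symm_apply m)
    | add a b ha hb => rw [map_add, map_add, ha, hb]

end Groth.L23.RelGen
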