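import Groth.Agent.L23.RelGen.Slice

/-!
# Descent data over an atlas from an evaluation
-/

universe t w v u

open CategoryTheory CategoryTheory.Limits AlgebraicGeometry Opposite TopologicalSpace

set_option backward.isDefEq.respectTransparency false
set_option backward.isDefEq.respectTransparency.types false
set_option linter.style.haveILetI false
set_option linter.unusedSectionVars false

noncomputable section

namespace Groth.L23.RelGen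

open StMod

variable {S : Scheme.{u}} {𝒱 : BasedCategory.{v, w} (Over S)}

/-- A quasi-coherent module on the slice over a chart with identifications for pairs of morphisms to the chart. -/
structure DD {x₀ : 𝒱.obj} (G : QCoh (Sl x₀)) where
  /-- the identifications -/
  T : ∀ {v : 𝒱.obj}, IsAffine (sch 𝒱 v) → ∀ p q : v ⟶ x₀, Sec G.obj (slMk p) →+ Sec G.obj (slMk q)
  T_smul : ∀ {v : 𝒱.obj} (hv : IsAffine (sch 𝒱 v)) (p q : v ⟶ x₀) (r : Fn v) (m : Sec G.obj (slMk p)),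
    T hv p q ((show Fn (slMk p) from r) • m) = (show Fn (slMk q) from r) • T hv p q m
  T_nat : ∀ {v' v : 𝒱.obj} (hv' : IsAffine (sch 𝒱 v')) (hv : IsAffine (sch 𝒱 v)) (k : v' ⟶ v) {p q : v ⟶ x₀}
    {p' q' : v' ⟶ x₀} (hp : k ≫ p = p') (hq : k ≫ q = q') (m : Sec G.obj (slMk p)),
    T hv' p' q' (G.obj.mapTop (slHom (s' := slMk p') (s := slMk p) k hp) m) =
      G.obj.mapTop (slHom (s' := slMk q') (s := slMk q) k hq) (T hv p q m)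
  T_comp : ∀ {v : 𝒱.obj} (hv : IsAffine (sch 𝒱 v)) (p q r : v ⟶ x₀) (m : Sec G.obj (slMk p)),
    T hv q r (T hv p q m) = T hv p r m
  T_self : ∀ {v : 𝒱.obj} (hv : IsAffine (sch 𝒱 v)) (p : v ⟶ x₀) (m : Sec G.obj (slMk p)), T hv p p m = m

variable {x₀ : 𝒱.obj}

/-- A covering family in the slice. -/
def slCover {v : 𝒱.obj} (𝒰 : Cover v) (p : v ⟶ x₀) : Cover (𝒳 := Sl x₀) (slMk p) where
  ι := 𝒰.ι
  obj l := slMk (𝒰.map l ≫ p)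
  map l := slHom (𝒰.map l) rfl
  affine := 𝒰.affine
  cov := 𝒰.cov

/-- A square of schemes over a pair of morphisms lifts. -/
theorem exists_square_lift {𝒳 : BasedCategory.{v, w} (Over S)} (h : FibCat.IsFibGrpd 𝒳.p) {q a b x z : 𝒳.obj}
    {c : a ⟶ x} {d : b ⟶ x} {p₁ : q ⟶ a} {p₂ : q ⟶ b} (e : p₁ ≫ c = p₂ ≫ d)
    (H : IsPullback (bmap 𝒳 p₁) (bmap 𝒳 p₂) (bmap 𝒳 c) (bmap 𝒳 d)) (s₁ : z ⟶ a) (s₂ : z ⟶ b)
    (es : s₁ ≫ c = s₂ ≫ d) : ∃ s : z ⟶ q, s ≫ p₁ = s₁ ∧ s ≫ p₂ = s₂ := by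
  have hb : bmap 𝒳 s₁ ≫ bmap 𝒳 c = bmap 𝒳 s₂ ≫ bmap 𝒳 d := by rw [← bmap_comp, ← bmap_comp, es]
  have h₁ := H.lift_fst _ _ hb
  have h₂ := H.lift_snd _ _ hb
  let g : 𝒳.p.obj z ⟶ 𝒳.p.obj q := Over.homMk (H.lift _ _ hb) (by
    show H.lift _ _ hb ≫ (𝒳.p.obj q).hom = (𝒳.p.obj z).hom
    rw [← sch_hom_eq p₁, ← sch_hom_eq s₁, ← Category.assoc, h₁])
  obtain ⟨s, ⟨hs, hs₁⟩, -⟩ := existsUnique_factor h s₁ p₁ g (Over.OverMorphism.ext h₁)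
  refine ⟨s, hs₁, ?_⟩
  refine (existsUnique_factor h (s₂ ≫ d) d (𝒳.p.map s₂) (𝒳.p.map_comp _ _).symm).unique ⟨?_, ?_⟩ ⟨rfl, rfl⟩
  · rw [Functor.map_comp, hs]
    exact Over.OverMorphism.ext h₂
  · rw [Category.assoc, ← e, ← Category.assoc, hs₁, es]

theorem mapTop_sl_comp (G : Mod (Sl x₀)) {v'' v' v : 𝒱.obj} {p : v ⟶ x₀} {p' : v' ⟶ x₀} {p'' : v'' ⟶ x₀}
    (k' : v'' ⟶ v') (k : v' ⟶ v) (hk' : k' ≫ p' = p'') (hk : k ≫ p = p') (hkk : (k' ≫ k) ≫ p = p'')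
    (m : Sec G (slMk p)) :
    G.mapTop (slHom (s' := slMk p'') (s := slMk p') k' hk') (G.mapTop (slHom (s' := slMk p') (s := slMk p) k hk) m) =
      G.mapTop (slHom (s' := slMk p'') (s := slMk p) (k' ≫ k) hkk) m :=
  (G.mapTop_comp _ _ m).symm

namespace Eval

variable (A : Atlas3 𝒱) {G : QCoh (Sl A.x₀)} (ev : Eval G.obj)

/-- Identifications natural and compatible with evaluation. -/
structure PreT where
  /-- the identifications -/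
  T : ∀ {v : 𝒱.obj}, IsAffine (sch 𝒱 v) → ∀ p q : v ⟶ A.x₀, Sec G.obj (slMk p) →+ Sec G.obj (slMk q)
  T_smul : ∀ {v : 𝒱.obj} (hv : IsAffine (sch 𝒱 v)) (p q : v ⟶ A.x₀) (r : Fn v) (m : Sec G.obj (slMk p)),
    T hv p q ((show Fn (slMk p) from r) • m) = (show Fn (slMk q) from r) • T hv p q m
  T_nat : ∀ {v' v : 𝒱.obj} (hv' : IsAffine (sch 𝒱 v')) (hv : IsAffine (sch 𝒱 v)) (k : v' ⟶ v) {p q : v ⟶ A.x₀}
    {p' q' : v' ⟶ A.x₀} (hp : k ≫ p = p') (hq : k ≫ q = q') (m : Sec G.obj (slMk p)),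
    T hv' p' q' (G.obj.mapTop (slHom (s' := slMk p') (s := slMk p) k hp) m) =
      G.obj.mapTop (slHom (s' := slMk q') (s := slMk q) k hq) (T hv p q m)
  T_ev : ∀ {v : 𝒱.obj} (hv : IsAffine (sch 𝒱 v)) (p q : v ⟶ A.x₀) (t : v ⟶ A.ov), t ≫ A.a = p → t ≫ A.b = q →
    ∀ e : Sec G.obj (slMk p), ev.β (slMk q) hv (T hv p q e) = ev.β (slMk p) hv e

variable {A ev}

theorem PreT.eq_on_piece (P : PreT A ev) {v' v : 𝒱.obj} (hv' : IsAffine (sch 𝒱 v')) (hv : IsAffine (sch 𝒱 v))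
    (k : v' ⟶ v) {p q : v ⟶ A.x₀} {p' q' : v' ⟶ A.x₀} (hp : k ≫ p = p') (hq : k ≫ q = q')
    (m : Sec G.obj (slMk p)) :
    G.obj.mapTop (slHom (s' := slMk q') (s := slMk q) k hq) (P.T hv p q m) =
      P.T hv' p' q' (G.obj.mapTop (slHom (s' := slMk p') (s := slMk p) k hp) m) :=
  (P.T_nat hv' hv k hp hq m).symm

theorem PreT.self_id (P : PreT A ev) (m : Sec G.obj (slMk (𝟙 A.x₀))) : P.T A.aff₀ (𝟙 _) (𝟙 _) m = m := by
  haveI : IsAffine (sch (Sl A.x₀) (slMk (𝟙 A.x₀))) := A.aff₀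
  obtain ⟨𝒰, -, h𝒰⟩ := A.pairs A.x₀ A.aff₀ (𝟙 _) (𝟙 _)
  refine (slCover 𝒰 (𝟙 A.x₀)).ext G.property.1 G.property.2 _ _ fun l => ?_
  obtain ⟨t, ha, hb⟩ := h𝒰 l
  refine (P.eq_on_piece (𝒰.affine l) A.aff₀ (𝒰.map l) rfl rfl m).trans ?_
  refine (ev.bij (slMk (𝒰.map l ≫ 𝟙 A.x₀)) (𝒰.affine l) ?_).1 (P.T_ev (𝒰.affine l) _ _ t ha hb _)
  show Flat (bmap 𝒱 (𝒰.map l ≫ 𝟙 A.x₀))
  rw [Category.comp_id]
  exact 𝒰.cov.flat l

theorem PreT.self (P : PreT A ev) {v : 𝒱.obj} (hv : IsAffine (sch 𝒱 v)) (p : v ⟶ A.x₀) (m : Sec G.obj (slMk p)) :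
    P.T hv p p m = m := by
  haveI : IsAffine (sch (Sl A.x₀) (slMk p)) := hv
  haveI : IsAffine (sch (Sl A.x₀) (slMk (𝟙 A.x₀))) := A.aff₀
  refine induction_topMap G.property.1 G.property.2
    (slHom (s' := slMk p) (s := slMk (𝟙 A.x₀)) p (Category.comp_id p)) m
    (p := fun m => P.T hv p p m = m) (map_zero _) (fun r a => ?_) fun a b ha hb => by rw [map_add, ha, hb]
  refine (P.T_smul hv p p r _).trans ?_
  rw [P.T_nat hv A.aff₀ p (Category.comp_id p) (Category.comp_id p), P.self_id]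

theorem PreT.comp_flat (P : PreT A ev) {W : 𝒱.obj} (hW : IsAffine (sch 𝒱 W)) (t₁ t₂ : W ⟶ A.ov) {p q r : W ⟶ A.x₀}
    (hp : t₁ ≫ A.a = p) (hq : t₁ ≫ A.b = q) (hq' : t₂ ≫ A.a = q) (hr : t₂ ≫ A.b = r) (hfl : Flat (bmap 𝒱 r))
    (m : Sec G.obj (slMk p)) : P.T hW q r (P.T hW p q m) = P.T hW p r m := by
  obtain ⟨𝒰, -, h𝒰⟩ := A.pairs W hW p r
  haveI : IsAffine (sch (Sl A.x₀) (slMk r)) := hW
  refine (slCover 𝒰 r).ext G.property.1 G.property.2 _ _ fun l => ?_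
  obtain ⟨t, ha, hb⟩ := h𝒰 l
  refine (P.eq_on_piece (𝒰.affine l) hW (𝒰.map l) (p := q) rfl rfl _).trans ?_
  refine Eq.trans ?_ (P.eq_on_piece (𝒰.affine l) hW (𝒰.map l) (p := p) rfl rfl _).symm
  rw [P.eq_on_piece (𝒰.affine l) hW (𝒰.map l) (p := p) (q := q) rfl rfl]
  refine (ev.bij (slMk (𝒰.map l ≫ r)) (𝒰.affine l) ?_).1 ?_
  · show Flat (bmap 𝒱 (𝒰.map l ≫ r))
    haveI := 𝒰.cov.flat l
    haveI := hfl
    rw [bmap_comp]
    infer_instance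
  refine ((P.T_ev (𝒰.affine l) (𝒰.map l ≫ q) (𝒰.map l ≫ r) (𝒰.map l ≫ t₂) ?_ ?_ _).trans
    (P.T_ev (𝒰.affine l) (𝒰.map l ≫ p) (𝒰.map l ≫ q) (𝒰.map l ≫ t₁) ?_ ?_ _)).trans
      (P.T_ev (𝒰.affine l) (𝒰.map l ≫ p) (𝒰.map l ≫ r) t ha hb _).symm
  · rw [Category.assoc, hq']
  · rw [Category.assoc, hr]
  · rw [Category.assoc, hp]
  · rw [Category.assoc, hq]

theorem PreT.comp_square (P : PreT A ev) {v W : 𝒱.obj} (hv : IsAffine (sch 𝒱 v)) (hW : IsAffine (sch 𝒱 W))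
    (s : v ⟶ W) {pW qW rW : W ⟶ A.x₀} {p q r : v ⟶ A.x₀} (hp : s ≫ pW = p) (hq : s ≫ qW = q) (hr : s ≫ rW = r)
    (hcomp : ∀ a, P.T hW qW rW (P.T hW pW qW a) = P.T hW pW rW a) (m : Sec G.obj (slMk p)) :
    P.T hv q r (P.T hv p q m) = P.T hv p r m := by
  haveI : IsAffine (sch (Sl A.x₀) (slMk p)) := hv
  haveI : IsAffine (sch (Sl A.x₀) (slMk pW)) := hW
  refine induction_topMap G.property.1 G.property.2 (slHom (s' := slMk p) (s := slMk pW) s hp) m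
    (p := fun m => P.T hv q r (P.T hv p q m) = P.T hv p r m)
    (((congrArg (P.T hv q r) (map_zero (P.T hv p q))).trans (map_zero (P.T hv q r))).trans
      (map_zero (P.T hv p r)).symm)
    (fun c a => ?_) fun a b ha hb => by rw [map_add, map_add, map_add, ha, hb]
  refine ((congrArg (P.T hv q r) (P.T_smul hv p q c _)).trans (P.T_smul hv q r c _)).trans ?_
  refine Eq.trans ?_ (P.T_smul hv p r c _).symm
  rw [P.T_nat hv hW s hp hq, P.T_nat hv hW s hq hr, P.T_nat hv hW s hp hr, hcomp a]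

theorem PreT.comp (P : PreT A ev) (h : FibCat.IsFibGrpd 𝒱.p) {v : 𝒱.obj} (hv : IsAffine (sch 𝒱 v))
    (p q r : v ⟶ A.x₀) (m : Sec G.obj (slMk p)) : P.T hv q r (P.T hv p q m) = P.T hv p r m := by
  haveI := A.aff₀
  haveI := A.affov
  obtain ⟨W, p₁, p₂, hw, H⟩ := exists_square h A.b A.a
  have hW : IsAffine (sch 𝒱 W) := IsAffine.of_isIso H.isoPullback.hom
  haveI hp₂ : Flat (bmap 𝒱 p₂) := MorphismProperty.of_isPullback H A.flat_b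
  haveI := A.flat_b
  have hfl : Flat (bmap 𝒱 (p₂ ≫ A.b)) := by rw [bmap_comp]; infer_instance
  have onLift : ∀ {v : 𝒱.obj} (hv : IsAffine (sch 𝒱 v)) (p q r : v ⟶ A.x₀) (t₁ t₂ : v ⟶ A.ov),
      t₁ ≫ A.a = p → t₁ ≫ A.b = q → t₂ ≫ A.a = q → t₂ ≫ A.b = r →
      ∀ m, P.T hv q r (P.T hv p q m) = P.T hv p r m := by
    intro v hv p q r t₁ t₂ hp hq hq' hr' m
    obtain ⟨s, hs₁, hs₂⟩ := exists_square_lift h hw H t₁ t₂ (hq.trans hq'.symm)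
    exact P.comp_square hv hW s (by rw [← Category.assoc, hs₁, hp]) (by rw [← Category.assoc, hs₁, hq])
      (by rw [← Category.assoc, hs₂, hr'] ) (P.comp_flat hW p₁ p₂ rfl rfl hw.symm rfl hfl) m
  haveI : IsAffine (sch (Sl A.x₀) (slMk r)) := hv
  obtain ⟨𝒰, -, h𝒰⟩ := A.pairs v hv p q
  refine (slCover 𝒰 r).ext G.property.1 G.property.2 _ _ fun l => ?_
  obtain ⟨t₁, ha₁, hb₁⟩ := h𝒰 l
  refine (P.eq_on_piece (𝒰.affine l) hv (𝒰.map l) (p := q) rfl rfl _).trans ?_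
  refine Eq.trans ?_ (P.eq_on_piece (𝒰.affine l) hv (𝒰.map l) (p := p) rfl rfl _).symm
  rw [P.eq_on_piece (𝒰.affine l) hv (𝒰.map l) (p := p) (q := q) rfl rfl]
  generalize G.obj.mapTop (slHom (s' := slMk (𝒰.map l ≫ p)) (s := slMk p) (𝒰.map l) rfl) m = m'
  obtain ⟨𝒲, -, h𝒲⟩ := A.pairs (𝒰.obj l) (𝒰.affine l) (𝒰.map l ≫ q) (𝒰.map l ≫ r)
  haveI : IsAffine (sch (Sl A.x₀) (slMk (𝒰.map l ≫ r))) := 𝒰.affine l
  refine (slCover 𝒲 (𝒰.map l ≫ r)).ext G.property.1 G.property.2 _ _ fun j => ?_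
  obtain ⟨t₂, ha₂, hb₂⟩ := h𝒲 j
  refine (P.eq_on_piece (𝒲.affine j) (𝒰.affine l) (𝒲.map j) (p := 𝒰.map l ≫ q) rfl rfl _).trans ?_
  refine Eq.trans ?_ (P.eq_on_piece (𝒲.affine j) (𝒰.affine l) (𝒲.map j) (p := 𝒰.map l ≫ p) rfl rfl _).symm
  rw [P.eq_on_piece (𝒲.affine j) (𝒰.affine l) (𝒲.map j) (p := 𝒰.map l ≫ p) (q := 𝒰.map l ≫ q) rfl rfl]
  exact onLift (𝒲.affine j) _ _ _ (𝒲.map j ≫ t₁) t₂ (by rw [Category.assoc, ha₁]) (by rw [Category.assoc, hb₁])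
    ha₂ hb₂ _

variable (A ev)

theorem exists_preT (h : FibCat.IsFibGrpd 𝒱.p) : Nonempty (PreT A ev) := by
  obtain ⟨τ, hτ⟩ := ev.exists_tau A h
  refine ⟨⟨fun {v} _ p q => ((τ.app (prMk p q)).app ⊤).hom, fun _ p q r m => (τ.app (prMk p q)).app_smul r m,
    fun {v' v} _ _ k {p q p' q'} hp hq m => ?_, fun hv p q t ha hb e => hτ (prMk p q) hv (prHom t ha hb) e⟩⟩
  let φ : prMk p' q' ⟶ prMk p q := prHom k hp hq
  exact ((congrArg ((τ.app (prMk p' q')).app ⊤) (mapTop_fibFst _ _ G.obj φ m).symm).trans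
    (Mod.mapTop_app τ φ m).symm).trans (mapTop_sndS G.obj φ _)

/-- Descent data from an evaluation. -/
theorem exists_dd (h : FibCat.IsFibGrpd 𝒱.p) : ∃ D : DD G,
    ∀ {v : 𝒱.obj} (hv : IsAffine (sch 𝒱 v)) (p q : v ⟶ A.x₀) (t : v ⟶ A.ov), t ≫ A.a = p → t ≫ A.b = q →
      ∀ e : Sec G.obj (slMk p), ev.β (slMk q) hv (D.T hv p q e) = ev.β (slMk p) hv e := by
  obtain ⟨P⟩ := exists_preT A ev h
  exact ⟨⟨P.T, P.T_smul, P.T_nat, fun hv => P.comp h hv, fun hv => P.self hv⟩, P.T_ev⟩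

end Eval

end Groth.L23.RelGen
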