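import Groth.Agent.L23.RelGen.Desc

/-!
# Morphisms of quasi-coherent modules from their values on an affine atlas
-/

universe w v u

open CategoryTheory CategoryTheory.Limits AlgebraicGeometry Opposite TopologicalSpace
open scoped TensorProduct

set_option backward.isDefEq.respectTransparency false
set_option backward.isDefEq.respectTransparency.types false
set_option linter.style.haveILetI false
set_option linter.unusedSectionVars false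

noncomputable section

namespace Groth.L23.RelGen

open StMod

variable {S : Scheme.{u}} {𝒳 : BasedCategory.{v, w} (Over S)} {E M : Mod 𝒳}

/-- Linear maps on sections compatible along a morphism. -/
def IsExt {x' x : 𝒳.obj} (φ : x' ⟶ x) (θ : Sec E x →ₗ[Fn x] Sec M x) (θ' : Sec E x' →ₗ[Fn x'] Sec M x') : Prop :=
  ∀ m, θ' (E.mapTop φ m) = M.mapTop φ (θ m)

theorem IsExt.comp {x'' x' x : 𝒳.obj} {ψ : x'' ⟶ x'} {φ : x' ⟶ x} {θ : Sec E x →ₗ[Fn x] Sec M x}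
    {θ' : Sec E x' →ₗ[Fn x'] Sec M x'} {θ'' : Sec E x'' →ₗ[Fn x''] Sec M x''} (h : IsExt φ θ θ')
    (h' : IsExt ψ θ' θ'') : IsExt (ψ ≫ φ) θ θ'' := fun m => by
  rw [Mod.mapTop_comp, h' _, h m, ← Mod.mapTop_comp]

theorem IsExt.id {x : 𝒳.obj} (θ : Sec E x →ₗ[Fn x] Sec M x) : IsExt (𝟙 x) θ θ := fun m => by
  rw [Mod.mapTop_id, Mod.mapTop_id]

theorem isExt_app (φ : E ⟶ M) {x' x : 𝒳.obj} (s : x' ⟶ x) (θ : Sec E x →ₗ[Fn x] Sec M x)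
    (θ' : Sec E x' →ₗ[Fn x'] Sec M x') (h : ∀ m, (φ.app x).app ⊤ m = θ m) (h' : ∀ m, (φ.app x').app ⊤ m = θ' m) :
    IsExt s θ θ' := fun m => by rw [← h, ← h', Mod.mapTop_app]

variable (hE : E.IsCartesian) (hEq : E.IsLocQCoh)

include hE hEq in
theorem isExt_unique {x' x : 𝒳.obj} (φ : x' ⟶ x) [IsAffine (sch 𝒳 x')] [IsAffine (sch 𝒳 x)]
    {θ : Sec E x →ₗ[Fn x] Sec M x} {θ₁ θ₂ : Sec E x' →ₗ[Fn x'] Sec M x'} (h₁ : IsExt φ θ θ₁) (h₂ : IsExt φ θ θ₂) :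
    θ₁ = θ₂ := by
  refine LinearMap.ext fun m => induction_topMap hE hEq φ m (p := fun m => θ₁ m = θ₂ m) ?_ ?_ ?_
  · rw [map_zero, map_zero]
  · intro r a; rw [map_smul, map_smul, h₁ a, h₂ a]
  · intro a b ha hb; rw [map_add, map_add, ha, hb]

include hE hEq in
theorem exists_isExt {x' x : 𝒳.obj} (φ : x' ⟶ x) [IsAffine (sch 𝒳 x')] [IsAffine (sch 𝒳 x)]
    (θ : Sec E x →ₗ[Fn x] Sec M x) : ∃ θ' : Sec E x' →ₗ[Fn x'] Sec M x', IsExt φ θ θ' := by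
  letI := (fnMap φ).toAlgebra
  letI := Module.compHom (Sec E x') (fnMap φ)
  haveI : IsScalarTower (Fn x) (Fn x') (Sec E x') := IsScalarTower.of_algebraMap_smul fun _ _ => rfl
  letI := Module.compHom (Sec M x') (fnMap φ)
  haveI : IsScalarTower (Fn x) (Fn x') (Sec M x') := IsScalarTower.of_algebraMap_smul fun _ _ => rfl
  have hb := isBaseChange_topMap hE hEq φ
  exact ⟨hb.lift ({ toFun := M.mapTop φ, map_add' := M.mapTop_add φ, map_smul' := M.mapTop_smul φ } ∘ₗ θ),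
    fun m => hb.lift_eq _ m⟩

/-- Pullback of a covering family. -/
theorem Cover.exists_pullback (h : FibCat.IsFibGrpd 𝒳.p) {z x : 𝒳.obj} [IsAffine (sch 𝒳 x)]
    [IsAffine (sch 𝒳 z)] (𝒰 : Cover x) (s : z ⟶ x) :
    ∃ 𝒱 : Cover z, (Finite 𝒰.ι → Finite 𝒱.ι) ∧ ∀ l, ∃ (k : 𝒰.ι) (t : 𝒱.obj l ⟶ 𝒰.obj k),
      t ≫ 𝒰.map k = 𝒱.map l ≫ s := by
  choose q p₁ p₂ hw H using fun l => exists_square h (𝒰.map l) s
  haveI := 𝒰.affine
  haveI hq : ∀ l, IsAffine (sch 𝒳 (q l)) := fun l => IsAffine.of_isIso (H l).isoPullback.hom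
  refine ⟨⟨𝒰.ι, q, p₂, hq, ⟨fun l => ?_, fun y => ?_⟩⟩, _root_.id, fun l => ⟨l, p₁ l, hw l⟩⟩
  · exact MorphismProperty.of_isPullback (H l) (𝒰.cov.flat l)
  · obtain ⟨l, w, hw'⟩ := 𝒰.cov.surj (bmap 𝒳 s y)
    obtain ⟨p, hp₁, hp₂⟩ := Scheme.Pullback.exists_preimage_pullback w y hw'
    refine ⟨l, (H l).isoPullback.inv p, ?_⟩
    rw [← Scheme.Hom.comp_apply, (H l).isoPullback_inv_snd]
    exact hp₂

/-- An affine atlas with finitely many affine charts of its self-product. -/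
structure Atlas (𝒳 : BasedCategory.{v, w} (Over S)) where
  /-- the chart -/
  x₀ : 𝒳.obj
  aff₀ : IsAffine (sch 𝒳 x₀)
  loc : ∀ (x : 𝒳.obj), IsAffine (sch 𝒳 x) → ∃ 𝒰 : Cover x, Finite 𝒰.ι ∧ ∀ l, Nonempty (𝒰.obj l ⟶ x₀)
  /-- the number of overlaps -/
  n : ℕ
  /-- the overlaps -/
  w : Fin n → 𝒳.obj
  affw : ∀ k, IsAffine (sch 𝒳 (w k))
  /-- first projection -/
  a : ∀ k, w k ⟶ x₀
  /-- second projection -/
  b : ∀ k, w k ⟶ x₀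
  pairs : ∀ (z : 𝒳.obj), IsAffine (sch 𝒳 z) → ∀ p q : z ⟶ x₀, ∃ 𝒰 : Cover z, ∀ l,
    ∃ (k : Fin n) (t : 𝒰.obj l ⟶ w k), t ≫ a k = 𝒰.map l ≫ p ∧ t ≫ b k = 𝒰.map l ≫ q

/-- A linear map on the chart agreeing on the overlaps. -/
def Atlas.Agree (A : Atlas 𝒳) (θ : Sec E A.x₀ →ₗ[Fn A.x₀] Sec M A.x₀) : Prop :=
  ∀ k (θa θb : Sec E (A.w k) →ₗ[Fn (A.w k)] Sec M (A.w k)), IsExt (A.a k) θ θa → IsExt (A.b k) θ θb → θa = θb

variable (hM : M.IsCartesian) (hMq : M.IsLocQCoh)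

include hE hEq hM hMq in
theorem Atlas.agree_pair (A : Atlas 𝒳) {θ : Sec E A.x₀ →ₗ[Fn A.x₀] Sec M A.x₀} (hθ : A.Agree θ)
    {z : 𝒳.obj} [IsAffine (sch 𝒳 z)] {p q : z ⟶ A.x₀} {θp θq : Sec E z →ₗ[Fn z] Sec M z}
    (hp : IsExt p θ θp) (hq : IsExt q θ θq) : θp = θq := by
  haveI := A.aff₀
  obtain ⟨𝒰, h𝒰⟩ := A.pairs z inferInstance p q
  refine LinearMap.ext fun m => 𝒰.ext hM hMq _ _ fun l => ?_
  haveI := 𝒰.affine l
  obtain ⟨k, t, ha, hb⟩ := h𝒰 l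
  haveI := A.affw k
  obtain ⟨θp', hp'⟩ := exists_isExt hE hEq (𝒰.map l) θp
  obtain ⟨θq', hq'⟩ := exists_isExt hE hEq (𝒰.map l) θq
  obtain ⟨θa, hθa⟩ := exists_isExt (E := E) (M := M) hE hEq (A.a k) θ
  obtain ⟨θb, hθb⟩ := exists_isExt (E := E) (M := M) hE hEq (A.b k) θ
  obtain ⟨θt, hθt⟩ := exists_isExt hE hEq t θa
  obtain ⟨θt', hθt'⟩ := exists_isExt hE hEq t θb
  have e₁ : θt = θp' := isExt_unique hE hEq (𝒰.map l ≫ p) (ha ▸ hθa.comp hθt) (hp.comp hp')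
  have e₂ : θt' = θq' := isExt_unique hE hEq (𝒰.map l ≫ q) (hb ▸ hθb.comp hθt') (hq.comp hq')
  have e₃ : θt = θt' := by
    obtain rfl := hθ k θa θb hθa hθb
    exact isExt_unique hE hEq t hθt hθt'
  rw [← hp' m, ← hq' m, ← e₁, ← e₂, e₃]

include hE hEq hM hMq in
/-- A linear map on the chart agreeing on the overlaps comes from a morphism. -/
theorem Atlas.exists_hom (h : FibCat.IsFibGrpd 𝒳.p) (A : Atlas 𝒳) {θ : Sec E A.x₀ →ₗ[Fn A.x₀] Sec M A.x₀}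
    (hθ : A.Agree θ) : ∃ φ : E ⟶ M, ∀ m, (φ.app A.x₀).app ⊤ m = θ m := by
  haveI := A.aff₀
  let Good (x : 𝒳.obj) (m : Sec E x) (m' : Sec M x) : Prop :=
    ∀ (z : 𝒳.obj) (_ : IsAffine (sch 𝒳 z)) (s : z ⟶ x) (a : z ⟶ A.x₀) (θa : Sec E z →ₗ[Fn z] Sec M z),
      IsExt a θ θa → θa (E.mapTop s m) = M.mapTop s m'
  have hex : ∀ (x : 𝒳.obj), IsAffine (sch 𝒳 x) → ∀ m, ∃ m', Good x m m' := by
    intro x hx m
    obtain ⟨𝒰, hfin, h₀⟩ := A.loc x hx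
    haveI := hfin
    haveI := 𝒰.affine
    choose a ha using fun l => (⟨(h₀ l).some, trivial⟩ : ∃ _ : 𝒰.obj l ⟶ A.x₀, True)
    choose θl hθl using fun l => exists_isExt (E := E) (M := M) hE hEq (a l) θ
    obtain ⟨m', hm'⟩ := 𝒰.exists_glue h hM hMq (fun l => θl l (E.mapTop (𝒰.map l) m))
      (fun z hz k l p q e => by
        obtain ⟨θ₁, h₁⟩ := exists_isExt hE hEq p (θl k)
        obtain ⟨θ₂, h₂⟩ := exists_isExt hE hEq q (θl l)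
        obtain rfl : θ₁ = θ₂ := A.agree_pair hE hEq hM hMq hθ ((hθl k).comp h₁) ((hθl l).comp h₂)
        rw [← h₁, ← h₂, ← Mod.mapTop_comp, ← Mod.mapTop_comp, e])
    refine ⟨m', fun z hz s b θb hb => ?_⟩
    obtain ⟨𝒱, -, h𝒱⟩ := 𝒰.exists_pullback h s
    refine 𝒱.ext hM hMq _ _ fun i => ?_
    haveI := 𝒱.affine i
    obtain ⟨k, t, e⟩ := h𝒱 i
    obtain ⟨θ₁, h₁⟩ := exists_isExt hE hEq (𝒱.map i) θb
    obtain ⟨θ₂, h₂⟩ := exists_isExt hE hEq t (θl k)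
    obtain rfl : θ₁ = θ₂ := A.agree_pair hE hEq hM hMq hθ (hb.comp h₁) ((hθl k).comp h₂)
    rw [← h₁, ← Mod.mapTop_comp, ← Mod.mapTop_comp, ← e, Mod.mapTop_comp, Mod.mapTop_comp, h₂, hm']
  have huniq : ∀ (x : 𝒳.obj), IsAffine (sch 𝒳 x) → ∀ m (m₁ m₂ : Sec M x), Good x m m₁ → Good x m m₂ → m₁ = m₂ := by
    intro x hx m m₁ m₂ h₁ h₂
    obtain ⟨𝒰, hfin, h₀⟩ := A.loc x hx
    refine 𝒰.ext hM hMq _ _ fun l => ?_
    haveI := 𝒰.affine l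
    obtain ⟨θa, hθa⟩ := exists_isExt (E := E) (M := M) hE hEq (h₀ l).some θ
    rw [← h₁ _ inferInstance _ _ θa hθa, ← h₂ _ inferInstance _ _ θa hθa]
  choose L hL using hex
  let Lx : ∀ x : 𝒳.obj, IsAffine (sch 𝒳 x) → (Sec E x →ₗ[Fn x] Sec M x) := fun x hx =>
    { toFun := L x hx
      map_add' := fun m₁ m₂ => huniq x hx _ _ _ (hL x hx (m₁ + m₂)) fun z hz s a θa hθa => by
        rw [Mod.mapTop_add, Mod.mapTop_add, map_add, hL x hx m₁ z hz s a θa hθa, hL x hx m₂ z hz s a θa hθa]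
      map_smul' := fun r m => huniq x hx _ _ _ (hL x hx (r • m)) fun z hz s a θa hθa => by
        rw [Mod.mapTop_smul, RingHom.id_apply, Mod.mapTop_smul, map_smul, hL x hx m z hz s a θa hθa] }
  obtain ⟨φ, hφ⟩ := exists_hom_of_affine h hM Lx (fun x' x t hx' hx m =>
    huniq x' hx' _ _ _ (hL x' hx' _) fun z hz s a θa hθa => by
      rw [← Mod.mapTop_comp, hL x hx m z hz (s ≫ t) a θa hθa, Mod.mapTop_comp]
      rfl)
  refine ⟨φ, fun m => ?_⟩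
  rw [hφ A.x₀ A.aff₀]
  refine huniq A.x₀ A.aff₀ m _ _ (hL A.x₀ A.aff₀ m) fun z hz s a θa hθa => ?_
  obtain ⟨θs, hθs⟩ := exists_isExt (E := E) (M := M) hE hEq s θ
  rw [A.agree_pair hE hEq hM hMq hθ hθa hθs, hθs]

include hE hEq hM hMq in
/-- A morphism vanishing on the chart vanishes. -/
theorem Atlas.hom_eq_zero (h : FibCat.IsFibGrpd 𝒳.p) (A : Atlas 𝒳) (φ : E ⟶ M)
    (h0 : ∀ m, (φ.app A.x₀).app ⊤ m = 0) : φ = 0 := by
  haveI := A.aff₀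
  refine eq_zero_of_affine h hM φ fun x hx m => ?_
  obtain ⟨𝒰, -, h₀⟩ := A.loc x hx
  refine 𝒰.eq_zero hM hMq _ fun l => ?_
  haveI := 𝒰.affine l
  rw [Mod.mapTop_app]
  refine induction_topMap hE hEq (h₀ l).some (E.mapTop (𝒰.map l) m)
    (p := fun e => (φ.app (𝒰.obj l)).app ⊤ e = 0) (map_zero _) (fun r a => ?_) fun a b ha hb => ?_
  · rw [Scheme.Modules.Hom.app_smul, ← Mod.mapTop_app, h0 a, Mod.mapTop_zero, smul_zero]
  · rw [map_add, ha, hb, add_zero]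

end Groth.L23.RelGen
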