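import Groth.Agent.L23.RelGen.Transfer

/-!
# Generating families over an object are flat local on the object
-/

universe t w' v' w v u

open CategoryTheory CategoryTheory.Limits AlgebraicGeometry Opposite TopologicalSpace

set_option backward.isDefEq.respectTransparency false
set_option backward.isDefEq.respectTransparency.types false
set_option linter.style.haveILetI false
set_option linter.unusedSectionVars false

noncomputable section

namespace Groth.L23.RelGen

open StMod

variable {S : Scheme.{u}} {𝒳 : BasedCategory.{v, w} (Over S)} {𝒴 : BasedCategory.{v', w'} (Over S)}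

/-- The family is generating over an object when it is so on a flat covering family of affine objects over it. -/
theorem isGenFam_of_flat_cover (h : FibCat.IsFibGrpd 𝒳.p) (h' : FibCat.IsFibGrpd 𝒴.p) {f : 𝒳 ⥤ᵇ 𝒴} {η : 𝒴.obj}
    [IsAffine (sch 𝒴 η)] (A : Atlas (fibCat f η)) {ι : Type t} (E : ι → QCoh 𝒳) (hfp : ∀ i, (E i).obj.IsFinPres)
    (𝒲 : Cover η) (hgen : ∀ l, IsGenFam (fun i => (comapQ (fibFst f (𝒲.obj l))).obj (E i))) :
    IsGenFam (fun i => (comapQ (fibFst f η)).obj (E i)) := by
  rw [isGenFam_iff]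
  intro M N u hu
  have hg := isFibGrpd_fibCat h f η
  have hkill : ∀ l, Mod.comapMap (fibComp f (𝒲.map l)) u.hom = 0 := by
    intro l
    haveI := 𝒲.affine l
    haveI : Flat (bmap 𝒴 (𝒲.map l)) := 𝒲.cov.flat l
    have := (isGenFam_iff _).1 (hgen l) ((comapQ (fibComp f (𝒲.map l))).map u) fun i φ =>
      kill_fibComp h h' (𝒲.map l) A (E i) (hfp i) u (hu i) φ
    have h₂ := congrArg InducedCategory.Hom.hom this
    exact h₂
  refine InducedCategory.hom_ext (eq_zero_of_affine hg N.property.1 u.hom fun x hx m => ?_)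
  choose x' q H _ using fun l => exists_bc h h' (f := f) (𝒲.map l) x
  haveI := 𝒲.affine
  haveI haff : ∀ l, IsAffine (sch (fibCat f η) ((fibComp f (𝒲.map l)).obj (x' l))) :=
    fun l => IsAffine.of_isIso (H l).isoPullback.hom
  let 𝒱 : Cover x := ⟨𝒲.ι, fun l => (fibComp f (𝒲.map l)).obj (x' l), q, haff,
    ⟨fun l => MorphismProperty.of_isPullback (H l).flip (𝒲.cov.flat l), fun y => by
      obtain ⟨l, w, hw⟩ := 𝒲.cov.surj (toBase x y)
      obtain ⟨p, hp₁, -⟩ := Scheme.Pullback.exists_preimage_pullback y w hw.symm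
      refine ⟨l, (H l).isoPullback.inv p, ?_⟩
      rw [← Scheme.Hom.comp_apply, (H l).isoPullback_inv_fst]
      exact hp₁⟩⟩
  refine 𝒱.eq_zero N.property.1 N.property.2 _ fun l => ?_
  show N.obj.mapTop (q l) _ = 0
  rw [Mod.mapTop_app]
  exact congrArg (fun k : Mod.comap (fibComp f (𝒲.map l)) M.obj ⟶ Mod.comap (fibComp f (𝒲.map l)) N.obj =>
    (k.app (x' l)).app ⊤ (M.obj.mapTop (q l) m)) (hkill l)

end Groth.L23.RelGen
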