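import Groth.Agent.L23.RelGen.Transfer
import Groth.Agent.L09.FibFp

/-!
# Generation over an object of a base change and over its image
-/

universe t w'' v'' w' v' w v u

open CategoryTheory CategoryTheory.Limits AlgebraicGeometry Opposite TopologicalSpace

set_option backward.isDefEq.respectTransparency false
set_option backward.isDefEq.respectTransparency.types false
set_option linter.style.haveILetI false
set_option linter.unusedSectionVars false

noncomputable section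

namespace Groth.L23.RelGen

open StMod

variable {S : Scheme.{u}} {𝒳 : BasedCategory.{v, w} (Over S)} {𝒴 : BasedCategory.{v', w'} (Over S)}
  {𝒴' : BasedCategory.{v'', w''} (Over S)}

/-- The category of a base change over an object, mapped to the category over the image of the object. -/
def fpComp (f : 𝒳 ⥤ᵇ 𝒴) (g : 𝒴' ⥤ᵇ 𝒴) (η' : 𝒴'.obj) :
    fibCat (FibCat.fpSnd f g) η' ⥤ᵇ fibCat f (g.obj η') where
  toFunctor :=
    { obj := fun z => CostructuredArrow.mk (z.left.obj.iso.hom ≫ g.map (show z.left.obj.snd ⟶ η' from z.hom))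
      map := fun {z z'} k => CostructuredArrow.homMk k.left.hom.fst (by
        show f.map k.left.hom.fst ≫ z'.left.obj.iso.hom ≫ g.map (show z'.left.obj.snd ⟶ η' from z'.hom) = _
        rw [← Category.assoc, k.left.hom.w, Category.assoc, ← g.toFunctor.map_comp]
        exact congrArg (fun a => z.left.obj.iso.hom ≫ g.map a) (CostructuredArrow.w k))
      map_id := fun z => CostructuredArrow.hom_ext _ _ rfl
      map_comp := fun k k' => CostructuredArrow.hom_ext _ _ rfl }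
  w := rfl

theorem mapTop_fpComp (f : 𝒳 ⥤ᵇ 𝒴) (g : 𝒴' ⥤ᵇ 𝒴) (η' : 𝒴'.obj) (F : Mod (fibCat f (g.obj η')))
    {z' z : (fibCat (FibCat.fpSnd f g) η').obj} (φ : z' ⟶ z) (m : Sec (Mod.comap (fpComp f g η') F) z) :
    (Mod.comap (fpComp f g η') F).mapTop φ m = F.mapTop ((fpComp f g η').map φ) m := by
  refine congrArg (fun k => Scheme.Modules.Hom.app k ⊤ m) ?_
  rw [Mod.comap_map]
  exact castMap_rfl_self _ _

theorem mapTop_fibFst_fpFst (f : 𝒳 ⥤ᵇ 𝒴) (g : 𝒴' ⥤ᵇ 𝒴) (η' : 𝒴'.obj) (F : Mod 𝒳)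
    {z' z : (fibCat (FibCat.fpSnd f g) η').obj} (φ : z' ⟶ z)
    (m : Sec (Mod.comap (fibFst (FibCat.fpSnd f g) η') (Mod.comap (FibCat.fpFst f g) F)) z) :
    (Mod.comap (fibFst (FibCat.fpSnd f g) η') (Mod.comap (FibCat.fpFst f g) F)).mapTop φ m =
      (Mod.comap (fibFst f (g.obj η')) F).mapTop ((fpComp f g η').map φ) m := by
  have e₁ := mapTop_fibFst (FibCat.fpSnd f g) η' (Mod.comap (FibCat.fpFst f g) F) φ m
  have e₂ := mapTop_fibFst f (g.obj η') F ((fpComp f g η').map φ) m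
  refine e₁.trans (Eq.trans ?_ e₂.symm)
  refine congrArg (fun k => Scheme.Modules.Hom.app k ⊤ m) ?_
  rw [Mod.comap_map]
  exact castMap_rfl_self _ _

/-- Every object over the image comes from the base change. -/
theorem exists_fpComp_iso (h : FibCat.IsFibGrpd 𝒴.p) (h' : FibCat.IsFibGrpd 𝒴'.p) (f : 𝒳 ⥤ᵇ 𝒴) (g : 𝒴' ⥤ᵇ 𝒴)
    (η' : 𝒴'.obj) (x : (fibCat f (g.obj η')).obj) :
    ∃ z : (fibCat (FibCat.fpSnd f g) η').obj, Nonempty ((fpComp f g η').obj z ≅ x) := by
  obtain ⟨y, γ, e, hγ⟩ := exists_lift h' (baseOver f x.left x.hom ≫ eqToHom (g.w_obj η'))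
  have hmap : 𝒴.p.map (g.map γ) = eqToHom (g.w_obj y) ≫ 𝒴'.p.map γ ≫ eqToHom (g.w_obj η').symm :=
    IsHomLift.fac' 𝒴.p (𝒴'.p.map γ) (g.map γ)
  have e' : 𝒴.p.obj (f.obj x.left) = 𝒴.p.obj (g.obj y) := (f.w_obj x.left).trans (e.symm.trans (g.w_obj y).symm)
  have hfac : eqToHom e' ≫ 𝒴.p.map (g.map γ) = 𝒴.p.map x.hom := by
    rw [hmap, hγ, baseOver]
    simp
  obtain ⟨k, ⟨hk, hk'⟩, -⟩ := existsUnique_factor h x.hom (g.map γ) (eqToHom e') hfac
  haveI : IsIso (𝒴.p.map k) := by rw [hk]; infer_instance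
  haveI := h.isStronglyCartesian k
  haveI : IsIso k := Functor.IsStronglyCartesian.isIso_of_base_isIso 𝒴.p (𝒴.p.map k) k
  have hprop : 𝒴.p.IsHomLift (𝟙 (𝒳.p.obj x.left)) k := by
    refine IsHomLift.of_fac _ _ _ (f.w_obj x.left) ((g.w_obj y).trans e) ?_
    rw [hk]
    simp
  let p : (FibCat.fp f g).obj := ⟨{ fst := x.left, snd := y, iso := asIso k }, hprop⟩
  refine ⟨CostructuredArrow.mk (show (FibCat.fpSnd f g).obj p ⟶ η' from γ), ⟨CostructuredArrow.isoMk (Iso.refl _) ?_⟩⟩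
  show f.map (𝟙 _) ≫ x.hom = k ≫ g.map γ
  rw [f.toFunctor.map_id, Category.id_comp, hk']

/-- Morphisms over the image come from the base change. -/
theorem exists_fpComp_map (h : FibCat.IsFibGrpd 𝒴.p) (h' : FibCat.IsFibGrpd 𝒴'.p) (f : 𝒳 ⥤ᵇ 𝒴) (g : 𝒴' ⥤ᵇ 𝒴)
    (η' : 𝒴'.obj) {z z' : (fibCat (FibCat.fpSnd f g) η').obj}
    (s : (fpComp f g η').obj z ⟶ (fpComp f g η').obj z') : ∃ k : z ⟶ z', (fpComp f g η').map k = s := by
  let γ : z.left.obj.snd ⟶ η' := z.hom
  let γ' : z'.left.obj.snd ⟶ η' := z'.hom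
  let m : g.obj z.left.obj.snd ⟶ g.obj z'.left.obj.snd :=
    z.left.obj.iso.inv ≫ f.map s.left ≫ z'.left.obj.iso.hom
  have hm : m ≫ g.map γ' = g.map γ := by
    have := CostructuredArrow.w s
    show (z.left.obj.iso.inv ≫ f.map s.left ≫ z'.left.obj.iso.hom) ≫ g.map γ' = _
    rw [Category.assoc, Category.assoc, show f.map s.left ≫ z'.left.obj.iso.hom ≫ g.map γ' =
      z.left.obj.iso.hom ≫ g.map γ from this, Iso.inv_hom_id_assoc]
  have hmap : ∀ {a b : 𝒴'.obj} (c : a ⟶ b), 𝒴.p.map (g.map c) =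
      eqToHom (g.w_obj a) ≫ 𝒴'.p.map c ≫ eqToHom (g.w_obj b).symm := fun c =>
    IsHomLift.fac' 𝒴.p (𝒴'.p.map c) (g.map c)
  let q := eqToHom (g.w_obj z.left.obj.snd).symm ≫ 𝒴.p.map m ≫ eqToHom (g.w_obj z'.left.obj.snd)
  have hq : q ≫ 𝒴'.p.map γ' = 𝒴'.p.map γ := by
    have h₂ := congrArg 𝒴.p.map hm
    rw [Functor.map_comp, hmap, hmap, ← Category.assoc, ← Category.assoc, ← Category.assoc (eqToHom _),
      cancel_mono] at h₂
    rw [← cancel_epi (eqToHom (g.w_obj z.left.obj.snd))]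
    simpa [q, Category.assoc] using h₂
  obtain ⟨t, ⟨ht, ht'⟩, -⟩ := existsUnique_factor h' γ γ' q hq
  have hgt : g.map t = m := by
    refine (existsUnique_factor h (g.map γ) (g.map γ') (𝒴.p.map m) ?_).unique ⟨?_, ?_⟩ ⟨rfl, hm⟩
    · rw [← Functor.map_comp, hm]
    · rw [hmap, ht]; simp [q]
    · rw [← g.toFunctor.map_comp, ht']
  refine ⟨CostructuredArrow.homMk (ObjectProperty.homMk
    { fst := s.left, snd := t, w := ?_ }) ht', CostructuredArrow.hom_ext _ _ rfl⟩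
  show f.map s.left ≫ z'.left.obj.iso.hom = z.left.obj.iso.hom ≫ g.map t
  rw [hgt, Iso.hom_inv_id_assoc]

/-- A morphism on the base change of an inverse image comes from the category over the image. -/
theorem exists_fpComp_descend (hX : FibCat.IsFibGrpd 𝒳.p) (h : FibCat.IsFibGrpd 𝒴.p) (h' : FibCat.IsFibGrpd 𝒴'.p)
    (f : 𝒳 ⥤ᵇ 𝒴) (g : 𝒴' ⥤ᵇ 𝒴) (η' : 𝒴'.obj) (E : Mod 𝒳) (M : Mod (fibCat f (g.obj η'))) (hM : M.IsCartesian)
    (φ' : Mod.comap (fibFst (FibCat.fpSnd f g) η') (Mod.comap (FibCat.fpFst f g) E) ⟶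
      Mod.comap (fpComp f g η') M) :
    ∃ φ : Mod.comap (fibFst f (g.obj η')) E ⟶ M, ∀ (z : (fibCat (FibCat.fpSnd f g) η').obj)
      (_ : IsAffine (sch (fibCat f (g.obj η')) ((fpComp f g η').obj z)))
      (m : Sec (Mod.comap (fibFst f (g.obj η')) E) ((fpComp f g η').obj z)),
        (φ.app ((fpComp f g η').obj z)).app ⊤ m = (φ'.app z).app ⊤ m := by
  set Eη := Mod.comap (fibFst f (g.obj η')) E
  choose zf jf using exists_fpComp_iso h h' f g η'
  let j := fun x => (jf x).some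
  let L : ∀ z, Sec Eη ((fpComp f g η').obj z) →ₗ[Fn ((fpComp f g η').obj z)] Sec M ((fpComp f g η').obj z) :=
    fun z =>
      { toFun := fun m => (φ'.app z).app ⊤ m
        map_add' := fun a b => map_add _ a b
        map_smul' := fun r a => (φ'.app z).app_smul r a }
  have hL : ∀ {z' z} (k : z' ⟶ z), IsExt ((fpComp f g η').map k) (L z) (L z') := by
    intro z' z k m
    have h₁ := Mod.mapTop_app φ' k m
    have h₂ := mapTop_fpComp f g η' M k ((φ'.app z).app ⊤ m)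
    have h₃ := mapTop_fibFst_fpFst f g η' E k m
    exact ((congrArg (fun a => (φ'.app z').app ⊤ a) h₃).symm.trans h₁.symm).trans h₂
  have hinv : ∀ x r, fnMap (j x).inv (fnMap (j x).hom r) = r := fun x r => by
    have := congrArg (fun t => fnMap t r) (j x).inv_hom_id
    rw [fnMap_comp] at this
    refine this.trans ?_
    show (bmap _ (𝟙 x)).appTop.hom r = r
    rw [bmap_id, Scheme.Hom.id_appTop]; rfl
  let θ : ∀ x, IsAffine (sch (fibCat f (g.obj η')) x) → (Sec Eη x →ₗ[Fn x] Sec M x) := fun x _ =>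
    { toFun := fun m => M.mapTop (j x).inv (L (zf x) (Eη.mapTop (j x).hom m))
      map_add' := fun a b => by rw [Mod.mapTop_add, map_add, Mod.mapTop_add]
      map_smul' := fun r a => by
        rw [Mod.mapTop_smul, map_smul, Mod.mapTop_smul]
        exact congrArg (· • _) (hinv x r) }
  obtain ⟨φ, hφ⟩ := exists_hom_of_affine (isFibGrpd_fibCat hX f (g.obj η')) hM θ fun x' x s _ _ m => by
    obtain ⟨k, hk⟩ := exists_fpComp_map h h' f g η' ((j x').hom ≫ s ≫ (j x).inv)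
    have hLk := hL k (Eη.mapTop (j x).hom m)
    rw [hk, ← Mod.mapTop_comp] at hLk
    show M.mapTop (j x').inv (L (zf x') (Eη.mapTop (j x').hom (Eη.mapTop s m))) =
      M.mapTop s (M.mapTop (j x).inv (L (zf x) (Eη.mapTop (j x).hom m)))
    rw [← Mod.mapTop_comp Eη, show (j x').hom ≫ s = ((j x').hom ≫ s ≫ (j x).inv) ≫ (j x).hom by simp, hLk,
      ← Mod.mapTop_comp, ← Mod.mapTop_comp, Iso.inv_hom_id_assoc]
  refine ⟨φ, fun z hz m => ?_⟩
  rw [hφ _ hz]
  obtain ⟨k, hk⟩ := exists_fpComp_map h h' f g η' (j ((fpComp f g η').obj z)).hom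
  have h₀ := hL k m
  rw [hk] at h₀
  show M.mapTop _ (L _ (Eη.mapTop _ m)) = L z m
  rw [h₀, ← Mod.mapTop_comp, Iso.inv_hom_id, Mod.mapTop_id]

/-- Generation relative to a projection gives generation over the image of an object. -/
theorem isGenFam_of_fpSnd (hX : FibCat.IsFibGrpd 𝒳.p) (h : FibCat.IsFibGrpd 𝒴.p) (h' : FibCat.IsFibGrpd 𝒴'.p)
    (f : 𝒳 ⥤ᵇ 𝒴) (g : 𝒴' ⥤ᵇ 𝒴) (η' : 𝒴'.obj) {ι : Type t} (E : ι → QCoh 𝒳)
    (hgen : IsGenFam (fun i => (comapQ (fibFst (FibCat.fpSnd f g) η')).obj ((comapQ (FibCat.fpFst f g)).obj (E i)))) :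
    IsGenFam (fun i => (comapQ (fibFst f (g.obj η'))).obj (E i)) := by
  rw [isGenFam_iff] at hgen ⊢
  intro M N u hu
  have hz0 : ∀ (i : ι) (φ' : Mod.comap (fibFst (FibCat.fpSnd f g) η') (Mod.comap (FibCat.fpFst f g) (E i).obj) ⟶
      Mod.comap (fpComp f g η') M.obj), φ' ≫ Mod.comapMap (fpComp f g η') u.hom = 0 := by
    intro i φ'
    obtain ⟨φ, hφ⟩ := exists_fpComp_descend hX h h' f g η' (E i).obj M.obj M.property.1 φ'
    refine eq_zero_of_affine (isFibGrpd_fibCat (Groth.L09.Fib.fp_isFibGrpd hX h' h) _ η')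
      (isCartesian_comap N.property.1) _ fun z hz m => ?_
    show (u.hom.app ((fpComp f g η').obj z)).app ⊤ ((φ'.app z).app ⊤ m) = 0
    rw [← hφ z hz m]
    exact congrArg (fun k : Mod.comap (fibFst f (g.obj η')) (E i).obj ⟶ N.obj =>
      (k.app ((fpComp f g η').obj z)).app ⊤ m) (hu i φ)
  have hkill : Mod.comapMap (fpComp f g η') u.hom = 0 := by
    have h₁ := hgen ((comapQ (fpComp f g η')).map u) hz0
    have h₂ := congrArg InducedCategory.Hom.hom h₁
    exact h₂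
  choose zf jf using exists_fpComp_iso h h' f g η'
  refine InducedCategory.hom_ext (eq_zero_of_affine (isFibGrpd_fibCat hX f (g.obj η')) N.property.1 u.hom fun x hx m => ?_)
  let j := (jf x).some
  have h₀ : N.obj.mapTop j.hom ((u.hom.app x).app ⊤ m) = 0 := by
    rw [Mod.mapTop_app]
    exact congrArg (fun k : Mod.comap (fpComp f g η') M.obj ⟶ Mod.comap (fpComp f g η') N.obj =>
      (k.app (zf x)).app ⊤ (M.obj.mapTop j.hom m)) hkill
  rw [← Mod.mapTop_id N.obj x ((u.hom.app x).app ⊤ m), ← j.inv_hom_id, Mod.mapTop_comp, h₀, Mod.mapTop_zero]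

end Groth.L23.RelGen
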