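import Groth.Agent.L23.RelGen.FlatCover
import Groth.Agent.L23.RelGen.FlatLocal
import Groth.Agent.L23.RelGen.FpTransfer

/-!
# Relative generation is flat local on the target
-/

universe u

open CategoryTheory CategoryTheory.Limits AlgebraicGeometry Opposite TopologicalSpace

set_option backward.isDefEq.respectTransparency false
set_option backward.isDefEq.respectTransparency.types false
set_option linter.style.haveILetI false
set_option linter.unusedSectionVars false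

noncomputable section

namespace Groth.L23.RelGen

open StMod Groth.L24.St

variable {S : Scheme.{u}} {𝒳 𝒴 : AlgSt.Cat S}

/-- Generation relative to the base changes along a jointly surjective flat family gives relative generation. -/
theorem isRelGenFam_of_family (h𝒳 : AlgSt.IsAlgStack Scheme.fppfPrecoverage 𝒳)
    (h𝒴 : AlgSt.IsAlgStack Scheme.fppfPrecoverage 𝒴) (f : 𝒳 ⥤ᵇ 𝒴)
    (hfqc : AlgSt.IsQuasiCompactMor Scheme.fppfPrecoverage f) (hfqs : AlgSt.IsQuasiSeparatedMor f)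
    {ι : Type u} (E : ι → QCoh 𝒳) (hE : ∀ i, (E i).obj.IsFinPres)
    {A : Type u} (𝒴' : A → AlgSt.Cat S) (h𝒴' : ∀ a, AlgSt.IsAlgStack Scheme.fppfPrecoverage (𝒴' a))
    (u : ∀ a, 𝒴' a ⥤ᵇ 𝒴) (hfl : ∀ a, AlgSt.LocQ (AlgSp.LocP @Flat) (u a))
    (hsurj : ∀ p : AlgSt.Points 𝒴, ∃ (a : A) (q : AlgSt.Points (𝒴' a)), AlgSt.Points.map (u a) q = p)
    (hgen : ∀ a, IsRelGenFam (FibCat.fpSnd f (u a)) (fun i => (comapQ (FibCat.fpFst f (u a))).obj (E i))) :
    IsRelGenFam f E := by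
  intro η hη
  choose U x hx hxs using fun a => exists_flat_chart (u a) (h𝒴' a).isStack.1 (hfl a)
  obtain ⟨𝒲, h𝒲⟩ := exists_flat_cover h𝒴.isStack.1 (fun a => BasedFunctor.comp (x a) (u a)) hx (fun p => by
    obtain ⟨a, q, rfl⟩ := hsurj p
    obtain ⟨v, rfl⟩ := hxs a q
    exact ⟨a, v, congrFun (map_comp_ofChart (x a) (u a)) v⟩) η
  obtain ⟨At⟩ := exists_atlas h𝒳 h𝒴 f hfqc hfqs η
  refine isGenFam_of_flat_cover h𝒳.isStack.1 h𝒴.isStack.1 At E hE 𝒲 fun l => ?_
  haveI := 𝒲.affine l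
  obtain ⟨a, t, e⟩ := h𝒲 l
  rw [e]
  refine isGenFam_of_fpSnd h𝒳.isStack.1 h𝒴.isStack.1 (h𝒴' a).isStack.1 f (u a) ((x a).obj t) E
    (hgen a ((x a).obj t) ?_)
  haveI : IsAffine (sch 𝒴 ((u a).obj ((x a).obj t))) := e ▸ 𝒲.affine l
  exact IsAffine.of_isIso (eqToHom (sch_obj_eq (u a) ((x a).obj t)).symm)

end Groth.L23.RelGen
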