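import Groth.Agent.L23.RelGen.LocFreeBridge
import Groth.Agent.L23.RelGen.Family
import Groth.Agent.L19.LocProjective
import Groth.Agent.L06.RelFPModules
import Groth.Agent.L05.Prufer.Sheaf

/-!
# Descent of finite local freeness along jointly surjective fppf families
-/

universe u

open CategoryTheory CategoryTheory.Limits AlgebraicGeometry Opposite TopologicalSpace
open scoped TensorProduct

set_option backward.isDefEq.respectTransparency false
set_option backward.isDefEq.respectTransparency.types false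
set_option linter.style.haveILetI false
set_option linter.unusedSectionVars false

noncomputable section

namespace Groth.L23.RelGen

open StMod Groth.L24.St

/-- Sections of a finite locally free module over an affine open are finitely presented and projective. -/
theorem sections_of_isFinLocFree {X : Scheme.{u}} {M : X.Modules} (h : FlatMod.IsFinLocFree M) {U : X.Opens}
    (hU : IsAffineOpen U) :
    Module.FinitePresentation Γ(X, U) Γ(M, U) ∧ Module.Projective Γ(X, U) Γ(M, U) := by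
  have hfp := Groth.L18.LFP.isFP_of_isFinLocFree M h
  haveI : Coh.IsQCoh M := Groth.L05.Prufer.isQCoh_of_isFP hfp
  refine ⟨Groth.L20.ModStalk.finitePresentation_sections M hfp hU,
    Groth.L19.LocProj.projective_of_local M hU fun x hx => ?_⟩
  obtain ⟨U', n, hx', ⟨i⟩⟩ := h x
  obtain ⟨_, ⟨V, hV, rfl⟩, hxV, hVU⟩ :=
    X.isBasis_affineOpens.exists_subset_of_mem_open (show x ∈ (U' : Set X) from hx') U'.2
  replace hV : IsAffineOpen V := hV
  obtain ⟨N, ⟨e⟩, ⟨σ⟩⟩ := Groth.L06.RelFPModules.exists_tilde_equiv M hV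
  obtain ⟨hfree, -⟩ := Groth.L19.PullChart.free_of_restrict M i hV.fromSpec
    (by rw [hV.opensRange_fromSpec]; exact hVU) N e
  haveI := hfree
  exact ⟨V, hV, hxV, Module.Projective.of_equiv σ⟩

/-- A module on an affine scheme with finitely presented projective sections is finite locally free. -/
theorem isFinLocFree_of_sections {X : Scheme.{u}} [IsAffine X] {M : X.Modules} [Coh.IsQCoh M]
    (hfp : Module.FinitePresentation Γ(X, ⊤) Γ(M, ⊤)) (hpr : Module.Projective Γ(X, ⊤) Γ(M, ⊤)) :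
    FlatMod.IsFinLocFree M := by
  obtain ⟨N, ⟨e⟩, ⟨σ⟩⟩ := Groth.L06.RelFPModules.exists_tilde_equiv M (isAffineOpen_top X)
  refine Groth.L19.PullChart.isFinLocFree_of_projective_charts M fun x =>
    ⟨_, (isAffineOpen_top X).fromSpec, inferInstance, N, ?_, Module.FinitePresentation.of_equiv σ.symm,
      Module.Projective.of_equiv σ.symm, ⟨e⟩⟩
  rw [(isAffineOpen_top X).opensRange_fromSpec]
  trivial

variable {S : Scheme.{u}} {𝒳 : AlgSt.Cat S}

/-- Finite projectivity of sections descends along finite covering families. -/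
theorem Cover.projective {F : Mod 𝒳} (hF : F.IsCartesian) (hq : F.IsLocQCoh) {x : 𝒳.obj} [IsAffine (sch 𝒳 x)]
    (𝒰 : Cover x) [Finite 𝒰.ι] (h : ∀ l, Module.FinitePresentation (Fn (𝒰.obj l)) (Sec F (𝒰.obj l)) ∧
      Module.Projective (Fn (𝒰.obj l)) (Sec F (𝒰.obj l))) :
    Module.FinitePresentation (Fn x) (Sec F x) ∧ Module.Projective (Fn x) (Sec F x) := by
  letI := fun l => (fnMap (𝒰.map l)).toAlgebra
  haveI := 𝒰.affine
  haveI := fun l => Groth.L19.QCohFpqc.IsCov.flat_appTop (fun l => bmap 𝒳 (𝒰.map l)) 𝒰.cov l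
  have e : ∀ l, Nonempty (Fn (𝒰.obj l) ⊗[Fn x] Sec F x ≃ₗ[Fn (𝒰.obj l)] Sec F (𝒰.obj l)) := fun l => by
    letI := Module.compHom (Sec F (𝒰.obj l)) (fnMap (𝒰.map l))
    haveI : IsScalarTower (Fn x) (Fn (𝒰.obj l)) (Sec F (𝒰.obj l)) :=
      IsScalarTower.of_algebraMap_smul fun _ _ => rfl
    exact ⟨(isBaseChange_topMap hF hq (𝒰.map l)).equiv⟩
  haveI : ∀ l, Module.Finite (Fn (𝒰.obj l)) (Fn (𝒰.obj l) ⊗[Fn x] Sec F x) := fun l => by
    haveI := (h l).1
    exact Module.Finite.equiv (e l).some.symm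
  haveI : ∀ l, Module.Projective (Fn (𝒰.obj l)) (Fn (𝒰.obj l) ⊗[Fn x] Sec F x) := fun l => by
    haveI := (h l).2
    exact Module.Projective.of_equiv (e l).some.symm
  exact Groth.L19.PullChart.projective_of_jointlySurjective (fun l => Fn (𝒰.obj l))
    (fun p => Groth.L19.QCohFpqc.IsCov.prime_lift (fun l => bmap 𝒳 (𝒰.map l)) 𝒰.cov p) (Sec F x)

/-- Finite local freeness is checked on affine objects. -/
theorem isFinLocFree_of_affine {F : Mod 𝒳} (h : FibCat.IsFibGrpd 𝒳.p) (hF : F.IsCartesian) (hq : F.IsLocQCoh)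
    (haff : ∀ x : 𝒳.obj, IsAffine (sch 𝒳 x) → FlatMod.IsFinLocFree (F.obj x)) (x : 𝒳.obj) :
    FlatMod.IsFinLocFree (F.obj x) := by
  haveI : Coh.IsQCoh (F.obj x) := hq x
  refine Groth.L19.PullChart.isFinLocFree_of_projective_charts (F.obj x) fun p => ?_
  obtain ⟨_, ⟨U, hU, rfl⟩, hpU, -⟩ :=
    (sch 𝒳 x).isBasis_affineOpens.exists_subset_of_mem_open (Set.mem_univ p) isOpen_univ
  replace hU : IsAffineOpen U := hU
  obtain ⟨y, r, hi, hr, ha⟩ := exists_restrict h x U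
  haveI := hi
  haveI := ha hU
  obtain ⟨e, b⟩ := resTo_bijective hF r hr
  obtain ⟨hfp, hpr⟩ := sections_of_isFinLocFree (haff y (ha hU)) (isAffineOpen_top _)
  obtain ⟨N, ⟨i⟩, ⟨σ⟩⟩ := Groth.L06.RelFPModules.exists_tilde_equiv (F.obj x) hU
  have hrange : (bmap 𝒳 r).opensRange = U := Opens.ext hr
  let ρ := (bmap 𝒳 r).appLE U ⊤ e
  have hρ : IsIso ρ := by
    show IsIso ((bmap 𝒳 r).app U ≫ _)
    haveI : IsIso ((bmap 𝒳 r).app U) := by
      refine Scheme.Hom.isIso_app _ _ ?_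
      rw [hrange]
    have htop : (⊤ : (sch 𝒳 y).Opens) = bmap 𝒳 r ⁻¹ᵁ U := (top_le_iff.1 e).symm
    haveI : IsIso (homOfLE e) := by
      rw [Subsingleton.elim (homOfLE e) (eqToHom htop)]
      infer_instance
    infer_instance
  let ρ' : Γ(sch 𝒳 x, U) ≃+* Γ(sch 𝒳 y, ⊤) := (asIso ρ).commRingCatIsoToRingEquiv
  let s : Γ(F.obj x, U) ≃+ Sec F y := AddEquiv.ofBijective (resTo F r e) b
  refine ⟨_, hU.fromSpec, inferInstance, N, by rw [hU.opensRange_fromSpec]; exact hpU, ?_, ?_, ⟨i⟩⟩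
  · letI := ρ'.toRingHom.toAlgebra
    letI := Module.compHom (Sec F y) ρ'.toRingHom
    haveI : IsScalarTower Γ(sch 𝒳 x, U) Γ(sch 𝒳 y, ⊤) (Sec F y) := IsScalarTower.of_algebraMap_smul fun _ _ => rfl
    let l : Γ(F.obj x, U) ≃ₗ[Γ(sch 𝒳 x, U)] Sec F y :=
      { s with map_smul' := fun a m => resTo_smul r e a m }
    haveI := hfp
    haveI : Module.FinitePresentation Γ(sch 𝒳 x, U) Γ(sch 𝒳 y, ⊤) :=
      Module.FinitePresentation.of_equiv
        ({ ρ'.toAddEquiv with map_smul' := fun a b => map_mul ρ' a b } : Γ(sch 𝒳 x, U) ≃ₗ[Γ(sch 𝒳 x, U)] Γ(sch 𝒳 y, ⊤))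
    haveI : Module.FinitePresentation Γ(sch 𝒳 x, U) (Sec F y) := Module.FinitePresentation.trans _ _ Γ(sch 𝒳 y, ⊤)
    exact Module.FinitePresentation.of_equiv (σ.trans l).symm
  · haveI := hpr
    haveI : RingHomInvPair (ρ'.symm : Γ(sch 𝒳 y, ⊤) →+* Γ(sch 𝒳 x, U))
        (ρ' : Γ(sch 𝒳 x, U) →+* Γ(sch 𝒳 y, ⊤)) :=
      ⟨RingHom.ext ρ'.apply_symm_apply, RingHom.ext ρ'.symm_apply_apply⟩
    haveI : RingHomInvPair (ρ' : Γ(sch 𝒳 x, U) →+* Γ(sch 𝒳 y, ⊤))
        (ρ'.symm : Γ(sch 𝒳 y, ⊤) →+* Γ(sch 𝒳 x, U)) :=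
      ⟨RingHom.ext ρ'.symm_apply_apply, RingHom.ext ρ'.apply_symm_apply⟩
    let l : Sec F y ≃ₛₗ[(ρ'.symm : Γ(sch 𝒳 y, ⊤) →+* Γ(sch 𝒳 x, U))] Γ(F.obj x, U) :=
      { s.symm with
        map_smul' := fun a m => s.injective (by
          show s (s.symm (a • m)) = s (ρ'.symm a • s.symm m)
          rw [AddEquiv.apply_symm_apply]
          refine Eq.trans ?_ (resTo_smul r e (ρ'.symm a) (s.symm m)).symm
          exact congrArg₂ (fun c d => c • d) (ρ'.apply_symm_apply a).symm (s.apply_symm_apply m).symm) }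
    haveI : Module.Projective Γ(sch 𝒳 x, U) Γ(F.obj x, U) := Module.Projective.of_equiv l
    exact Module.Projective.of_equiv σ.symm

/-- A chart of the source of a functor with a property. -/
theorem exists_prop_chart {Q : MorphismProperty Scheme.{u}} (hQ : Groth.L23.EtLocal Q)
    (hsm : ∀ {A B : Scheme.{u}} (φ : A ⟶ B), Smooth φ → Q φ) {𝒴 𝒴' : AlgSt.Cat S}
    (u : 𝒴' ⥤ᵇ 𝒴) (h𝒴' : FibCat.IsFibGrpd 𝒴'.p)
    (hfl : AlgSt.LocQ (AlgSp.LocP Q) u) :
    ∃ (U : Over S) (x : FibCat.overCat U ⥤ᵇ 𝒴'),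
      AlgSt.RepByAlgSpWith (AlgSp.LocP Q) (BasedFunctor.comp x u) ∧
        Function.Surjective (AlgSt.Points.ofChart x) := by
  obtain ⟨U, V, x, y, h, α, hx, hxs, hy, hh⟩ := hfl
  have hhQ : Q h.left := hh (𝟙 _) (𝟙 _) h (Groth.L23.repWith_of_isIso _) (Groth.L23.repWith_of_isIso _)
    (by rw [Category.id_comp, Category.comp_id])
  haveI := hQ.stable
  refine ⟨U, x, (repWith_congr α).2 ?_, surjective_ofChart_of_repWith h𝒴' hxs⟩
  exact repWith_comp_locP hQ (overCat_isFibGrpd U) (overCat_isFibGrpd V)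
    (Groth.L24.St.repWith_mono (fun _ _ _ _ h => Groth.L23.locP_of_repWith hQ h) (repWith_overMap hhQ))
    (Groth.L24.St.repWith_mono (fun _ _ _ _ h => Groth.L23.locP_mono (fun φ hφ => hsm φ hφ) h) hy)

set_option maxHeartbeats 800000 in
/-- Finite local freeness descends along jointly surjective fppf families of stacks. -/
theorem isFinLocFree_of_family {𝒴 : AlgSt.Cat S} (h𝒳 : AlgSt.IsAlgStack Scheme.fppfPrecoverage 𝒳)
    (h𝒴 : AlgSt.IsAlgStack Scheme.fppfPrecoverage 𝒴) (f : 𝒳 ⥤ᵇ 𝒴) (E : QCoh 𝒳)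
    {A : Type u} (𝒴' : A → AlgSt.Cat S) (h𝒴' : ∀ a, AlgSt.IsAlgStack Scheme.fppfPrecoverage (𝒴' a))
    (u : ∀ a, 𝒴' a ⥤ᵇ 𝒴)
    (hfl : ∀ a, AlgSt.LocQ (AlgSp.LocP (@Flat ⊓ @LocallyOfFinitePresentation)) (u a))
    (hsurj : ∀ p : AlgSt.Points 𝒴, ∃ (a : A) (q : AlgSt.Points (𝒴' a)), AlgSt.Points.map (u a) q = p)
    (hlf : ∀ a (z : (FibCat.fp f (u a)).obj), FlatMod.IsFinLocFree (E.obj.obj z.obj.fst)) (ξ : 𝒳.obj) :
    FlatMod.IsFinLocFree (E.obj.obj ξ) := by
  have h := h𝒳.isStack.1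
  have h' := h𝒴.isStack.1
  refine isFinLocFree_of_affine h E.property.1 E.property.2 (fun x hx => ?_) ξ
  haveI : Coh.IsQCoh (E.obj.obj x) := E.property.2 x
  have hQ := Groth.L23.etLocal_flat.inf Groth.L23.etLocal_lfp
  haveI : MorphismProperty.RespectsIso (@Flat ⊓ @LocallyOfFinitePresentation : MorphismProperty Scheme.{u}) :=
    haveI := hQ.stable; inferInstance
  choose U c hc hcs using fun a => exists_prop_chart (Q := @Flat ⊓ @LocallyOfFinitePresentation) hQ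
    (fun φ hφ => ⟨by haveI := hφ; infer_instance, by haveI := hφ; infer_instance⟩) (u a) (h𝒴' a).isStack.1 (hfl a)
  choose a t m haff hm y hy using exists_chart_point h' (fun a => BasedFunctor.comp (c a) (u a)) hc (fun p => by
    obtain ⟨a, q, rfl⟩ := hsurj p
    obtain ⟨v, rfl⟩ := hcs a q
    exact ⟨a, v, congrFun (map_comp_ofChart (c a) (u a)) v⟩) (f.obj x)
  let x₁ : (fibCat f (f.obj x)).obj := CostructuredArrow.mk (𝟙 (f.obj x))
  haveI : IsAffine (sch (fibCat f (f.obj x)) x₁) := hx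
  choose x' q H _ using fun s => exists_bc h h' (f := f) (m s) x₁
  have hfl₁ : ∀ s, Flat (bmap 𝒴 (m s)) ∧ LocallyOfFinitePresentation (bmap 𝒴 (m s)) := fun s => by
    obtain ⟨W, j, k, hj, ⟨hk₁, hk₂⟩, e⟩ := hm s
    haveI := hj
    haveI : Flat k := hk₁
    haveI : LocallyOfFinitePresentation k := hk₂
    rw [e]
    exact ⟨inferInstance, inferInstance⟩
  let b := (baseOver f x (𝟙 (f.obj x))).left
  haveI : IsIso b := by
    show IsIso (baseOver f x (𝟙 (f.obj x))).left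
    rw [baseOver, CategoryTheory.Functor.map_id, Category.comp_id, Over.eqToHom_left]
    infer_instance
  haveI : IsAffine (𝒳.p.obj x).left := hx
  haveI : IsAffine (sch 𝒴 (f.obj x)) := IsAffine.of_isIso (inv b)
  haveI haff' : ∀ s, IsAffine (sch 𝒳 (x' s).left) := fun s =>
    haveI := haff s
    IsAffine.of_isIso (H s).isoPullback.hom
  have hflat : ∀ s, Flat (bmap 𝒳 (q s).left) := fun s =>
    MorphismProperty.of_isPullback (H s).flip (hfl₁ s).1
  have hlfp : ∀ s, LocallyOfFinitePresentation (bmap 𝒳 (q s).left) := fun s =>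
    MorphismProperty.of_isPullback (H s).flip (hfl₁ s).2
  have hopen : ∀ s, IsOpen (Set.range (bmap 𝒳 (q s).left)) := fun s =>
    haveI := hflat s
    haveI := hlfp s
    (bmap 𝒳 (q s).left).isOpenMap.isOpen_range
  obtain ⟨σ, hσ⟩ := (isCompact_univ : IsCompact (Set.univ : Set (sch 𝒳 x))).elim_finite_subcover
    (fun s => Set.range (bmap 𝒳 (q s).left)) hopen (fun p _ => by
      obtain ⟨p', hp₁, -⟩ := Scheme.Pullback.exists_preimage_pullback (f := toBase x₁) (g := bmap 𝒴 (m (b p)))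
        p (y (b p)) (hy (b p)).symm
      refine Set.mem_iUnion.2 ⟨b p, (H (b p)).isoPullback.inv p', ?_⟩
      show bmap (fibCat f (f.obj x)) (q (b p)) _ = p
      rw [← Scheme.Hom.comp_apply, (H (b p)).isoPullback_inv_fst]
      exact hp₁)
  let 𝒰 : Cover x := ⟨↥σ, fun s => (x' s.1).left, fun s => (q s.1).left, fun s => haff' s.1,
    ⟨fun s => hflat s.1, fun p => by
      obtain ⟨s, hs, w, hw⟩ : ∃ s ∈ σ, p ∈ Set.range (bmap 𝒳 (q s).left) := by simpa using hσ (Set.mem_univ p)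
      exact ⟨⟨s, hs⟩, w, hw⟩⟩⟩
  haveI : Finite 𝒰.ι := inferInstanceAs (Finite ↥σ)
  haveI := hx
  obtain ⟨h₁, h₂⟩ := 𝒰.projective E.property.1 E.property.2 fun l => by
    obtain ⟨z, ⟨i⟩⟩ := exists_fpComp_iso h' (h𝒴' (a l.1)).isStack.1 f (u (a l.1)) ((c (a l.1)).obj (t l.1)) (x' l.1)
    haveI : IsAffine (sch 𝒳 (x' l.1).left) := haff' l.1
    refine sections_of_isFinLocFree ?_ (isAffineOpen_top _)
    exact Groth.L29.LocFree.of_iso (cmpIso E.property.1 i.inv.left)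
      (Groth.L29.LocFree.pullback _ (hlf (a l.1) z.left))
  exact isFinLocFree_of_sections h₁ h₂

end Groth.L23.RelGen
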