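import Groth.Agent.L23.RelGen.FibCat
import Groth.Agent.L24.St.Yoneda

/-!
# The category over an object and the base change to its scheme
-/

universe w' v' w v u

open CategoryTheory CategoryTheory.Limits AlgebraicGeometry Opposite TopologicalSpace

set_option backward.isDefEq.respectTransparency false
set_option backward.isDefEq.respectTransparency.types false
set_option linter.style.haveILetI false
set_option linter.unusedSectionVars false

noncomputable section

namespace Groth.L23.RelGen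

open StMod Groth.L24.St

variable {S : Scheme.{u}} {𝒳 : BasedCategory.{v, w} (Over S)} {𝒴 : BasedCategory.{v', w'} (Over S)}
  (f : 𝒳 ⥤ᵇ 𝒴) {η : 𝒴.obj} (G : FibCat.overCat (𝒴.p.obj η) ⥤ᵇ 𝒴) (ι : G.obj (idObj (𝒴.p.obj η)) ≅ η)

/-- From the base change along the functor of an object to the category over the object. -/
def toFib : (FibCat.fp G f).obj ⥤ (fibCat f η).obj where
  obj z := CostructuredArrow.mk (z.obj.iso.inv ≫ G.map (L09.Fib.toTerm z.obj.fst) ≫ ι.hom)
  map {z z'} k := CostructuredArrow.homMk k.hom.snd (by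
    show f.map k.hom.snd ≫ z'.obj.iso.inv ≫ G.map (L09.Fib.toTerm z'.obj.fst) ≫ ι.hom =
      z.obj.iso.inv ≫ G.map (L09.Fib.toTerm z.obj.fst) ≫ ι.hom
    rw [show G.map (L09.Fib.toTerm z.obj.fst) = G.map k.hom.fst ≫ G.map (L09.Fib.toTerm z'.obj.fst) by
      rw [← G.toFunctor.map_comp]; exact congrArg G.map (Over.OverMorphism.ext (Over.w k.hom.fst).symm)]
    have hw := k.hom.w
    simp only [← Category.assoc]
    refine congrArg (fun a => (a ≫ G.map (L09.Fib.toTerm z'.obj.fst)) ≫ ι.hom) ?_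
    rw [Iso.comp_inv_eq, Category.assoc, hw, Iso.inv_hom_id_assoc])
  map_id z := CostructuredArrow.hom_ext _ _ rfl
  map_comp k k' := CostructuredArrow.hom_ext _ _ rfl

theorem bmap_toFib {z z' : (FibCat.fp G f).obj} (k : z ⟶ z') :
    bmap (fibCat f η) ((toFib f G ι).map k) ≫ eqToHom (sch_obj_eq (FibCat.fpSnd G f) z') =
      eqToHom (sch_obj_eq (FibCat.fpSnd G f) z) ≫ bmap (FibCat.fp G f) k :=
  bmap_map_comm (FibCat.fpSnd G f) k rfl

/-- Every object over the object comes from the base change. -/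
theorem exists_toFib_iso (h : FibCat.IsFibGrpd 𝒴.p) (hι : OverId ι.hom) (x : (fibCat f η).obj) :
    ∃ z : (FibCat.fp G f).obj, Nonempty ((toFib f G ι).obj z ≅ x) := by
  let t : Over (𝒴.p.obj η) := Over.mk (baseOver f x.left x.hom)
  obtain ⟨eι, hι'⟩ := hι.eq
  have hmap : 𝒴.p.map (G.map (L09.Fib.toTerm t)) =
      eqToHom (G.w_obj t) ≫ t.hom ≫ eqToHom (G.w_obj (idObj (𝒴.p.obj η))).symm :=
    IsHomLift.fac' 𝒴.p ((FibCat.overCat (𝒴.p.obj η)).p.map (L09.Fib.toTerm t)) (G.map (L09.Fib.toTerm t))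
  have e : 𝒴.p.obj (f.obj x.left) = 𝒴.p.obj (G.obj t) := (f.w_obj x.left).trans (G.w_obj t).symm
  have hfac : eqToHom e ≫ 𝒴.p.map (G.map (L09.Fib.toTerm t) ≫ ι.hom) = 𝒴.p.map x.hom := by
    rw [Functor.map_comp, hmap, hι']
    simp [t, baseOver]
  obtain ⟨k, ⟨hk, hk'⟩, -⟩ := existsUnique_factor h x.hom (G.map (L09.Fib.toTerm t) ≫ ι.hom) (eqToHom e) hfac
  haveI : IsIso (𝒴.p.map k) := by rw [hk]; infer_instance
  haveI := h.isStronglyCartesian k
  haveI : IsIso k := Functor.IsStronglyCartesian.isIso_of_base_isIso 𝒴.p (𝒴.p.map k) k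
  have hprop : 𝒴.p.IsHomLift (𝟙 ((FibCat.overCat (𝒴.p.obj η)).p.obj t)) (inv k) := by
    refine IsHomLift.of_fac _ _ _ (G.w_obj t) (f.w_obj x.left) ?_
    rw [Functor.map_inv]
    simp [hk]
  let z : (FibCat.fp G f).obj := ⟨{ fst := t, snd := x.left, iso := (asIso k).symm }, hprop⟩
  refine ⟨z, ⟨CostructuredArrow.isoMk (Iso.refl _) ?_⟩⟩
  show f.map (𝟙 _) ≫ x.hom = k ≫ G.map (L09.Fib.toTerm t) ≫ ι.hom
  rw [f.toFunctor.map_id, Category.id_comp, hk']

/-- Every morphism over the object comes from the base change. -/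
theorem exists_toFib_map (h : FibCat.IsFibGrpd 𝒴.p) {z z' : (FibCat.fp G f).obj}
    (s : (toFib f G ι).obj z ⟶ (toFib f G ι).obj z') : ∃ k : z ⟶ z', (toFib f G ι).map k = s := by
  let m : G.obj z.obj.fst ⟶ G.obj z'.obj.fst := z.obj.iso.hom ≫ f.map s.left ≫ z'.obj.iso.inv
  have hm : m ≫ G.map (L09.Fib.toTerm z'.obj.fst) = G.map (L09.Fib.toTerm z.obj.fst) := by
    have := CostructuredArrow.w s
    rw [← cancel_mono ι.hom, Category.assoc]
    show (z.obj.iso.hom ≫ f.map s.left ≫ z'.obj.iso.inv) ≫ _ = _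
    rw [Category.assoc, Category.assoc, show f.map s.left ≫ z'.obj.iso.inv ≫
      G.map (L09.Fib.toTerm z'.obj.fst) ≫ ι.hom = z.obj.iso.inv ≫ G.map (L09.Fib.toTerm z.obj.fst) ≫ ι.hom from this,
      Iso.hom_inv_id_assoc]
  have hmap : ∀ {a b : (FibCat.overCat (𝒴.p.obj η)).obj} (c : a ⟶ b), 𝒴.p.map (G.map c) =
      eqToHom (G.w_obj a) ≫ c.left ≫ eqToHom (G.w_obj b).symm := fun c =>
    IsHomLift.fac' 𝒴.p ((FibCat.overCat (𝒴.p.obj η)).p.map c) (G.map c)
  let q : z.obj.fst.left ⟶ z'.obj.fst.left :=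
    eqToHom (G.w_obj z.obj.fst).symm ≫ 𝒴.p.map m ≫ eqToHom (G.w_obj z'.obj.fst)
  have hq : q ≫ z'.obj.fst.hom = z.obj.fst.hom := by
    have h₂ := congrArg 𝒴.p.map hm
    rw [Functor.map_comp, hmap, hmap, ← Category.assoc, ← Category.assoc, ← Category.assoc (eqToHom _),
      cancel_mono] at h₂
    rw [← cancel_epi (eqToHom (G.w_obj z.obj.fst))]
    simpa [q, L09.Fib.toTerm, Category.assoc] using h₂
  let c : z.obj.fst ⟶ z'.obj.fst := Over.homMk q hq
  have hgt : G.map c = m := by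
    refine (existsUnique_factor h (G.map (L09.Fib.toTerm z.obj.fst)) (G.map (L09.Fib.toTerm z'.obj.fst))
      (𝒴.p.map m) ?_).unique ⟨?_, ?_⟩ ⟨rfl, hm⟩
    · rw [← Functor.map_comp, hm]
    · rw [hmap]; simp [q, c]
    · rw [← G.toFunctor.map_comp]; exact congrArg G.map (Over.OverMorphism.ext hq)
  refine ⟨ObjectProperty.homMk { fst := c, snd := s.left, w := ?_ }, CostructuredArrow.hom_ext _ _ rfl⟩
  show G.map c ≫ z'.obj.iso.hom = z.obj.iso.hom ≫ f.map s.left
  rw [hgt]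
  simp [m]

end Groth.L23.RelGen
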