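import Groth.Agent.L23.RelGen.CompTarget
import Groth.Agent.L23.RelGen.ToFib
import Groth.Agent.L18.GlobGen
import Groth.Agent.L24.St.Yoneda
import Groth.Agent.L24.St.Sp
import Groth.Prelude.Def_AlgSp3

/-!
# The structure sheaf generates relative to quasi-affine morphisms
-/

universe w' v' w v u

open CategoryTheory CategoryTheory.Limits AlgebraicGeometry Opposite TopologicalSpace

set_option backward.isDefEq.respectTransparency false
set_option backward.isDefEq.respectTransparency.types false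
set_option linter.style.haveILetI false
set_option linter.unusedSectionVars false

noncomputable section

namespace Groth.L23.RelGen

open StMod Groth.L24.St
open Groth.L18.Frame (rs ro rs_rs rs_self rs_smul)

variable {S : Scheme.{u}} {W : Over S}

theorem toTerm_unique {z : (FibCat.overCat W).obj} (k : z ⟶ idObj W) : k = L09.Fib.toTerm z :=
  Over.OverMorphism.ext (by simpa [idObj, L09.Fib.toTerm] using Over.w k)

/-- A global section over the terminal object gives a map from the structure sheaf. -/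
theorem exists_sectionHom (M : Mod (FibCat.overCat W)) (hM : M.IsCartesian) (s : Sec M (idObj W)) :
    ∃ φ : (O (FibCat.overCat W)) ⟶ M, ∀ z (_ : IsAffine (sch (FibCat.overCat W) z)),
      (φ.app z).app ⊤ (show Fn z from 1) = M.mapTop (L09.Fib.toTerm z) s := by
  obtain ⟨φ, hφ⟩ := exists_hom_of_affine (overCat_isFibGrpd W) hM (E := O (FibCat.overCat W))
    (fun z _ =>
      { toFun := fun r => (show Fn z from r) • M.mapTop (L09.Fib.toTerm z) s
        map_add' := fun a b => add_smul (show Fn z from a) (show Fn z from b) _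
        map_smul' := fun a b => mul_smul (show Fn z from a) (show Fn z from b) _ })
    (fun z' z t _ _ r => by
      show (show Fn z' from (O (FibCat.overCat W)).mapTop t r) • M.mapTop (L09.Fib.toTerm z') s =
        M.mapTop t ((show Fn z from r) • M.mapTop (L09.Fib.toTerm z) s)
      rw [Mod.mapTop_smul, ← Mod.mapTop_comp, toTerm_unique (t ≫ L09.Fib.toTerm z)]
      exact congrArg (fun a : Fn z' => a • _) (O_mapTop _ t r))
  exact ⟨φ, fun z hz => (hφ z hz _).trans (one_smul (Fn z) _)⟩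

theorem kill_global {M N : QCoh (FibCat.overCat W)} (u : M ⟶ N)
    (hu : ∀ φ : O (FibCat.overCat W) ⟶ M.obj, φ ≫ u.hom = 0) (s : Sec M.obj (idObj W)) :
    (u.hom.app (idObj W)).app ⊤ s = 0 := by
  refine Groth.L19.QCohFpqc.eq_of_affine (N.obj.obj (idObj W)) fun U hU hle => ?_
  obtain ⟨y, r, hi, hr, ha⟩ := exists_restrict (overCat_isFibGrpd W) (idObj W) U
  haveI := hi
  obtain ⟨eN, bN⟩ := resTo_bijective N.property.1 r hr
  refine bN.1 ?_
  rw [resTo_rs, resTo_rs, resTo_top, resTo_top, Mod.mapTop_zero, Mod.mapTop_app, toTerm_unique r]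
  obtain ⟨φ, hφ⟩ := exists_sectionHom M.obj M.property.1 s
  rw [← hφ y (ha hU)]
  exact congrArg (fun k : O (FibCat.overCat W) ⟶ N.obj => (k.app y).app ⊤ (show Fn y from 1)) (hu φ)

/-- The structure sheaf generates on the slice of a quasi-affine scheme. -/
theorem isGenFam_overCat (hW : W.left.IsQuasiAffine) :
    IsGenFam (fun _ : PUnit.{u + 1} => OQ (FibCat.overCat W)) := by
  rw [isGenFam_iff]
  intro M N u hu
  let X : Scheme.{u} := sch (FibCat.overCat W) (idObj W)
  haveI : X.IsQuasiAffine := hW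
  haveI : Coh.IsQCoh (M.obj.obj (idObj W)) := M.property.2 _
  have h₀ : u.hom.app (idObj W) = 0 := by
    refine Groth.L18.Ample.eq_zero_of_local _ fun V s x hx => ?_
    obtain ⟨_, ⟨a, ha, rfl⟩, hxa, haV⟩ :=
      Opens.isBasis_iff_nbhd.mp (Scheme.IsQuasiAffine.isBasis_basicOpen X) hx
    refine ⟨_, haV, hxa, ?_⟩
    obtain ⟨n, t, ht⟩ := Groth.L16.QcqsPush.exists_pow_smul_eq_res (M.obj.obj (idObj W)) (U := ⊤)
      (by simpa using isCompact_univ (X := X)) (by simpa using isQuasiSeparated_univ_iff.mpr inferInstance) a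
      (rs _ haV s)
    refine Groth.L18.Ample.eq_zero_of_pow_smul a le_rfl n _ ?_
    rw [← Scheme.Modules.Hom.app_smul, ← ht, Groth.L18.Ample.hom_app_rs, kill_global u (hu PUnit.unit) t]
    exact map_zero _
  refine InducedCategory.hom_ext (Mod.hom_ext fun x => ?_)
  let k : x ⟶ idObj W := L09.Fib.toTerm x
  let adj := Scheme.Modules.pullbackPushforwardAdjunction (bmap (FibCat.overCat W) k)
  haveI := M.property.1 k rfl
  refine (cancel_epi ((adj.homEquiv _ _).symm (M.obj.map k rfl))).1 ?_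
  rw [← Adjunction.homEquiv_naturality_right_symm, u.hom.comm k rfl, h₀, zero_comp]
  show _ = _ ≫ (0 : M.obj.obj x ⟶ N.obj.obj x)
  rw [comp_zero, Adjunction.homEquiv_counit, Functor.map_zero, zero_comp]

/-- From the base change along the functor of an object to the category over the object, over the base. -/
def toFibB {𝒳 : BasedCategory.{v, w} (Over S)} {𝒴 : BasedCategory.{v', w'} (Over S)} (f : 𝒳 ⥤ᵇ 𝒴) {η : 𝒴.obj}
    (G : FibCat.overCat (𝒴.p.obj η) ⥤ᵇ 𝒴) (ι : G.obj (idObj (𝒴.p.obj η)) ≅ η) : FibCat.fp G f ⥤ᵇ fibCat f η where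
  toFunctor := toFib f G ι
  w := (FibCat.fpSnd G f).w

theorem exists_equiv_of_quasiAffine {𝒳 𝒴 : AlgSt.Cat S} (h𝒴 : FibCat.IsFibGrpd 𝒴.p) (f : 𝒳 ⥤ᵇ 𝒴)
    (hf : AlgSt.RepByAlgSpWith AlgSp.IsQuasiAffineMor f) (η : 𝒴.obj) (hη : IsAffine (sch 𝒴 η)) :
    ∃ (W : Over S) (Φ : FibCat.overCat W ⥤ᵇ fibCat f η), W.left.IsQuasiAffine ∧ Φ.toFunctor.Full ∧
      Φ.toFunctor.EssSurj := by
  obtain ⟨G, ι, hι⟩ := exists_overCat_functor h𝒴 η rfl
  obtain ⟨F, e, he, hP⟩ := hf (𝒴.p.obj η) G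
  obtain ⟨W, i, fst, hsq, hW⟩ := hP (Z := 𝒴.p.obj η) hη (𝟙 _)
  haveI : IsIso fst := hsq.isIso_fst_of_isIso
  let K : FibCat.overCat W ⥤ᵇ FibCat.fp G f :=
    BasedFunctor.comp (BasedFunctor.comp (AlgSt.ofOverCat W) (AlgSt.ofSpMap fst)) e
  have hK : FibCat.IsEquivOver K :=
    isEquivOver_comp (isEquivOver_comp (ofOverCat_isEquivOver W) (ofSpMap_isEquivOver fst)) he
  haveI := L09.Fib.isEquivalence_of_isEquivOver hK
  haveI : (toFib f G ι).Full := ⟨fun {z z'} s => exists_toFib_map f G ι h𝒴 s⟩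
  haveI : (toFib f G ι).EssSurj := ⟨fun x => exists_toFib_iso f G ι h𝒴 hι x⟩
  refine ⟨W, BasedFunctor.comp K (toFibB f G ι), hW, ?_, ?_⟩
  · show (K.toFunctor ⋙ toFib f G ι).Full
    infer_instance
  · show (K.toFunctor ⋙ toFib f G ι).EssSurj
    infer_instance

theorem isRelGenFam_O_of_quasiAffine {𝒳 𝒴 : AlgSt.Cat S} (h𝒳 : FibCat.IsFibGrpd 𝒳.p)
    (h𝒴 : FibCat.IsFibGrpd 𝒴.p) (f : 𝒳 ⥤ᵇ 𝒴) (hf : AlgSt.RepByAlgSpWith AlgSp.IsQuasiAffineMor f) :
    IsRelGenFam f (fun _ : PUnit.{u + 1} => OQ 𝒳) := by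
  intro η hη
  obtain ⟨W, Φ, hW, hfull, hess⟩ := exists_equiv_of_quasiAffine h𝒴 f hf η hη
  haveI := hfull
  haveI := hess
  exact isGenFam_of_equiv Φ (overCat_isFibGrpd W) (isFibGrpd_fibCat h𝒳 f η) _
    (isGenFam_congr (fun _ => ((comapFunctor Φ).mapIso (comapOIso (fibFst f η)) ≪≫ comapOIso Φ).symm)
      (isGenFam_overCat hW))

end Groth.L23.RelGen
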