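import Groth.Agent.L23.RelGen.HomBC

/-!
# The category over an object, and transfer of generation along flat morphisms of affine objects
-/

universe w' v' w v u

open CategoryTheory CategoryTheory.Limits AlgebraicGeometry Opposite TopologicalSpace

set_option backward.isDefEq.respectTransparency false
set_option backward.isDefEq.respectTransparency.types false
set_option linter.style.haveILetI false
set_option linter.unusedSectionVars false

noncomputable section

namespace Groth.L23.RelGen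

open StMod

variable {S : Scheme.{u}} {𝒳 : BasedCategory.{v, w} (Over S)} {𝒴 : BasedCategory.{v', w'} (Over S)}

/-- The category over an object is fibred in groupoids. -/
theorem isFibGrpd_fibCat (h : FibCat.IsFibGrpd 𝒳.p) (f : 𝒳 ⥤ᵇ 𝒴) (η : 𝒴.obj) :
    FibCat.IsFibGrpd (fibCat f η).p where
  exists_lift {x} {V} k := by
    obtain ⟨y, φ, hφ⟩ := h.exists_lift (x := x.left) k
    let y' : (fibCat f η).obj := CostructuredArrow.mk (f.map φ ≫ x.hom)
    let φ' : y' ⟶ x := CostructuredArrow.homMk φ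
    haveI := hφ
    refine ⟨y', φ', IsHomLift.of_fac _ _ _ (IsHomLift.domain_eq 𝒳.p k φ) rfl ?_⟩
    exact IsHomLift.fac 𝒳.p k φ
  isStronglyCartesian {y} {x} φ := by
    haveI := h.isStronglyCartesian φ.left
    haveI : (fibCat f η).p.IsHomLift ((fibCat f η).p.map φ) φ := IsHomLift.map _ φ
    refine ⟨fun {z} g ψ hψ => ?_⟩
    haveI := hψ
    have hg : 𝒳.p.map ψ.left = g ≫ 𝒳.p.map φ.left := by
      have := IsHomLift.fac' (fibCat f η).p (g ≫ (fibCat f η).p.map φ) ψ
      simp only [eqToHom_refl, Category.comp_id, Category.id_comp] at this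
      exact this
    haveI : 𝒳.p.IsHomLift (g ≫ 𝒳.p.map φ.left) ψ.left := by rw [← hg]; exact IsHomLift.map _ _
    obtain ⟨t, ⟨ht, ht'⟩, hu⟩ :=
      Functor.IsStronglyCartesian.universal_property 𝒳.p (𝒳.p.map φ.left) φ.left g _ rfl ψ.left
    let t' : z ⟶ y := CostructuredArrow.homMk t (by
      rw [← CostructuredArrow.w φ, ← Category.assoc, ← f.toFunctor.map_comp, ht']
      exact CostructuredArrow.w ψ)
    refine ⟨t', ⟨?_, CostructuredArrow.hom_ext _ _ ht'⟩, fun s hs => CostructuredArrow.hom_ext _ _ (hu s.left ⟨?_, ?_⟩)⟩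
    · have e : 𝒳.p.map t = g := by simpa using IsHomLift.fac' 𝒳.p g t
      show (fibCat f η).p.IsHomLift g t'
      rw [← e]
      exact IsHomLift.map (fibCat f η).p t'
    · obtain ⟨hs1, -⟩ := hs
      have e : g = 𝒳.p.map s.left := by
        have := IsHomLift.fac' (fibCat f η).p g s
        simp only [eqToHom_refl, Category.comp_id, Category.id_comp] at this
        exact this.symm
      rw [e]
      exact IsHomLift.map _ _
    · rw [← hs.2]; rfl

/-- Composition with a morphism of the target. -/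
def fibComp (f : 𝒳 ⥤ᵇ 𝒴) {η' η : 𝒴.obj} (β : η' ⟶ η) : fibCat f η' ⥤ᵇ fibCat f η where
  toFunctor := CostructuredArrow.map β
  w := rfl

/-- Comparison maps of an inverse image along composition. -/
theorem mapTop_fibComp (f : 𝒳 ⥤ᵇ 𝒴) {η' η : 𝒴.obj} (β : η' ⟶ η) (F : Mod (fibCat f η))
    {x' x : (fibCat f η').obj} (φ : x' ⟶ x) (m : Sec (Mod.comap (fibComp f β) F) x) :
    (Mod.comap (fibComp f β) F).mapTop φ m = F.mapTop ((fibComp f β).map φ) m := by
  refine congrArg (fun k => Scheme.Modules.Hom.app k ⊤ m) ?_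
  rw [Mod.comap_map]
  exact castMap_rfl_self _ _

/-- The scheme map to the scheme of the object of the target. -/
abbrev toBase {f : 𝒳 ⥤ᵇ 𝒴} {η : 𝒴.obj} (x : (fibCat f η).obj) : sch (fibCat f η) x ⟶ sch 𝒴 η :=
  (baseOver f x.left x.hom).left

theorem bmap_toBase {f : 𝒳 ⥤ᵇ 𝒴} {η : 𝒴.obj} {x' x : (fibCat f η).obj} (φ : x' ⟶ x) :
    bmap (fibCat f η) φ ≫ toBase x = toBase x' := by
  show bmap 𝒳 φ.left ≫ _ = _
  rw [bmap_comp_baseOver_left, CostructuredArrow.w φ]

/-- Base change of an object along a morphism of the target. -/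
theorem exists_bc (h : FibCat.IsFibGrpd 𝒳.p) (h' : FibCat.IsFibGrpd 𝒴.p) {f : 𝒳 ⥤ᵇ 𝒴} {η' η : 𝒴.obj} (β : η' ⟶ η)
    (x : (fibCat f η).obj) : ∃ (x' : (fibCat f η').obj) (q : (fibComp f β).obj x' ⟶ x),
      IsPullback (bmap (fibCat f η) q) (toBase x') (toBase x) (bmap 𝒴 β) ∧
        ∀ (y : (fibCat f η').obj) (s : (fibComp f β).obj y ⟶ x), ∃ t : y ⟶ x', (fibComp f β).map t ≫ q = s := by
  let V : Over S := Over.mk (pullback.fst (toBase x) (bmap 𝒴 β) ≫ (𝒳.p.obj x.left).hom)
  obtain ⟨ξ, q₁, e, hq⟩ :=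
    exists_lift h (Over.homMk (pullback.fst (toBase x) (bmap 𝒴 β)) rfl : V ⟶ 𝒳.p.obj x.left)
  have hb₁ : bmap 𝒳 q₁ = eqToHom (congrArg Comma.left e) ≫ pullback.fst (toBase x) (bmap 𝒴 β) := by
    have := congrArg (fun k => k.left) hq
    simp only [Over.comp_left, Over.eqToHom_left] at this
    exact this
  let g' : 𝒳.p.obj ξ ⟶ 𝒴.p.obj η' := eqToHom e ≫ (Over.homMk (pullback.snd (toBase x) (bmap 𝒴 β)) (by
    show _ ≫ (𝒴.p.obj η').hom = pullback.fst _ _ ≫ (𝒳.p.obj x.left).hom
    rw [← sch_hom_eq β, ← Over.w (baseOver f x.left x.hom)]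
    exact (pullback.condition_assoc _).symm) : V ⟶ 𝒴.p.obj η')
  have hg : g' ≫ 𝒴.p.map β = baseOver f ξ (f.map q₁ ≫ x.hom) := by
    rw [← map_comp_baseOver, hq]
    apply Over.OverMorphism.ext
    simp only [g', Over.comp_left, Category.assoc]
    exact congrArg _ pullback.condition.symm
  have hg' : (eqToHom (f.w_obj ξ) ≫ g') ≫ 𝒴.p.map β = 𝒴.p.map (f.map q₁ ≫ x.hom) := by
    rw [Category.assoc, hg, baseOver]
    simp
  obtain ⟨α, ⟨hα, hw⟩, -⟩ := existsUnique_factor h' (f.map q₁ ≫ x.hom) β (eqToHom (f.w_obj ξ) ≫ g') hg'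
  let x' : (fibCat f η').obj := CostructuredArrow.mk α
  let q : (fibComp f β).obj x' ⟶ x := CostructuredArrow.homMk q₁ hw.symm
  have hb₂ : toBase x' = eqToHom (congrArg Comma.left e) ≫ pullback.snd (toBase x) (bmap 𝒴 β) := by
    show (eqToHom (f.w_obj ξ).symm ≫ 𝒴.p.map α).left = _
    rw [hα]
    simp [g']
  refine ⟨x', q, ?_, fun y s => ?_⟩
  · show IsPullback (bmap 𝒳 q₁) _ _ _
    rw [hb₁, hb₂]
    exact (IsPullback.of_hasPullback _ _).of_iso (eqToIso (congrArg Comma.left e).symm) (Iso.refl _) (Iso.refl _)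
      (Iso.refl _) (by simp) (by simp) (by simp) (by simp)
  · have hcond : bmap 𝒳 s.left ≫ toBase x = toBase y ≫ bmap 𝒴 β := by
      show bmap 𝒳 s.left ≫ (baseOver f x.left x.hom).left = _
      rw [bmap_comp_baseOver_left, CostructuredArrow.w s]
      show (baseOver f y.left (y.hom ≫ β)).left = _
      rw [baseOver_comp]; rfl
    let k : 𝒳.p.obj y.left ⟶ 𝒳.p.obj ξ :=
      (Over.homMk (pullback.lift (bmap 𝒳 s.left) (toBase y) hcond) (by
        show _ ≫ pullback.fst _ _ ≫ (𝒳.p.obj x.left).hom = (𝒳.p.obj y.left).hom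
        rw [pullback.lift_fst_assoc]
        exact sch_hom_eq s.left) : 𝒳.p.obj y.left ⟶ V) ≫ eqToHom e.symm
    have hk : k ≫ 𝒳.p.map q₁ = 𝒳.p.map s.left := by
      rw [hq]
      apply Over.OverMorphism.ext
      simp only [k, Over.comp_left, Over.homMk_left, Category.assoc, eqToHom_trans_assoc,
        eqToHom_refl, Category.id_comp]
      exact pullback.lift_fst _ _ _
    obtain ⟨t, ⟨ht, ht'⟩, -⟩ := existsUnique_factor h s.left q₁ k hk
    refine ⟨CostructuredArrow.homMk t ?_, CostructuredArrow.hom_ext _ _ ht'⟩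
    have hw₂ : (f.map t ≫ α) ≫ β = y.hom ≫ β := by
      rw [Category.assoc, hw, ← Category.assoc, ← f.toFunctor.map_comp, ht']
      exact CostructuredArrow.w s
    have hbase : baseOver f y.left (f.map t ≫ α) = baseOver f y.left y.hom := by
      rw [← map_comp_baseOver, ht, baseOver, hα]
      apply Over.OverMorphism.ext
      simp only [k, g', Over.comp_left, Over.homMk_left, Category.assoc, eqToHom_trans_assoc,
        eqToHom_refl, Category.id_comp]
      exact pullback.lift_snd _ _ _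
    have hp : 𝒴.p.map (f.map t ≫ α) = 𝒴.p.map y.hom := (cancel_epi _).1 hbase
    exact (existsUnique_factor h' (y.hom ≫ β) β (𝒴.p.map y.hom) (𝒴.p.map_comp _ _).symm).unique ⟨hp, hw₂⟩ ⟨rfl, rfl⟩

end Groth.L23.RelGen
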