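import Groth.Agent.L16.QcqsPush
import Mathlib.AlgebraicGeometry.Modules.Tilde
import Mathlib.AlgebraicGeometry.AffineScheme

/-!
# Quasi-coherent modules on an affine scheme with given sections
-/

universe u

open CategoryTheory CategoryTheory.Limits AlgebraicGeometry Opposite TopologicalSpace

set_option autoImplicit false
set_option backward.isDefEq.respectTransparency false
set_option linter.style.haveILetI false

noncomputable section

namespace Groth.L23.RelGen

theorem isQCoh_tilde {R : CommRingCat.{u}} (N : ModuleCat.{u} R) : Coh.IsQCoh (tilde N) := inferInstance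

/-- Every module over the functions of an affine scheme is the sections of a quasi-coherent module. -/
theorem exists_qcoh_sections (X : Scheme.{u}) [IsAffine X] (H : Type u) [AddCommGroup H] [Module Γ(X, ⊤) H] :
    ∃ M : X.Modules, Coh.IsQCoh M ∧ Nonempty (H ≃ₗ[Γ(X, ⊤)] Γ(M, ⊤)) := by
  let N : ModuleCat.{u} Γ(X, ⊤) := ModuleCat.of Γ(X, ⊤) H
  let j := X.isoSpec.inv
  haveI := isQCoh_tilde N
  refine ⟨(Scheme.Modules.pushforward j).obj (tilde N), Groth.L16.QcqsPush.isQCoh_push (tilde N) j, ?_⟩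
  have hj : j.appTop = (Scheme.ΓSpecIso Γ(X, ⊤)).inv := by
    rw [← cancel_mono X.isoSpec.hom.appTop, ← Scheme.Hom.comp_appTop, X.isoSpec.hom_inv_id, Scheme.Hom.id_appTop,
      Scheme.isoSpec_hom, Scheme.toSpecΓ_appTop, Iso.inv_hom_id]
  have hsmulN : ∀ (a : Γ(X, ⊤)) (m : N), (show Γ(tilde N, ⊤) from (tilde.toOpen N ⊤).hom (a • m)) =
      (Scheme.ΓSpecIso Γ(X, ⊤)).inv a • (show Γ(tilde N, ⊤) from (tilde.toOpen N ⊤).hom m) := fun a m =>
    ((tilde.toOpen N ⊤).hom.map_smul _ _).trans ((Scheme.Modules.smul_Spec_def a _).trans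
      (congrArg (· • (show Γ(tilde N, ⊤) from (tilde.toOpen N ⊤).hom m)) (Groth.L18.Frame.ro_self _ _)))
  let Φ : H → Γ((Scheme.Modules.pushforward j).obj (tilde N), ⊤) := fun m =>
    (show Γ(tilde N, ⊤) from (tilde.toOpen N ⊤).hom m)
  have hadd : ∀ a b, Φ (a + b) = Φ a + Φ b := fun a b => map_add (tilde.toOpen N ⊤).hom a b
  have hsmul : ∀ r m, Φ (r • m) = r • Φ m := fun r m => by
    refine (hsmulN r m).trans ?_
    rw [Groth.L00.PullStalk.push_smul]
    exact (congrArg (· • (show Γ(tilde N, ⊤) from (tilde.toOpen N ⊤).hom m)) (congr($(hj) r))).symm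
  exact ⟨LinearEquiv.ofBijective { toFun := Φ, map_add' := hadd, map_smul' := hsmul }
    (ConcreteCategory.bijective_of_isIso (tilde.isoTop N).hom)⟩

end Groth.L23.RelGen
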