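import Groth.Agent.L23.RelGen.Push
import Groth.Agent.L23.RelGen.FpTransfer

/-!
# Generation is stable under affine base change of the object of the target
-/

universe t w' v' w v u

open CategoryTheory CategoryTheory.Limits AlgebraicGeometry Opposite TopologicalSpace

set_option backward.isDefEq.respectTransparency false
set_option backward.isDefEq.respectTransparency.types false
set_option linter.style.haveILetI false
set_option linter.unusedSectionVars false

noncomputable section

namespace Groth.L23.RelGen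

open StMod

variable {S : Scheme.{u}} {𝒳 : BasedCategory.{v, w} (Over S)} {𝒴 : BasedCategory.{v', w'} (Over S)}

namespace BcData

variable {f : 𝒳 ⥤ᵇ 𝒴} {η' η : 𝒴.obj} {β : η' ⟶ η} (D : BcData f β)

/-- The graph of an object. -/
def graph (y : (fibCat f η').obj) : y ⟶ D.pt ((fibComp f β).obj y) := D.lift (𝟙 _)

theorem graph_natural {y' y : (fibCat f η').obj} (k : y' ⟶ y) :
    D.graph y' ≫ D.ext ((fibComp f β).map k) = k ≫ D.graph y :=
  D.uniq _ _ (by
    rw [(fibComp f β).toFunctor.map_comp, (fibComp f β).toFunctor.map_comp, Category.assoc, Category.assoc, D.ext_q,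
      ← Category.assoc, graph, graph, D.lift_q, D.lift_q, Category.id_comp, Category.comp_id])

theorem graph_ext (x : (fibCat f η).obj) : D.graph (D.pt x) ≫ D.ext (D.q x) = 𝟙 (D.pt x) :=
  D.uniq _ _ (by
    rw [(fibComp f β).toFunctor.map_comp, Category.assoc, D.ext_q, ← Category.assoc, graph, D.lift_q,
      Category.id_comp, (fibComp f β).toFunctor.map_id, Category.id_comp])

theorem fnMap_graph (y : (fibCat f η').obj) (r : Fn ((fibComp f β).obj y)) :
    fnMap (D.graph y) ((D.qb ((fibComp f β).obj y)).appTop.hom r) = r := by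
  have h : bmap (fibCat f η') (D.graph y) ≫ D.qb ((fibComp f β).obj y) = 𝟙 _ := by
    show bmap (fibCat f η) ((fibComp f β).map (D.graph y)) ≫ _ = _
    rw [← bmap_comp, graph, D.lift_q, bmap_id]
    rfl
  have := congrArg (fun k => k.appTop.hom r) h
  rw [Scheme.Hom.comp_appTop, Scheme.Hom.id_appTop] at this
  exact this

theorem push_smul_sec (M : Mod (fibCat f η')) (x : (fibCat f η).obj) (r : Fn x) (m : Sec (D.push M) x) :
    r • m = (show Sec M (D.pt x) from (D.qb x).appTop.hom r • (show Sec M (D.pt x) from m)) := rfl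

theorem adj_smul (E : Mod 𝒳) (M : Mod (fibCat f η')) (φ : Mod.comap (fibFst f η) E ⟶ D.push M)
    (y : (fibCat f η').obj) (r : Fn ((fibComp f β).obj y))
    (m : Sec (Mod.comap (fibFst f η) E) ((fibComp f β).obj y)) :
    M.mapTop (D.graph y) (show Sec M (D.pt ((fibComp f β).obj y)) from
        (φ.app ((fibComp f β).obj y)).app ⊤ (r • m)) =
      (show Fn y from r) • M.mapTop (D.graph y) (show Sec M (D.pt ((fibComp f β).obj y)) from
        (φ.app ((fibComp f β).obj y)).app ⊤ m) := by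
  have h₁ := (φ.app ((fibComp f β).obj y)).app_smul r m
  have h₂ := (h₁.trans (D.push_smul_sec M _ r _))
  refine (congrArg (M.mapTop (D.graph y)) h₂).trans ?_
  refine (Mod.mapTop_smul M (D.graph y) _ _).trans ?_
  exact congrArg (fun a : Fn y => a • _) (D.fnMap_graph y r)

theorem adj_natural (E : Mod 𝒳) (M : Mod (fibCat f η')) (φ : Mod.comap (fibFst f η) E ⟶ D.push M)
    {y' y : (fibCat f η').obj} (k : y' ⟶ y) (m : Sec (Mod.comap (fibFst f η) E) ((fibComp f β).obj y)) :
    M.mapTop (D.graph y') (show Sec M (D.pt ((fibComp f β).obj y')) from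
        (φ.app ((fibComp f β).obj y')).app ⊤ ((Mod.comap (fibFst f η) E).mapTop ((fibComp f β).map k) m)) =
      M.mapTop k (M.mapTop (D.graph y) (show Sec M (D.pt ((fibComp f β).obj y)) from
        (φ.app ((fibComp f β).obj y)).app ⊤ m)) := by
  have h₁ := (Mod.mapTop_app φ ((fibComp f β).map k) m).symm.trans (D.mapTop_push M _ _)
  refine (congrArg (M.mapTop (D.graph y')) h₁).trans ?_
  refine (Mod.mapTop_comp M _ _ _).symm.trans ?_
  rw [D.graph_natural k]
  exact Mod.mapTop_comp M _ _ _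

/-- The value at an object of the companion of a morphism into a direct image. -/
def adjSec (E : Mod 𝒳) (M : Mod (fibCat f η')) (φ : Mod.comap (fibFst f η) E ⟶ D.push M) (y : (fibCat f η').obj) :
    Sec (Mod.comap (fibFst f η') E) y →ₗ[Fn y] Sec M y where
  toFun m := M.mapTop (D.graph y) (show Sec M (D.pt ((fibComp f β).obj y)) from
    (φ.app ((fibComp f β).obj y)).app ⊤ m)
  map_add' a b := (congrArg (M.mapTop (D.graph y))
    (map_add ((φ.app ((fibComp f β).obj y)).app ⊤).hom a b)).trans (Mod.mapTop_add _ _ _ _)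
  map_smul' r a := D.adj_smul E M φ y r a

/-- A morphism into a direct image has a companion on the base change. -/
theorem exists_adjoint (h : FibCat.IsFibGrpd 𝒳.p) (E : Mod 𝒳) (M : Mod (fibCat f η')) (hM : M.IsCartesian)
    (φ : Mod.comap (fibFst f η) E ⟶ D.push M) :
    ∃ φ' : Mod.comap (fibFst f η') E ⟶ M, ∀ (y : (fibCat f η').obj) (_ : IsAffine (sch (fibCat f η') y))
      (m : Sec (Mod.comap (fibFst f η') E) y), (φ'.app y).app ⊤ m = D.adjSec E M φ y m := by
  obtain ⟨φ', hφ'⟩ := exists_hom_of_affine (isFibGrpd_fibCat h f η') hM (fun y _ => D.adjSec E M φ y)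
    fun y' y k _ _ m => (congrArg (D.adjSec E M φ y') (mapTop_fibFst_comp f β E k m)).trans (D.adj_natural E M φ k m)
  exact ⟨φ', hφ'⟩

theorem graph_ext_lift {y : (fibCat f η').obj} {x : (fibCat f η).obj} (s : (fibComp f β).obj y ⟶ x) :
    D.graph y ≫ D.ext s = D.lift s :=
  D.uniq _ _ (by
    rw [(fibComp f β).toFunctor.map_comp, Category.assoc, D.ext_q, ← Category.assoc, graph, D.lift_q,
      Category.id_comp, D.lift_q])

theorem lift_q_eq_id (x : (fibCat f η).obj) : D.lift (D.q x) = 𝟙 (D.pt x) :=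
  D.uniq _ _ (by rw [D.lift_q, (fibComp f β).toFunctor.map_id, Category.id_comp])

theorem adjSec_lift (E : Mod 𝒳) (M : Mod (fibCat f η')) (φ : Mod.comap (fibFst f η) E ⟶ D.push M)
    {y : (fibCat f η').obj} {x : (fibCat f η).obj} (s : (fibComp f β).obj y ⟶ x)
    (m : Sec (Mod.comap (fibFst f η) E) x) :
    M.mapTop (D.graph y) (show Sec M (D.pt ((fibComp f β).obj y)) from
        (φ.app ((fibComp f β).obj y)).app ⊤ ((Mod.comap (fibFst f η) E).mapTop s m)) =
      M.mapTop (D.lift s) (show Sec M (D.pt x) from (φ.app x).app ⊤ m) := by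
  have h₁ := (Mod.mapTop_app φ s m).symm.trans (D.mapTop_push M _ _)
  refine (congrArg (M.mapTop (D.graph y)) h₁).trans ?_
  refine (Mod.mapTop_comp M _ _ _).symm.trans ?_
  rw [D.graph_ext_lift s]

variable [IsAffineHom (bmap 𝒴 β)]

include D in
theorem isAffine_pt (x : (fibCat f η).obj) [IsAffine (sch (fibCat f η) x)] :
    IsAffine (sch (fibCat f η') (D.pt x)) := by
  haveI := D.isAffineHom_qb x
  exact isAffine_of_isAffineHom (D.qb x)

theorem kill_graph (E : Mod 𝒳) {M N : Mod (fibCat f η')} (u : M ⟶ N)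
    (φ : Mod.comap (fibFst f η) E ⟶ D.push M) (φ' : Mod.comap (fibFst f η') E ⟶ M)
    (hu : ∀ φ' : Mod.comap (fibFst f η') E ⟶ M, φ' ≫ u = 0)
    (hφ' : ∀ (y : (fibCat f η').obj) (_ : IsAffine (sch (fibCat f η') y))
      (m : Sec (Mod.comap (fibFst f η') E) y), (φ'.app y).app ⊤ m = D.adjSec E M φ y m)
    {y : (fibCat f η').obj} (hy : IsAffine (sch (fibCat f η') y))
    (a : Sec (Mod.comap (fibFst f η) E) ((fibComp f β).obj y)) :
    (u.app y).app ⊤ (M.mapTop (D.graph y) (show Sec M (D.pt ((fibComp f β).obj y)) from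
        (φ.app ((fibComp f β).obj y)).app ⊤ a)) = 0 :=
  (congrArg (fun b => (u.app y).app ⊤ b) (hφ' y hy a)).symm.trans
    (congrArg (fun k : Mod.comap (fibFst f η') E ⟶ N => (k.app y).app ⊤ a) (hu φ'))

theorem kill_lift (E : Mod 𝒳) {M N : Mod (fibCat f η')} (u : M ⟶ N)
    (φ : Mod.comap (fibFst f η) E ⟶ D.push M) (φ' : Mod.comap (fibFst f η') E ⟶ M)
    (hu : ∀ φ' : Mod.comap (fibFst f η') E ⟶ M, φ' ≫ u = 0)
    (hφ' : ∀ (y : (fibCat f η').obj) (_ : IsAffine (sch (fibCat f η') y))
      (m : Sec (Mod.comap (fibFst f η') E) y), (φ'.app y).app ⊤ m = D.adjSec E M φ y m)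
    {y : (fibCat f η').obj} {x : (fibCat f η).obj} (s : (fibComp f β).obj y ⟶ x)
    (hy : IsAffine (sch (fibCat f η') y)) (m : Sec (Mod.comap (fibFst f η) E) x) :
    (u.app y).app ⊤ (M.mapTop (D.lift s) (show Sec M (D.pt x) from (φ.app x).app ⊤ m)) = 0 := by
  rw [← D.adjSec_lift E M φ s m]
  generalize (Mod.comap (fibFst f η) E).mapTop s m = a
  exact D.kill_graph E u φ φ' hu hφ' hy a

theorem comp_pushMap_eq_zero (h : FibCat.IsFibGrpd 𝒳.p) (E : Mod 𝒳) {M N : Mod (fibCat f η')} (u : M ⟶ N)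
    (hM : M.IsCartesian) (hN : N.IsCartesian) (hNq : N.IsLocQCoh)
    (hu : ∀ φ' : Mod.comap (fibFst f η') E ⟶ M, φ' ≫ u = 0)
    (φ : Mod.comap (fibFst f η) E ⟶ D.push M) : φ ≫ D.pushMap u = 0 := by
  obtain ⟨φ', hφ'⟩ := D.exists_adjoint h E M hM φ
  refine eq_zero_of_affine (isFibGrpd_fibCat h f η) (D.isQCoh_push hN hNq).1 _ fun x hx m => ?_
  have h₁ := kill_lift D E u φ φ' hu hφ' (D.q x) (D.isAffine_pt x) m
  rw [D.lift_q_eq_id] at h₁
  exact (congrArg (fun a => (u.app (D.pt x)).app ⊤ a) (Mod.mapTop_id M _ _).symm).trans h₁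

include D in
theorem isGenFam_of_bcData (h : FibCat.IsFibGrpd 𝒳.p) {ι : Type t} (E : ι → QCoh 𝒳)
    (hgen : IsGenFam (fun i => (comapQ (fibFst f η)).obj (E i))) :
    IsGenFam (fun i => (comapQ (fibFst f η')).obj (E i)) := by
  rw [isGenFam_iff] at hgen ⊢
  intro M N u hu
  have hg := isFibGrpd_fibCat h f η
  let P : QCoh (fibCat f η) := ⟨D.push M.obj, D.isQCoh_push M.property.1 M.property.2⟩
  let Q : QCoh (fibCat f η) := ⟨D.push N.obj, D.isQCoh_push N.property.1 N.property.2⟩
  have hkill : D.pushMap u.hom = 0 := by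
    have h₁ := hgen (M := P) (N := Q) (InducedCategory.homMk (D.pushMap u.hom)) (fun i φ =>
      D.comp_pushMap_eq_zero h (E i).obj u.hom M.property.1 N.property.1 N.property.2 (hu i) φ)
    have h₂ := congrArg InducedCategory.Hom.hom h₁
    exact h₂
  refine InducedCategory.hom_ext (eq_zero_of_affine (isFibGrpd_fibCat h f η') N.property.1 u.hom fun y hy m => ?_)
  haveI : IsAffine (sch (fibCat f η) ((fibComp f β).obj y)) := hy
  haveI := D.isAffine_pt ((fibComp f β).obj y)
  haveI := hy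
  refine induction_topMap M.property.1 M.property.2 (D.graph y) m
    (p := fun e => (u.hom.app y).app ⊤ e = 0) (map_zero _)
    (fun r a => ?_) (fun a b ha hb => by rw [map_add, ha, hb, add_zero])
  rw [Scheme.Modules.Hom.app_smul, ← Mod.mapTop_app]
  have h₀ : (u.hom.app (D.pt ((fibComp f β).obj y))).app ⊤ a = 0 :=
    congrArg (fun k : D.push M.obj ⟶ D.push N.obj => (k.app ((fibComp f β).obj y)).app ⊤ a) hkill
  rw [h₀, Mod.mapTop_zero, smul_zero]

end BcData

/-- Generation over an object gives generation over an object affine over it. -/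
theorem isGenFam_of_bc (h : FibCat.IsFibGrpd 𝒳.p) (h' : FibCat.IsFibGrpd 𝒴.p) (f : 𝒳 ⥤ᵇ 𝒴) {η' η : 𝒴.obj}
    (β : η' ⟶ η) [IsAffineHom (bmap 𝒴 β)] {ι : Type t} (E : ι → QCoh 𝒳)
    (hgen : IsGenFam (fun i => (comapQ (fibFst f η)).obj (E i))) :
    IsGenFam (fun i => (comapQ (fibFst f η')).obj (E i)) := by
  obtain ⟨D⟩ := nonempty_bcData h h' f β
  exact D.isGenFam_of_bcData h E hgen

end Groth.L23.RelGen
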