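import Groth.Agent.L23.RelGen.FibCat
import Groth.Agent.L23.RelGen.Transfer

/-!
# Generation over a terminal object of the target
-/

universe t w' v' w v u

open CategoryTheory CategoryTheory.Limits AlgebraicGeometry Opposite TopologicalSpace

set_option backward.isDefEq.respectTransparency false
set_option backward.isDefEq.respectTransparency.types false
set_option linter.style.haveILetI false
set_option linter.unusedSectionVars false

noncomputable section

namespace Groth.L23.RelGen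

open StMod

variable {S : Scheme.{u}} {𝒳 : BasedCategory.{v, w} (Over S)} {𝒴 : BasedCategory.{v', w'} (Over S)}

/-- The category with its unique maps to a terminal object. -/
def toTer (g : 𝒳 ⥤ᵇ 𝒴) (η : 𝒴.obj) (hter : ∀ y, Unique (y ⟶ η)) : 𝒳 ⥤ᵇ fibCat g η where
  toFunctor :=
    { obj := fun z => CostructuredArrow.mk (hter (g.obj z)).default
      map := fun {z z'} k => CostructuredArrow.homMk k (((hter (g.obj z)).uniq _).trans ((hter (g.obj z)).uniq _).symm)
      map_id := fun z => CostructuredArrow.hom_ext _ _ rfl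
      map_comp := fun k k' => CostructuredArrow.hom_ext _ _ rfl }
  w := rfl

theorem mapTop_toTer (g : 𝒳 ⥤ᵇ 𝒴) (η : 𝒴.obj) (hter : ∀ y, Unique (y ⟶ η)) (F : Mod (fibCat g η))
    {z' z : 𝒳.obj} (φ : z' ⟶ z) (m : Sec (Mod.comap (toTer g η hter) F) z) :
    (Mod.comap (toTer g η hter) F).mapTop φ m = F.mapTop ((toTer g η hter).map φ) m := by
  refine congrArg (fun k => Scheme.Modules.Hom.app k ⊤ m) ?_
  rw [Mod.comap_map]
  exact castMap_rfl_self _ _

/-- The identification of an object over a terminal object. -/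
def terIso (g : 𝒳 ⥤ᵇ 𝒴) (η : 𝒴.obj) (hter : ∀ y, Unique (y ⟶ η)) (x : (fibCat g η).obj) :
    (toTer g η hter).obj x.left ≅ x :=
  CostructuredArrow.isoMk (Iso.refl _) (((hter _).uniq _).trans ((hter _).uniq _).symm)

theorem terIso_natural (g : 𝒳 ⥤ᵇ 𝒴) (η : 𝒴.obj) (hter : ∀ y, Unique (y ⟶ η)) {x' x : (fibCat g η).obj}
    (s : x' ⟶ x) : (terIso g η hter x').hom ≫ s = (toTer g η hter).map s.left ≫ (terIso g η hter x).hom := by
  refine CostructuredArrow.hom_ext _ _ ?_
  show 𝟙 _ ≫ s.left = s.left ≫ 𝟙 _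
  rw [Category.id_comp, Category.comp_id]

theorem exists_ter_descend (hX : FibCat.IsFibGrpd 𝒳.p) (g : 𝒳 ⥤ᵇ 𝒴) (η : 𝒴.obj) (hter : ∀ y, Unique (y ⟶ η))
    (E : Mod 𝒳) (M : Mod (fibCat g η)) (hM : M.IsCartesian) (φ' : E ⟶ Mod.comap (toTer g η hter) M) :
    ∃ φ : Mod.comap (fibFst g η) E ⟶ M, ∀ (z : 𝒳.obj) (_ : IsAffine (sch (fibCat g η) ((toTer g η hter).obj z)))
      (m : Sec (Mod.comap (fibFst g η) E) ((toTer g η hter).obj z)),
        (φ.app ((toTer g η hter).obj z)).app ⊤ m = (φ'.app z).app ⊤ m := by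
  set Eη := Mod.comap (fibFst g η) E
  let Ψ := toTer g η hter
  let j := terIso g η hter
  let L : ∀ z, Sec Eη (Ψ.obj z) →ₗ[Fn (Ψ.obj z)] Sec M (Ψ.obj z) := fun z =>
    { toFun := fun m => (φ'.app z).app ⊤ m
      map_add' := fun a b => map_add _ a b
      map_smul' := fun r a => (φ'.app z).app_smul r a }
  have hL : ∀ {z' z} (k : z' ⟶ z), IsExt (Ψ.map k) (L z) (L z') := by
    intro z' z k m
    have h₁ := Mod.mapTop_app φ' k m
    have h₂ := mapTop_toTer g η hter M k ((φ'.app z).app ⊤ m)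
    have h₃ := mapTop_fibFst g η E (Ψ.map k) m
    exact ((congrArg (fun a => (φ'.app z').app ⊤ a) h₃).trans h₁.symm).trans h₂
  have hinv : ∀ x r, fnMap (j x).inv (fnMap (j x).hom r) = r := fun x r => by
    have := congrArg (fun t => fnMap t r) (j x).inv_hom_id
    rw [fnMap_comp] at this
    refine this.trans ?_
    show (bmap _ (𝟙 x)).appTop.hom r = r
    rw [bmap_id, Scheme.Hom.id_appTop]; rfl
  let θ : ∀ x, IsAffine (sch (fibCat g η) x) → (Sec Eη x →ₗ[Fn x] Sec M x) := fun x _ =>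
    { toFun := fun m => M.mapTop (j x).inv (L x.left (Eη.mapTop (j x).hom m))
      map_add' := fun a b => by rw [Mod.mapTop_add, map_add, Mod.mapTop_add]
      map_smul' := fun r a => by
        rw [Mod.mapTop_smul, map_smul, Mod.mapTop_smul]
        exact congrArg (· • _) (hinv x r) }
  obtain ⟨φ, hφ⟩ := exists_hom_of_affine (isFibGrpd_fibCat hX g η) hM θ fun x' x s _ _ m => by
    show M.mapTop (j x').inv (L x'.left (Eη.mapTop (j x').hom (Eη.mapTop s m))) =
      M.mapTop s (M.mapTop (j x).inv (L x.left (Eη.mapTop (j x).hom m)))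
    rw [← Mod.mapTop_comp Eη, terIso_natural g η hter s, Mod.mapTop_comp Eη, hL s.left, ← Mod.mapTop_comp,
      ← Mod.mapTop_comp]
    refine congrArg (fun a => M.mapTop a _) ?_
    rw [Iso.inv_comp_eq, ← Category.assoc, Iso.eq_comp_inv]
    exact (terIso_natural g η hter s).symm
  refine ⟨φ, fun z hz m => ?_⟩
  rw [hφ _ hz]
  have hj : (j (Ψ.obj z)).hom = 𝟙 _ := CostructuredArrow.hom_ext _ _ rfl
  have hj' : (j (Ψ.obj z)).inv = 𝟙 _ := CostructuredArrow.hom_ext _ _ rfl
  show M.mapTop _ (L _ (Eη.mapTop _ m)) = L z m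
  rw [hj, hj', Mod.mapTop_id, Mod.mapTop_id]
  rfl

/-- Generation on a category gives generation over a terminal object of the target. -/
theorem isGenFam_of_terminal (hX : FibCat.IsFibGrpd 𝒳.p) (g : 𝒳 ⥤ᵇ 𝒴) (η : 𝒴.obj) (hter : ∀ y, Unique (y ⟶ η))
    {ι : Type t} (E : ι → QCoh 𝒳) (hgen : IsGenFam E) :
    IsGenFam (fun i => (comapQ (fibFst g η)).obj (E i)) := by
  rw [isGenFam_iff] at hgen ⊢
  intro M N u hu
  have hz0 : ∀ (i : ι) (φ' : (E i).obj ⟶ Mod.comap (toTer g η hter) M.obj),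
      φ' ≫ Mod.comapMap (toTer g η hter) u.hom = 0 := by
    intro i φ'
    obtain ⟨φ, hφ⟩ := exists_ter_descend hX g η hter (E i).obj M.obj M.property.1 φ'
    refine eq_zero_of_affine hX (isCartesian_comap N.property.1) _ fun z hz m => ?_
    show (u.hom.app ((toTer g η hter).obj z)).app ⊤ ((φ'.app z).app ⊤ m) = 0
    rw [← hφ z hz m]
    exact congrArg (fun k : Mod.comap (fibFst g η) (E i).obj ⟶ N.obj =>
      (k.app ((toTer g η hter).obj z)).app ⊤ m) (hu i φ)
  have hkill : Mod.comapMap (toTer g η hter) u.hom = 0 := by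
    have h₁ := hgen ((comapQ (toTer g η hter)).map u) hz0
    have h₂ := congrArg InducedCategory.Hom.hom h₁
    exact h₂
  refine InducedCategory.hom_ext (eq_zero_of_affine (isFibGrpd_fibCat hX g η) N.property.1 u.hom fun x hx m => ?_)
  let j := terIso g η hter x
  have h₀ : N.obj.mapTop j.hom ((u.hom.app x).app ⊤ m) = 0 := by
    rw [Mod.mapTop_app]
    exact congrArg (fun k : Mod.comap (toTer g η hter) M.obj ⟶ Mod.comap (toTer g η hter) N.obj =>
      (k.app x.left).app ⊤ (M.obj.mapTop j.hom m)) hkill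
  rw [← Mod.mapTop_id N.obj x ((u.hom.app x).app ⊤ m), ← j.inv_hom_id, Mod.mapTop_comp, h₀, Mod.mapTop_zero]

end Groth.L23.RelGen
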