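import Groth.Agent.L23.RelGen.Family
import Groth.Agent.L23.RelGen.GenBC
import Groth.Agent.L23.RelGen.GenTerminal

/-!
# Relative generation from generation over a flat family of affine schemes
-/

universe u

open CategoryTheory CategoryTheory.Limits AlgebraicGeometry Opposite TopologicalSpace

set_option backward.isDefEq.respectTransparency false
set_option backward.isDefEq.respectTransparency.types false
set_option linter.style.haveILetI false
set_option linter.unusedSectionVars false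

noncomputable section

namespace Groth.L23.RelGen

open StMod Groth.L24.St

variable {S : Scheme.{u}} {𝒳 𝒴 : AlgSt.Cat S}

/-- Generation over the fibre product with an affine scheme gives generation over each of its affine objects. -/
theorem isGenFam_over_affine (h𝒳 : FibCat.IsFibGrpd 𝒳.p) (h𝒴 : FibCat.IsFibGrpd 𝒴.p) (f : 𝒳 ⥤ᵇ 𝒴) {T : Over S}
    [IsAffine T.left] (y : FibCat.overCat T ⥤ᵇ 𝒴) {ι : Type u} (E : ι → QCoh 𝒳)
    (hgen : IsGenFam (fun i => (comapQ (FibCat.fpFst f y)).obj (E i))) (t : (FibCat.overCat T).obj)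
    [IsAffine (sch (FibCat.overCat T) t)] :
    IsGenFam (fun i => (comapQ (fibFst f (y.obj t))).obj (E i)) := by
  let η₀ : (FibCat.overCat T).obj := Over.mk (𝟙 T)
  let β : t ⟶ η₀ := Over.homMk t.hom (Category.comp_id _)
  haveI : IsAffine (sch (FibCat.overCat T) η₀) := ‹IsAffine T.left›
  haveI : IsAffineHom (bmap (FibCat.overCat T) β) := inferInstance
  have hfp := Groth.L09.Fib.fp_isFibGrpd (F := f) (G := y) h𝒳 (overCat_isFibGrpd T) h𝒴
  refine isGenFam_of_fpSnd h𝒳 h𝒴 (overCat_isFibGrpd T) f y t E ?_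
  refine isGenFam_of_bc hfp (overCat_isFibGrpd T) (FibCat.fpSnd f y) β _ ?_
  exact isGenFam_of_terminal hfp (FibCat.fpSnd f y) η₀
    (fun z => ⟨⟨Over.homMk (show Over T from z).hom (Category.comp_id _)⟩, fun k => Over.OverMorphism.ext (by
      have := Over.w k
      simpa [η₀] using this)⟩) _ hgen

/-- Generation over the fibre products with a jointly surjective flat family of affine schemes gives relative
generation. -/
theorem isRelGenFam_of_affine_family (h𝒳 : AlgSt.IsAlgStack Scheme.fppfPrecoverage 𝒳)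
    (h𝒴 : AlgSt.IsAlgStack Scheme.fppfPrecoverage 𝒴) (f : 𝒳 ⥤ᵇ 𝒴)
    (hfqc : AlgSt.IsQuasiCompactMor Scheme.fppfPrecoverage f) (hfqs : AlgSt.IsQuasiSeparatedMor f)
    {ι : Type u} (E : ι → QCoh 𝒳) (hE : ∀ i, (E i).obj.IsFinPres)
    {A : Type u} (T : A → Over S) (hT : ∀ a, IsAffine (T a).left)
    (y : ∀ a, FibCat.overCat (T a) ⥤ᵇ 𝒴) (hfl : ∀ a, AlgSt.RepByAlgSpWith (AlgSp.LocP @Flat) (y a))
    (hsurj : ∀ p : AlgSt.Points 𝒴, ∃ (a : A) (t : (T a).left), AlgSt.Points.ofChart (y a) t = p)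
    (hgen : ∀ a, IsGenFam (fun i => (comapQ (FibCat.fpFst f (y a))).obj (E i))) :
    IsRelGenFam f E := by
  intro η hη
  obtain ⟨𝒲, h𝒲⟩ := exists_flat_cover h𝒴.isStack.1 y hfl hsurj η
  obtain ⟨At⟩ := exists_atlas h𝒳 h𝒴 f hfqc hfqs η
  refine isGenFam_of_flat_cover h𝒳.isStack.1 h𝒴.isStack.1 At E hE 𝒲 fun l => ?_
  obtain ⟨a, t, e⟩ := h𝒲 l
  rw [e]
  haveI : IsAffine (sch 𝒴 ((y a).obj t)) := e ▸ 𝒲.affine l
  haveI : IsAffine (sch (FibCat.overCat (T a)) t) := IsAffine.of_isIso (eqToHom (sch_obj_eq (y a) t).symm)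
  haveI := hT a
  exact isGenFam_over_affine h𝒳.isStack.1 h𝒴.isStack.1 f (y a) E (hgen a) t

end Groth.L23.RelGen
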