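import Groth.Prelude.Def_StMod6
import Groth.Agent.L16.AffineBC.Pullback
import Groth.Agent.L16.AffineBC.Local
import Groth.Agent.L27.Assoc.Res

/-!
# Sections of quasi-coherent modules on a category over schemes at affine objects
-/

universe w v u

open CategoryTheory CategoryTheory.Limits AlgebraicGeometry Opposite TopologicalSpace
open scoped TensorProduct

set_option backward.isDefEq.respectTransparency false
set_option backward.isDefEq.respectTransparency.types false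
set_option linter.style.haveILetI false
set_option linter.unusedSectionVars false

noncomputable section

namespace Groth.L23.RelGen

open StMod
open Groth.L18.Frame (rs ro rs_rs rs_self rs_smul pull pull_rs pull_smul)
open Groth.L17.BC.PullSec (app_rs)

variable {S : Scheme.{u}} {𝒳 : BasedCategory.{v, w} (Over S)}

/-- Global sections over an object. -/
abbrev Sec (F : Mod 𝒳) (x : 𝒳.obj) : Type u := ↥Γ(F.obj x, ⊤)

/-- Functions on the scheme of an object. -/
abbrev Fn (x : 𝒳.obj) : Type u := ↥Γ(sch 𝒳 x, ⊤)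

/-- The map on functions along a morphism. -/
abbrev fnMap {x' x : 𝒳.obj} (φ : x' ⟶ x) : Fn x →+* Fn x' := (bmap 𝒳 φ).appTop.hom

theorem fnMap_comp {x'' x' x : 𝒳.obj} (ψ : x'' ⟶ x') (φ : x' ⟶ x) :
    fnMap (ψ ≫ φ) = (fnMap ψ).comp (fnMap φ) := by
  unfold fnMap
  rw [bmap_comp, Scheme.Hom.comp_appTop, CommRingCat.hom_comp]

/-- The comparison map on global sections as a semilinear map. -/
def topMap (F : Mod 𝒳) {x' x : 𝒳.obj} (φ : x' ⟶ x) : Sec F x →ₛₗ[fnMap φ] Sec F x' where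
  toFun m := F.mapTop φ m
  map_add' := F.mapTop_add φ
  map_smul' := F.mapTop_smul φ

@[simp] theorem topMap_apply (F : Mod 𝒳) {x' x : 𝒳.obj} (φ : x' ⟶ x) (m : Sec F x) :
    topMap F φ m = F.mapTop φ m := rfl

variable {F : Mod 𝒳}

/-- The isomorphism adjoint to a comparison map. -/
def cmpIso (hF : F.IsCartesian) {x' x : 𝒳.obj} (φ : x' ⟶ x) :
    (Scheme.Modules.pullback (bmap 𝒳 φ)).obj (F.obj x) ≅ F.obj x' :=
  haveI := hF φ rfl
  asIso (((Scheme.Modules.pullbackPushforwardAdjunction (bmap 𝒳 φ)).homEquiv (F.obj x) (F.obj x')).symm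
    (F.map φ rfl))

theorem map_app_eq (hF : F.IsCartesian) {x' x : 𝒳.obj} (φ : x' ⟶ x) (U : (sch 𝒳 x).Opens) (m : Γ(F.obj x, U)) :
    (F.map φ rfl).app U m = (cmpIso hF φ).hom.app (bmap 𝒳 φ ⁻¹ᵁ U) (pull (bmap 𝒳 φ) (F.obj x) U m) := by
  have h : (Scheme.Modules.pullbackPushforwardAdjunction (bmap 𝒳 φ)).homEquiv (F.obj x) (F.obj x')
      (cmpIso hF φ).hom = F.map φ rfl := Equiv.apply_symm_apply _ _
  conv_lhs => rw [← h, Adjunction.homEquiv_unit]
  rfl

theorem cmpIso_bijective (hF : F.IsCartesian) {x' x : 𝒳.obj} (φ : x' ⟶ x) (V : (sch 𝒳 x').Opens) :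
    Function.Bijective ((cmpIso hF φ).hom.app V) :=
  Function.bijective_iff_has_inverse.2 ⟨fun s => (cmpIso hF φ).inv.app V s,
    fun s => congr($(congrArg (fun k => Scheme.Modules.Hom.app k V) (cmpIso hF φ).hom_inv_id) s),
    fun s => congr($(congrArg (fun k => Scheme.Modules.Hom.app k V) (cmpIso hF φ).inv_hom_id) s)⟩

/-- The comparison map between affine objects is a base change. -/
theorem isBaseChange_topMap (hF : F.IsCartesian) (hq : F.IsLocQCoh) {x' x : 𝒳.obj} (φ : x' ⟶ x)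
    [IsAffine (sch 𝒳 x')] [IsAffine (sch 𝒳 x)] :
    letI := (fnMap φ).toAlgebra
    letI := Module.compHom (Sec F x') (fnMap φ)
    haveI : IsScalarTower (Fn x) (Fn x') (Sec F x') := IsScalarTower.of_algebraMap_smul fun _ _ => rfl
    IsBaseChange (Fn x') ({ toFun := F.mapTop φ, map_add' := F.mapTop_add φ, map_smul' := F.mapTop_smul φ } :
      Sec F x →ₗ[Fn x] Sec F x') := by
  haveI := hq x
  set g := bmap 𝒳 φ
  set P := (Scheme.Modules.pullback g).obj (F.obj x)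
  have key : ∀ (σ : Γ(sch 𝒳 x, (⊤ : (sch 𝒳 x).Opens)) →+* Γ(sch 𝒳 x', (⊤ : (sch 𝒳 x').Opens)))
      (hσ : σ = (g.appLE ⊤ ⊤ le_top).hom),
      letI := σ.toAlgebra
      letI := Module.compHom Γ(P, (⊤ : (sch 𝒳 x').Opens)) σ
      haveI : IsScalarTower Γ(sch 𝒳 x, ⊤) Γ(sch 𝒳 x', ⊤) Γ(P, (⊤ : (sch 𝒳 x').Opens)) :=
        IsScalarTower.of_algebraMap_smul fun _ _ => rfl
      ∃ l : Γ(F.obj x, ⊤) →ₗ[Γ(sch 𝒳 x, ⊤)] Γ(P, (⊤ : (sch 𝒳 x').Opens)),
        IsBaseChange Γ(sch 𝒳 x', ⊤) l ∧ ∀ m, l m = rs P (le_top : (⊤ : (sch 𝒳 x').Opens) ≤ g ⁻¹ᵁ ⊤) (pull g (F.obj x) ⊤ m) := by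
    rintro σ rfl
    exact ⟨_, Groth.L16.AffineBC.isBaseChange_pull g (F.obj x) (isAffineOpen_top _) (isAffineOpen_top _)
      le_top, fun _ => rfl⟩
  obtain ⟨l, hl, hl'⟩ := key (fnMap φ) (congrArg CommRingCat.Hom.hom (Scheme.Hom.app_eq_appLE g (U := ⊤)))
  letI := (fnMap φ).toAlgebra
  letI := Module.compHom (Sec F x') (fnMap φ)
  haveI : IsScalarTower (Fn x) (Fn x') (Sec F x') := IsScalarTower.of_algebraMap_smul fun _ _ => rfl
  letI := Module.compHom Γ(P, (⊤ : (sch 𝒳 x').Opens)) (fnMap φ)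
  haveI : IsScalarTower (Fn x) (Fn x') Γ(P, (⊤ : (sch 𝒳 x').Opens)) :=
    IsScalarTower.of_algebraMap_smul fun _ _ => rfl
  let e : Γ(P, (⊤ : (sch 𝒳 x').Opens)) ≃ₗ[Fn x'] Sec F x' :=
    LinearEquiv.ofBijective
      { toFun := fun s => (cmpIso hF φ).hom.app ⊤ s
        map_add' := fun a b => map_add _ a b
        map_smul' := fun r s => (cmpIso hF φ).hom.app_smul r s }
      (cmpIso_bijective hF φ ⊤)
  refine IsBaseChange.of_equiv (hl.equiv ≪≫ₗ e) fun m => ?_
  rw [LinearEquiv.trans_apply, IsBaseChange.equiv_tmul, one_smul, hl']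
  show (cmpIso hF φ).hom.app ⊤ (rs P le_top (pull g (F.obj x) ⊤ m)) = F.mapTop φ m
  rw [Mod.mapTop, map_app_eq hF φ ⊤ m]
  exact congrArg _ (rs_self _ _ _)

/-- The image of a comparison map between affine objects spans. -/
theorem induction_topMap (hF : F.IsCartesian) (hq : F.IsLocQCoh) {x' x : 𝒳.obj} (φ : x' ⟶ x)
    [IsAffine (sch 𝒳 x')] [IsAffine (sch 𝒳 x)] {p : Sec F x' → Prop} (m : Sec F x') (h0 : p 0)
    (hm : ∀ (r : Fn x') (a : Sec F x), p (r • F.mapTop φ a)) (hadd : ∀ a b, p a → p b → p (a + b)) : p m := by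
  letI := (fnMap φ).toAlgebra
  letI := Module.compHom (Sec F x') (fnMap φ)
  haveI : IsScalarTower (Fn x) (Fn x') (Sec F x') := IsScalarTower.of_algebraMap_smul fun _ _ => rfl
  have hb := isBaseChange_topMap hF hq φ
  suffices h : ∀ r : Fn x', p (r • m) by simpa using h 1
  refine hb.inductionOn m (fun n => ∀ r : Fn x', p (r • n)) ?_ ?_ ?_ ?_
  · intro r; rw [smul_zero]; exact h0
  · intro a r; exact hm r a
  · intro c n hn r; rw [smul_smul]; exact hn _
  · intro n₁ n₂ h₁ h₂ r; rw [smul_add]; exact hadd _ _ (h₁ r) (h₂ r)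

end Groth.L23.RelGen
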