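import Groth.Agent.L19.QCohFpqc.Sx
import Mathlib.RingTheory.IsTensorProduct
import Mathlib.RingTheory.Flat.Basic
import Mathlib.LinearAlgebra.TensorProduct.Pi

/-!
# Algebra of base changes along commutative squares and flat families
-/

universe u

open scoped TensorProduct

set_option autoImplicit false
set_option linter.style.haveILetI false
set_option linter.unusedSectionVars false

noncomputable section

namespace Groth.L23.RelGen

variable {R R' : Type u} [CommRing R] [CommRing R'] [Algebra R R']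

/-- Base change along a composite of two squares. -/
theorem exists_bc_trans {V B : Type u} [CommRing V] [CommRing B] [Algebra R V] [Algebra R' B] [Algebra V B]
    (hcomm : ∀ r, algebraMap R' B (algebraMap R R' r) = algebraMap V B (algebraMap R V r))
    {M : Type u} [AddCommGroup M] [Module R M] {N : Type u} [AddCommGroup N] [Module V N]
    {G : Type u} [AddCommGroup G] [Module B G] (f : M → N) (E₁ : V ⊗[R] M ≃+ N)
    (hE₁ : ∀ r m, E₁ (r ⊗ₜ m) = r • f m) (g : N → G) (hg : ∀ (r : V) n, g (r • n) = algebraMap V B r • g n)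
    (E₂ : B ⊗[V] N ≃+ G) (hE₂ : ∀ b n, E₂ (b ⊗ₜ n) = b • g n) :
    ∃ E : B ⊗[R'] (R' ⊗[R] M) ≃+ G, ∀ b r m, E (b ⊗ₜ (r ⊗ₜ m)) = (b * algebraMap R' B r) • g (f m) := by
  letI : Algebra R B := ((algebraMap R' B).comp (algebraMap R R')).toAlgebra
  haveI : IsScalarTower R R' B := IsScalarTower.of_algebraMap_eq fun _ => rfl
  haveI : IsScalarTower R V B := IsScalarTower.of_algebraMap_eq fun r => hcomm r
  let E₁' : V ⊗[R] M ≃ₗ[V] N :=
    { E₁ with
      map_smul' := fun c t => by
        show E₁ (c • t) = c • E₁ t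
        induction t using TensorProduct.induction_on with
        | zero => simp
        | tmul r m => rw [TensorProduct.smul_tmul', hE₁, hE₁, smul_eq_mul, mul_smul]
        | add a b ha hb => rw [smul_add, map_add, map_add, ha, hb, smul_add] }
  let e₀ := (TensorProduct.AlgebraTensorModule.cancelBaseChange R R' B B M)
  let e₁ := (TensorProduct.AlgebraTensorModule.cancelBaseChange R V B B M).symm
  let e₂ : B ⊗[V] (V ⊗[R] M) ≃ₗ[V] B ⊗[V] N := LinearEquiv.lTensor B E₁'
  refine ⟨(e₀.toAddEquiv.trans e₁.toAddEquiv).trans (e₂.toAddEquiv.trans E₂), fun b r m => ?_⟩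
  show E₂ (e₂ (e₁ (e₀ (b ⊗ₜ (r ⊗ₜ m))))) = _
  simp only [e₀, e₁, TensorProduct.AlgebraTensorModule.cancelBaseChange_tmul,
    TensorProduct.AlgebraTensorModule.cancelBaseChange_symm_tmul]
  show E₂ ((r • b) ⊗ₜ E₁ (1 ⊗ₜ m)) = _
  rw [hE₂, hE₁, one_smul, Algebra.smul_def, mul_comm]

/-- A linear map that becomes bijective on a jointly faithfully flat family is bijective. -/
theorem bijective_of_descent {κ : Type*} (B : κ → Type u) [∀ l, CommRing (B l)] [∀ l, Algebra R (B l)]
    [∀ l, Module.Flat R (B l)]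
    (hB : ∀ p : PrimeSpectrum R, ∃ l, p ∈ Set.range (PrimeSpectrum.comap (algebraMap R (B l))))
    {N P : Type u} [AddCommGroup N] [Module R N] [AddCommGroup P] [Module R P] (f : N →ₗ[R] P)
    (G : κ → Type u) [∀ l, AddCommGroup (G l)] (E₁ : ∀ l, B l ⊗[R] N ≃+ G l) (E₂ : ∀ l, B l ⊗[R] P ≃+ G l)
    (h : ∀ l b n, E₂ l (b ⊗ₜ f n) = E₁ l (b ⊗ₜ n)) : Function.Bijective f := by
  have hl : ∀ l t, E₂ l (f.lTensor (B l) t) = E₁ l t := fun l t => by
    induction t using TensorProduct.induction_on with
    | zero => simp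
    | tmul b n => rw [LinearMap.lTensor_tmul, h]
    | add a c ha hc => simp only [map_add, ha, hc]
  refine ⟨(injective_iff_map_eq_zero f).2 fun n hn => ?_, fun p => ?_⟩
  · refine Groth.L19.QCohFpqc.eq_zero_of_forall B hB n fun l => (E₁ l).injective ?_
    rw [← h, hn, TensorProduct.tmul_zero, map_zero, map_zero]
  · have hq : Submodule.Quotient.mk p = (0 : P ⧸ LinearMap.range f) := by
      refine Groth.L19.QCohFpqc.eq_zero_of_forall B hB _ fun l => ?_
      obtain ⟨t, ht⟩ := (E₁ l).surjective (E₂ l (1 ⊗ₜ p))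
      have e : f.lTensor (B l) t = (1 : B l) ⊗ₜ p := (E₂ l).injective ((hl l t).trans ht)
      rw [show (Submodule.Quotient.mk p : P ⧸ LinearMap.range f) = (LinearMap.range f).mkQ p from rfl,
        ← LinearMap.lTensor_tmul, ← e, ← LinearMap.comp_apply, ← LinearMap.lTensor_comp, LinearMap.range_mkQ_comp,
        LinearMap.lTensor_zero, LinearMap.zero_apply]
    exact (Submodule.Quotient.mk_eq_zero _).1 hq

/-- Base change of a kernel along a flat map, tested on the factors of products. -/
theorem range_of_flat [Module.Flat R R'] {ι κ : Type*} [Fintype ι] [DecidableEq ι] [Fintype κ] [DecidableEq κ]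
    {A : ι → Type u} [∀ i, AddCommGroup (A i)] [∀ i, Module R (A i)]
    {B : κ → Type u} [∀ k, AddCommGroup (B k)] [∀ k, Module R (B k)]
    {A' : ι → Type u} [∀ i, AddCommGroup (A' i)] {B' : κ → Type u} [∀ k, AddCommGroup (B' k)]
    (eA : ∀ i, R' ⊗[R] A i ≃+ A' i) (eB : ∀ k, R' ⊗[R] B k ≃+ B' k)
    {M : Type u} [AddCommGroup M] [Module R M] (j : M →ₗ[R] ∀ i, A i) (hj : Function.Injective j)
    (s t : κ → ι) (σ : ∀ k, A (s k) →ₗ[R] B k) (τ : ∀ k, A (t k) →ₗ[R] B k)
    (hM : ∀ a : ∀ i, A i, (∀ k, σ k (a (s k)) = τ k (a (t k))) ↔ a ∈ LinearMap.range j)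
    (σ' : ∀ k, A' (s k) → B' k) (τ' : ∀ k, A' (t k) → B' k)
    (hσ : ∀ k x, eB k ((σ k).lTensor R' x) = σ' k (eA (s k) x))
    (hτ : ∀ k x, eB k ((τ k).lTensor R' x) = τ' k (eA (t k) x)) :
    (∀ m : R' ⊗[R] M, (∀ i, eA i (((LinearMap.proj i).comp j).lTensor R' m) = 0) → m = 0) ∧
    ∀ y : ∀ i, A' i, (∀ k, σ' k (y (s k)) = τ' k (y (t k))) →
      ∃ m : R' ⊗[R] M, ∀ i, eA i (((LinearMap.proj i).comp j).lTensor R' m) = y i := by
  let D : (∀ i, A i) →ₗ[R] ∀ k, B k :=
    LinearMap.pi fun k => (σ k).comp (LinearMap.proj (s k)) - (τ k).comp (LinearMap.proj (t k))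
  have hex : Function.Exact j D := fun a => by
    refine Iff.trans ?_ ((hM a).trans LinearMap.mem_range)
    simp only [D, funext_iff, LinearMap.pi_apply, LinearMap.sub_apply, LinearMap.comp_apply, LinearMap.proj_apply,
      Pi.zero_apply, sub_eq_zero]
  have hproj : ∀ (a : R' ⊗[R] (∀ i, A i)) i,
      TensorProduct.piRight R R R' A a i = (LinearMap.proj i : (∀ i, A i) →ₗ[R] A i).lTensor R' a := fun a i => by
    induction a using TensorProduct.induction_on with
    | zero => simp
    | tmul r f => simp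
    | add a c ha hc => simp only [map_add, Pi.add_apply, ha, hc]
  refine ⟨fun m hm => ?_, fun y hy => ?_⟩
  · refine Module.Flat.lTensor_preserves_injective_linearMap j hj ?_
    rw [map_zero]
    refine (TensorProduct.piRight R R R' A).injective ?_
    funext i
    rw [hproj, map_zero, Pi.zero_apply, ← LinearMap.comp_apply, ← LinearMap.lTensor_comp]
    exact (eA i).injective ((hm i).trans (map_zero _).symm)
  · let a : R' ⊗[R] (∀ i, A i) := (TensorProduct.piRight R R R' A).symm fun i => (eA i).symm (y i)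
    have ha : ∀ i, eA i ((LinearMap.proj i : (∀ i, A i) →ₗ[R] A i).lTensor R' a) = y i := fun i => by
      rw [← hproj, LinearEquiv.apply_symm_apply, AddEquiv.apply_symm_apply]
    have hD : D.lTensor R' a = 0 := by
      refine (TensorProduct.piRight R R R' B).injective ?_
      funext k
      have e : ∀ b, (TensorProduct.piRight R R R' B (D.lTensor R' b)) k =
          (σ k).lTensor R' ((LinearMap.proj (s k) : (∀ i, A i) →ₗ[R] A (s k)).lTensor R' b) -
            (τ k).lTensor R' ((LinearMap.proj (t k) : (∀ i, A i) →ₗ[R] A (t k)).lTensor R' b) := fun b => by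
        induction b using TensorProduct.induction_on with
        | zero => simp
        | tmul r f => simp [D, TensorProduct.tmul_sub]
        | add b c hb hc => simp only [map_add, Pi.add_apply, hb, hc]; abel
      rw [e, map_zero, Pi.zero_apply, sub_eq_zero]
      refine (eB k).injective ?_
      rw [hσ, hτ, ha, ha]
      exact hy k
    obtain ⟨m, hm⟩ := (Module.Flat.lTensor_exact R' hex a).1 hD
    refine ⟨m, fun i => ?_⟩
    rw [LinearMap.lTensor_comp, LinearMap.comp_apply, hm, ha]

end Groth.L23.RelGen
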