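import Groth.Agent.L23.RelGen.AtlasExists
import Groth.Agent.L09.FieldPt.Basic

/-!
# Lifting pairs of morphisms into a chart to a chart of the overlaps
-/

universe u

open CategoryTheory CategoryTheory.Limits AlgebraicGeometry Opposite TopologicalSpace

set_option backward.isDefEq.respectTransparency false
set_option backward.isDefEq.respectTransparency.types false
set_option linter.style.haveILetI false
set_option linter.unusedSectionVars false

noncomputable section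

namespace Groth.L23.RelGen

open StMod Groth.L24.St
open Groth.L19.QCohFpqc (IsCov)

variable {S : Scheme.{u}} {𝒬 : AlgSt.Cat S}

/-- The projection of an overlap to a chart is flat. -/
theorem flat_chart_proj {U W : Over S} {c : FibCat.overCat W ⥤ᵇ 𝒬} {P : 𝒬 ⥤ᵇ FibCat.overCat U}
    (h : FibCat.IsFibGrpd 𝒬.p) (hc : AlgSt.RepByAlgSpWith (AlgSp.LocP @Flat) c)
    (hP : AlgSt.RepByAlgSpWith (AlgSp.LocP @Flat) P) : Flat (P.obj (c.obj (idObj W))).hom.left := by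
  obtain ⟨k, ⟨i⟩, -⟩ := exists_overMap_iso (BasedFunctor.comp c P)
  haveI : Flat k.left := L09.FieldPt.prop_of_repWith_overMap Groth.L23.etLocal_flat
    ((repWith_congr i).1 (repWith_comp_locP Groth.L23.etLocal_flat (overCat_isFibGrpd W) h hc hP))
  let e : (BasedFunctor.comp c P).obj (idObj W) ≅ (AlgSt.overMap k).obj (idObj W) :=
    (BasedNatTrans.forgetful _ _).mapIso i |>.app (idObj W)
  haveI : IsIso e.hom.left.left :=
    inferInstanceAs (IsIso ((Over.forget S).map ((Over.forget U).map e.hom)))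
  have hw : e.hom.left.left ≫ (((AlgSt.overMap k).obj (idObj W)).hom).left =
      (P.obj (c.obj (idObj W))).hom.left := congrArg (fun a => a.left) (Over.w e.hom)
  rw [← hw]
  haveI : Flat (((AlgSt.overMap k).obj (idObj W)).hom).left := by
    show Flat (𝟙 W ≫ k).left
    rw [Category.id_comp]; infer_instance
  infer_instance

/-- A morphism into the value of a chart at its scheme factors through the value at an object over it. -/
theorem exists_terminal_lift (h : FibCat.IsFibGrpd 𝒬.p) {U : Over S} (x : FibCat.overCat U ⥤ᵇ 𝒬) {z : 𝒬.obj}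
    (r : z ⟶ x.obj (idObj U)) :
    ∃ (t : 𝒬.p.obj z ⟶ U) (φ : z ⟶ x.obj (Over.mk t)),
      IsIso φ ∧ (∃ e, 𝒬.p.map φ = eqToHom e) ∧ φ ≫ x.map (L09.Fib.toTerm (Over.mk t)) = r := by
  let t : 𝒬.p.obj z ⟶ U := 𝒬.p.map r ≫ eqToHom (x.w_obj (idObj U))
  have hfac : eqToHom (x.w_obj (Over.mk t)).symm ≫
      𝒬.p.map (x.map (L09.Fib.toTerm (Over.mk t))) = 𝒬.p.map r := by
    haveI := (BasedFunctor.isHomLift_iff x ((FibCat.overCat U).p.map (L09.Fib.toTerm (Over.mk t)))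
      (L09.Fib.toTerm (Over.mk t))).2 (IsHomLift.map _ _)
    rw [IsHomLift.fac' 𝒬.p ((FibCat.overCat U).p.map (L09.Fib.toTerm (Over.mk t)))
      (x.map (L09.Fib.toTerm (Over.mk t)))]
    rw [eqToHom_trans_assoc, eqToHom_refl, Category.id_comp]
    show (𝒬.p.map r ≫ eqToHom _) ≫ eqToHom _ = _
    rw [Category.assoc, eqToHom_trans, eqToHom_refl, Category.comp_id]
  obtain ⟨φ, ⟨hφ, hφ'⟩, -⟩ := existsUnique_factor h r (x.map (L09.Fib.toTerm (Over.mk t))) _ hfac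
  haveI : IsIso (𝒬.p.map φ) := by rw [hφ]; infer_instance
  haveI := h.isStronglyCartesian φ
  exact ⟨t, φ, Functor.IsStronglyCartesian.isIso_of_base_isIso 𝒬.p (𝒬.p.map φ) φ, ⟨_, hφ⟩, hφ'⟩

/-- An affine object with two morphisms to a chart gives an affine object of the overlaps. -/
theorem exists_overlap (h : FibCat.IsFibGrpd 𝒬.p) {U : Over S} (x : FibCat.overCat U ⥤ᵇ 𝒬) {z : 𝒬.obj}
    [IsAffine (sch 𝒬 z)] (p q : z ⟶ x.obj (idObj U)) :
    ∃ (s : (FibCat.fp x x).obj) (φ : z ⟶ x.obj s.obj.fst), IsIso φ ∧ (∃ e, 𝒬.p.map φ = eqToHom e) ∧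
      φ ≫ x.map (L09.Fib.toTerm s.obj.fst) = p ∧
      φ ≫ s.obj.iso.hom ≫ x.map (L09.Fib.toTerm s.obj.snd) = q ∧ IsAffine (sch (FibCat.fp x x) s) := by
  obtain ⟨t₁, φ₁, hi₁, ⟨e₁, he₁⟩, hφ₁⟩ := exists_terminal_lift h x p
  obtain ⟨t₂, φ₂, hi₂, ⟨e₂, he₂⟩, hφ₂⟩ := exists_terminal_lift h x q
  have hprop : 𝒬.p.IsHomLift (𝟙 ((FibCat.overCat U).p.obj (Over.mk t₁))) (inv φ₁ ≫ φ₂) := by
    refine IsHomLift.of_fac _ _ _ (x.w_obj _) (x.w_obj _) ?_
    have h₁ : 𝒬.p.map (inv φ₁) = eqToHom e₁.symm := by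
      rw [Functor.map_inv]
      exact IsIso.inv_eq_of_hom_inv_id (by rw [he₁, eqToHom_trans, eqToHom_refl])
    rw [Functor.map_comp, h₁, he₂]
    simp only [eqToHom_trans]
    rfl
  refine ⟨⟨{ fst := Over.mk t₁, snd := Over.mk t₂, iso := (asIso φ₁).symm ≪≫ asIso φ₂ }, hprop⟩, φ₁, hi₁,
    ⟨e₁, he₁⟩, hφ₁, ?_, ‹IsAffine (sch 𝒬 z)›⟩
  show φ₁ ≫ (inv φ₁ ≫ φ₂) ≫ _ = _
  rw [Category.assoc, IsIso.hom_inv_id_assoc, hφ₂]

/-- An affine object of a chart gives an affine object of the stack. -/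
theorem isAffine_chart {U : Over S} (x : FibCat.overCat U ⥤ᵇ 𝒬) (t : (FibCat.overCat U).obj)
    (h : IsAffine (sch (FibCat.overCat U) t)) : IsAffine (sch 𝒬 (x.obj t)) :=
  IsAffine.of_isIso (eqToHom (sch_obj_eq x t))

/-- Covers of an overlap give covers of the object. -/
theorem isCov_overlap {U : Over S} (x : FibCat.overCat U ⥤ᵇ 𝒬) {z : 𝒬.obj} {s : (FibCat.fp x x).obj}
    (φ : z ⟶ x.obj s.obj.fst) [IsIso φ] (he : ∃ e, 𝒬.p.map φ = eqToHom e) {κ : Type} {y : κ → (FibCat.fp x x).obj}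
    (m : ∀ l, y l ⟶ s) (hm : IsCov (fun l => bmap (FibCat.fp x x) (m l))) :
    IsCov (fun l => bmap 𝒬 (x.map (m l).hom.fst ≫ inv φ)) := by
  obtain ⟨e, he⟩ := he
  haveI : IsIso (bmap 𝒬 φ) := by
    show IsIso (𝒬.p.map φ).left
    rw [he]; infer_instance
  refine isCov_conj hm (fun l => eqToHom (sch_obj_eq x (y l).obj.fst))
    (bmap 𝒬 φ ≫ eqToHom (sch_obj_eq x s.obj.fst)) fun l => ?_
  rw [← Category.assoc, ← bmap_comp, Category.assoc, IsIso.inv_hom_id, Category.comp_id]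
  exact bmap_map_comm x (m l).hom.fst rfl

/-- Pairs of morphisms to a chart lift to a chart of the overlaps, locally on finitely many affines. -/
theorem exists_pairs_cover (h : FibCat.IsFibGrpd 𝒬.p) {U : Over S} (x : FibCat.overCat U ⥤ᵇ 𝒬)
    (hR : FibCat.IsFibGrpd (FibCat.fp x x).p) {W : Over S} (c : FibCat.overCat W ⥤ᵇ FibCat.fp x x)
    (hcflp : AlgSt.RepByAlgSpWith L09.Artin.Res.FLP c) (hcs : AlgSt.RepByAlgSpWith AlgSp.IsSurjectiveMor c)
    (z : 𝒬.obj) [IsAffine (sch 𝒬 z)] (p q : z ⟶ x.obj (idObj U)) :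
    ∃ (n : ℕ) (o : Fin n → 𝒬.obj) (m : ∀ l, o l ⟶ z) (k : ∀ l, o l ⟶ x.obj (c.obj (idObj W)).obj.fst),
      (∀ l, IsAffine (sch 𝒬 (o l))) ∧ IsCov (fun l => bmap 𝒬 (m l)) ∧
      ∀ l, k l ≫ x.map (L09.Fib.toTerm (c.obj (idObj W)).obj.fst) = m l ≫ p ∧
        k l ≫ (c.obj (idObj W)).obj.iso.hom ≫ x.map (L09.Fib.toTerm (c.obj (idObj W)).obj.snd) = m l ≫ q := by
  obtain ⟨s, φ, hφ, he, hp, hq, hs⟩ := exists_overlap h x p q
  haveI := hs
  obtain ⟨n, t, m, hm, hm'⟩ := exists_chart_cover hR hcflp hcs s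
  let μ : ∀ l, c.obj (t l) ⟶ c.obj (idObj W) := fun l => c.map (L09.Fib.toTerm (t l))
  refine ⟨n, fun l => x.obj (c.obj (t l)).obj.fst, fun l => x.map (m l).hom.fst ≫ inv φ,
    fun l => x.map (μ l).hom.fst, fun l => isAffine_chart x _ (hm l), isCov_overlap x φ he m hm', fun l => ⟨?_, ?_⟩⟩
  · rw [← hp, Category.assoc, IsIso.inv_hom_id_assoc, ← x.toFunctor.map_comp, ← x.toFunctor.map_comp]
    exact congrArg x.map (Over.OverMorphism.ext ((Over.w _).trans (Over.w _).symm))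
  · rw [← hq, Category.assoc, IsIso.inv_hom_id_assoc, reassoc_of% (μ l).hom.w, reassoc_of% (m l).hom.w,
      ← x.toFunctor.map_comp, ← x.toFunctor.map_comp]
    exact congrArg (fun a => (c.obj (t l)).obj.iso.hom ≫ x.map a)
      (Over.OverMorphism.ext ((Over.w _).trans (Over.w _).symm))

/-- A morphism into a chart object factors through a morphism of the chart. -/
theorem exists_chart_factor (h : FibCat.IsFibGrpd 𝒬.p) {U : Over S} (x : FibCat.overCat U ⥤ᵇ 𝒬)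
    {a b : (FibCat.overCat U).obj} (t : x.obj a ⟶ x.obj b)
    (ht : t ≫ x.map (L09.Fib.toTerm b) = x.map (L09.Fib.toTerm a)) : ∃ k : a ⟶ b, x.map k = t := by
  have hmap : ∀ {a b : (FibCat.overCat U).obj} (c : a ⟶ b), 𝒬.p.map (x.map c) =
      eqToHom (x.w_obj a) ≫ c.left ≫ eqToHom (x.w_obj b).symm := fun c =>
    IsHomLift.fac' 𝒬.p ((FibCat.overCat U).p.map c) (x.map c)
  let q : a.left ⟶ b.left := eqToHom (x.w_obj a).symm ≫ 𝒬.p.map t ≫ eqToHom (x.w_obj b)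
  have hq : q ≫ b.hom = a.hom := by
    have h₂ := congrArg 𝒬.p.map ht
    rw [Functor.map_comp, hmap, hmap, ← Category.assoc, ← Category.assoc, ← Category.assoc (eqToHom _),
      cancel_mono] at h₂
    rw [← cancel_epi (eqToHom (x.w_obj a))]
    simpa [q, L09.Fib.toTerm, Category.assoc] using h₂
  refine ⟨Over.homMk q hq, (existsUnique_factor h (x.map (L09.Fib.toTerm a)) (x.map (L09.Fib.toTerm b))
    (𝒬.p.map t) ?_).unique ⟨?_, ?_⟩ ⟨rfl, ht⟩⟩
  · rw [← Functor.map_comp, ht]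
  · rw [hmap]; simp [q]
  · rw [← x.toFunctor.map_comp]; exact congrArg x.map (Over.OverMorphism.ext hq)

/-- A morphism to the object under an overlap lifts to a morphism of overlaps. -/
theorem exists_overlap_factor (h : FibCat.IsFibGrpd 𝒬.p) {U : Over S} (x : FibCat.overCat U ⥤ᵇ 𝒬)
    {z : 𝒬.obj} {s v : (FibCat.fp x x).obj} (φ : z ⟶ x.obj s.obj.fst) [IsIso φ] (t : z ⟶ x.obj v.obj.fst)
    (ha : t ≫ x.map (L09.Fib.toTerm v.obj.fst) = φ ≫ x.map (L09.Fib.toTerm s.obj.fst))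
    (hb : t ≫ v.obj.iso.hom ≫ x.map (L09.Fib.toTerm v.obj.snd) =
      φ ≫ s.obj.iso.hom ≫ x.map (L09.Fib.toTerm s.obj.snd)) :
    ∃ k : s ⟶ v, φ ≫ x.map k.hom.fst = t := by
  obtain ⟨k₁, hk₁⟩ := exists_chart_factor h x (inv φ ≫ t) (by rw [Category.assoc, ha, IsIso.inv_hom_id_assoc])
  obtain ⟨k₂, hk₂⟩ := exists_chart_factor h x (s.obj.iso.inv ≫ (inv φ ≫ t) ≫ v.obj.iso.hom) (by
    rw [Category.assoc, Category.assoc, Category.assoc, hb, IsIso.inv_hom_id_assoc, Iso.inv_hom_id_assoc])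
  refine ⟨ObjectProperty.homMk { fst := k₁, snd := k₂, w := ?_ }, ?_⟩
  · rw [hk₁, hk₂, Iso.hom_inv_id_assoc]
  · show φ ≫ x.map k₁ = t
    rw [hk₁, IsIso.hom_inv_id_assoc]

/-- Two lifts of the same pair to overlaps lift to a chart of the double overlaps, locally on finitely many affines. -/
theorem exists_triple_cover (h : FibCat.IsFibGrpd 𝒬.p) {U : Over S} (x : FibCat.overCat U ⥤ᵇ 𝒬)
    (hR : FibCat.IsFibGrpd (FibCat.fp x x).p) {W : Over S} (c : FibCat.overCat W ⥤ᵇ FibCat.fp x x)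
    (hR₂ : FibCat.IsFibGrpd (FibCat.fp c c).p) {W₂ : Over S} (d : FibCat.overCat W₂ ⥤ᵇ FibCat.fp c c)
    (hdflp : AlgSt.RepByAlgSpWith L09.Artin.Res.FLP d) (hds : AlgSt.RepByAlgSpWith AlgSp.IsSurjectiveMor d)
    (z : 𝒬.obj) [IsAffine (sch 𝒬 z)] (t t' : z ⟶ x.obj (c.obj (idObj W)).obj.fst)
    (ha : t ≫ x.map (L09.Fib.toTerm _) = t' ≫ x.map (L09.Fib.toTerm _))
    (hb : t ≫ (c.obj (idObj W)).obj.iso.hom ≫ x.map (L09.Fib.toTerm _) =
      t' ≫ (c.obj (idObj W)).obj.iso.hom ≫ x.map (L09.Fib.toTerm _)) :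
    ∃ (n : ℕ) (o : Fin n → 𝒬.obj) (m : ∀ l, o l ⟶ z)
      (k : ∀ l, o l ⟶ x.obj (c.obj (d.obj (idObj W₂)).obj.fst).obj.fst),
      (∀ l, IsAffine (sch 𝒬 (o l))) ∧ IsCov (fun l => bmap 𝒬 (m l)) ∧
      ∀ l, k l ≫ x.map (c.map (L09.Fib.toTerm (d.obj (idObj W₂)).obj.fst)).hom.fst = m l ≫ t ∧
        k l ≫ x.map ((d.obj (idObj W₂)).obj.iso.hom ≫
          c.map (L09.Fib.toTerm (d.obj (idObj W₂)).obj.snd)).hom.fst = m l ≫ t' := by
  obtain ⟨s, φ, hφ, he, hp, hq, hs⟩ := exists_overlap h x (t ≫ x.map (L09.Fib.toTerm _))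
    (t ≫ (c.obj (idObj W)).obj.iso.hom ≫ x.map (L09.Fib.toTerm _))
  haveI := hs
  obtain ⟨k₀, hk₀⟩ := exists_overlap_factor h x φ t hp.symm hq.symm
  obtain ⟨k₀', hk₀'⟩ := exists_overlap_factor h x φ t' (ha.symm.trans hp.symm) (hb.symm.trans hq.symm)
  obtain ⟨n, o, m, k, ho, hm, hk⟩ := exists_pairs_cover hR c hR₂ d hdflp hds s k₀ k₀'
  refine ⟨n, fun l => x.obj (o l).obj.fst, fun l => x.map (m l).hom.fst ≫ inv φ, fun l => x.map (k l).hom.fst,
    fun l => isAffine_chart x _ (ho l), isCov_overlap x φ he m hm, fun l => ⟨?_, ?_⟩⟩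
  · rw [← hk₀, Category.assoc, IsIso.inv_hom_id_assoc, ← x.toFunctor.map_comp, ← x.toFunctor.map_comp]
    exact congrArg (fun a => x.map a.hom.fst) (hk l).1
  · rw [← hk₀', Category.assoc, IsIso.inv_hom_id_assoc, ← x.toFunctor.map_comp, ← x.toFunctor.map_comp]
    exact congrArg (fun a => x.map a.hom.fst) (hk l).2

end Groth.L23.RelGen
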