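import Groth.Agent.L23.RelGen.FibreFun

/-!
# The fibres of objects over an object for a composite, and the diagonal
-/

universe w'' v'' w' v' w v u

open CategoryTheory CategoryTheory.Limits AlgebraicGeometry Opposite TopologicalSpace

set_option backward.isDefEq.respectTransparency false
set_option backward.isDefEq.respectTransparency.types false
set_option linter.style.haveILetI false
set_option linter.unusedSectionVars false
set_option linter.unusedVariables false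

noncomputable section

namespace Groth.L23.RelGen

open StMod

variable {S : Scheme.{u}} {𝒳 : BasedCategory.{v, w} (Over S)} {𝒴 : BasedCategory.{v', w'} (Over S)}
  {𝒵 : BasedCategory.{v'', w''} (Over S)}

theorem p_map_functor (g : 𝒳 ⥤ᵇ 𝒴) {a b : 𝒳.obj} (k : a ⟶ b) :
    𝒴.p.map (g.map k) = eqToHom (g.w_obj a) ≫ 𝒳.p.map k ≫ eqToHom (g.w_obj b).symm :=
  IsHomLift.fac' 𝒴.p (𝒳.p.map k) (g.map k)

theorem hom_ext_of_base (h : FibCat.IsFibGrpd 𝒳.p) {z y x : 𝒳.obj} {r : y ⟶ x} {s t : z ⟶ y}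
    (hb : 𝒳.p.map s = 𝒳.p.map t) (hr : s ≫ r = t ≫ r) : s = t :=
  (existsUnique_factor h (t ≫ r) r (𝒳.p.map t) (𝒳.p.map_comp _ _).symm).unique ⟨hb, hr⟩ ⟨rfl, rfl⟩

theorem isIso_of_base (h : FibCat.IsFibGrpd 𝒳.p) {a b : 𝒳.obj} (k : a ⟶ b) {e : 𝒳.p.obj a = 𝒳.p.obj b}
    (hk : 𝒳.p.map k = eqToHom e) : IsIso k := by
  haveI : IsIso (𝒳.p.map k) := by rw [hk]; infer_instance
  haveI := h.isStronglyCartesian k
  exact Functor.IsStronglyCartesian.isIso_of_base_isIso 𝒳.p (𝒳.p.map k) k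

variable (f : 𝒳 ⥤ᵇ 𝒴) (g : 𝒴 ⥤ᵇ 𝒵) (y : 𝒴.obj) (w₁ : (fibCat (BasedFunctor.comp f g) (g.obj y)).obj)

/-- A point of the 2-fibre product attached to an object over an object for the composite. -/
structure DiagDatum where
  /-- the second point -/
  y₁ : 𝒴.obj
  /-- the map to the object -/
  q : y₁ ⟶ y
  e : 𝒴.p.obj y₁ = 𝒴.p.obj (f.obj w₁.left)
  /-- the comparison -/
  θ : g.obj (f.obj w₁.left) ≅ g.obj y₁
  θ_base : 𝒵.p.map θ.hom = eqToHom ((g.w_obj _).trans (e.symm.trans (g.w_obj y₁).symm))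
  θ_q : θ.hom ≫ g.map q = w₁.hom
  q_base : eqToHom e.symm ≫ 𝒴.p.map q =
    eqToHom (g.w_obj (f.obj w₁.left)).symm ≫ 𝒵.p.map w₁.hom ≫ eqToHom (g.w_obj y)

theorem nonempty_diagDatum (hY : FibCat.IsFibGrpd 𝒴.p) (hZ : FibCat.IsFibGrpd 𝒵.p) :
    Nonempty (DiagDatum f g y w₁) := by
  let a : g.obj (f.obj w₁.left) ⟶ g.obj y := w₁.hom
  obtain ⟨y₁, q, e, hq⟩ := exists_lift hY
    (eqToHom (g.w_obj (f.obj w₁.left)).symm ≫ 𝒵.p.map a ≫ eqToHom (g.w_obj y))
  have hb : eqToHom ((g.w_obj (f.obj w₁.left)).trans (e.symm.trans (g.w_obj y₁).symm)) ≫ 𝒵.p.map (g.map q) =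
      𝒵.p.map a := by
    rw [p_map_functor, hq]; simp
  obtain ⟨θ, ⟨hθ, hθ'⟩, -⟩ := existsUnique_factor hZ a (g.map q) _ hb
  haveI := isIso_of_base hZ θ hθ
  exact ⟨⟨y₁, q, e, asIso θ, hθ, hθ', by rw [hq]; simp [a]⟩⟩

variable {f g y w₁} (D : DiagDatum f g y w₁)

/-- The point of the 2-fibre product. -/
def DiagDatum.pt : (FibCat.fp g g).obj :=
  ⟨{ fst := f.obj w₁.left, snd := D.y₁, iso := D.θ },
    IsHomLift.of_fac _ _ _ (g.w_obj _) ((g.w_obj D.y₁).trans D.e) (by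
      show 𝟙 (𝒴.p.obj (f.obj w₁.left)) = _
      rw [D.θ_base]; simp)⟩

theorem DiagDatum.exists_snd (hY : FibCat.IsFibGrpd 𝒴.p) {x : 𝒳.obj} (k : x ⟶ w₁.left) (α : f.obj x ⟶ y)
    (hk : g.map (f.map k) ≫ w₁.hom = g.map α) :
    ∃! β : f.obj x ⟶ D.y₁, 𝒴.p.map β = 𝒴.p.map (f.map k) ≫ eqToHom D.e.symm ∧ β ≫ D.q = α := by
  refine existsUnique_factor hY α D.q _ ?_
  have h := congrArg 𝒵.p.map hk
  rw [Functor.map_comp, p_map_functor g, p_map_functor g] at h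
  rw [Category.assoc, D.q_base]
  rw [← cancel_epi (eqToHom (g.w_obj (f.obj x))), ← cancel_mono (eqToHom (g.w_obj y).symm)]
  simpa using h

theorem DiagDatum.snd_w (hZ : FibCat.IsFibGrpd 𝒵.p) {z : 𝒴.obj} (s : z ⟶ f.obj w₁.left) (α : z ⟶ y)
    (β : z ⟶ D.y₁) (hk : g.map s ≫ w₁.hom = g.map α) (hb : 𝒴.p.map β = 𝒴.p.map s ≫ eqToHom D.e.symm)
    (hβ : β ≫ D.q = α) : g.map s ≫ D.θ.hom = g.map β := by
  refine hom_ext_of_base hZ (r := g.map D.q) ?_ ?_
  · rw [Functor.map_comp, D.θ_base, p_map_functor g, p_map_functor g, hb]; simp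
  · rw [Category.assoc, D.θ_q, hk, ← g.toFunctor.map_comp, hβ]

theorem DiagDatum.base_snd {z : 𝒴.obj} (s : z ⟶ f.obj w₁.left) (β : z ⟶ D.y₁)
    (hw : g.map s ≫ D.θ.hom = g.map β) : 𝒴.p.map β = 𝒴.p.map s ≫ eqToHom D.e.symm := by
  have h := congrArg 𝒵.p.map hw
  rw [Functor.map_comp, p_map_functor g, p_map_functor g, D.θ_base] at h
  rw [← cancel_epi (eqToHom (g.w_obj z)), ← cancel_mono (eqToHom (g.w_obj D.y₁).symm)]
  simpa using h.symm

/-- The second component attached to an object of the fibre. -/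
def DiagDatum.snd (hY : FibCat.IsFibGrpd 𝒴.p) (ξ : (fibCat (fibPush f g y) w₁).obj) :
    f.obj ξ.left.left ⟶ D.y₁ :=
  (D.exists_snd hY ξ.hom.left ξ.left.hom (CostructuredArrow.w ξ.hom)).choose

theorem DiagDatum.snd_spec (hY : FibCat.IsFibGrpd 𝒴.p) (ξ : (fibCat (fibPush f g y) w₁).obj) :
    𝒴.p.map (D.snd hY ξ) = 𝒴.p.map (f.map ξ.hom.left) ≫ eqToHom D.e.symm ∧ D.snd hY ξ ≫ D.q = ξ.left.hom :=
  (D.exists_snd hY ξ.hom.left ξ.left.hom (CostructuredArrow.w ξ.hom)).choose_spec.1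

theorem DiagDatum.snd_eq (hY : FibCat.IsFibGrpd 𝒴.p) (ξ : (fibCat (fibPush f g y) w₁).obj)
    (β : f.obj ξ.left.left ⟶ D.y₁) (hb : 𝒴.p.map β = 𝒴.p.map (f.map ξ.hom.left) ≫ eqToHom D.e.symm)
    (hβ : β ≫ D.q = ξ.left.hom) : D.snd hY ξ = β :=
  (D.exists_snd hY ξ.hom.left ξ.left.hom (CostructuredArrow.w ξ.hom)).unique (D.snd_spec hY ξ) ⟨hb, hβ⟩

theorem DiagDatum.snd_natural (hY : FibCat.IsFibGrpd 𝒴.p) {ξ' ξ : (fibCat (fibPush f g y) w₁).obj}
    (t : ξ' ⟶ ξ) : f.map t.left.left ≫ D.snd hY ξ = D.snd hY ξ' := by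
  have hk : t.left.left ≫ ξ.hom.left = ξ'.hom.left := congrArg (fun k => k.left) (CostructuredArrow.w t)
  refine (D.snd_eq hY ξ' _ ?_ ?_).symm
  · rw [Functor.map_comp, (D.snd_spec hY ξ).1, ← Category.assoc, ← Functor.map_comp, ← f.toFunctor.map_comp, hk]
  · rw [Category.assoc, (D.snd_spec hY ξ).2]
    exact CostructuredArrow.w t.left

/-- The fibre maps to the fibre of the diagonal. -/
def DiagDatum.cmp (hY : FibCat.IsFibGrpd 𝒴.p) (hZ : FibCat.IsFibGrpd 𝒵.p) :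
    fibCat (fibPush f g y) w₁ ⥤ᵇ fibCat (FibCat.diag g) D.pt where
  toFunctor :=
    { obj := fun ξ => CostructuredArrow.mk (Y := f.obj ξ.left.left) (ObjectProperty.homMk
        { fst := f.map ξ.hom.left
          snd := D.snd hY ξ
          w := by
            show g.map (f.map ξ.hom.left) ≫ D.θ.hom = 𝟙 _ ≫ g.map (D.snd hY ξ)
            rw [Category.id_comp]
            exact D.snd_w hZ _ ξ.left.hom _ (CostructuredArrow.w ξ.hom) (D.snd_spec hY ξ).1
              (D.snd_spec hY ξ).2 })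
      map := fun {ξ' ξ} t => CostructuredArrow.homMk (f.map t.left.left) (by
        apply ObjectProperty.hom_ext
        apply CategoricalPullback.hom_ext
        · show f.map t.left.left ≫ f.map ξ.hom.left = f.map ξ'.hom.left
          rw [← f.toFunctor.map_comp]
          exact congrArg f.map (congrArg (fun k => k.left) (CostructuredArrow.w t))
        · show f.map t.left.left ≫ D.snd hY ξ = D.snd hY ξ'
          exact D.snd_natural hY t)
      map_id := fun ξ => CostructuredArrow.hom_ext _ _ (f.toFunctor.map_id _)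
      map_comp := fun s t => CostructuredArrow.hom_ext _ _ (f.toFunctor.map_comp _ _) }
  w := CategoryTheory.Functor.ext (fun ξ => f.w_obj ξ.left.left) fun ξ' ξ t =>
    IsHomLift.fac' 𝒴.p (𝒳.p.map t.left.left) (f.map t.left.left)

theorem DiagDatum.cmp_faithful (hX : FibCat.IsFibGrpd 𝒳.p) (hY : FibCat.IsFibGrpd 𝒴.p)
    (hZ : FibCat.IsFibGrpd 𝒵.p) : (D.cmp hY hZ).toFunctor.Faithful := by
  refine ⟨fun {ξ' ξ} t t' h => ?_⟩
  have hf : f.map t.left.left = f.map t'.left.left := congrArg (fun k => k.left) h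
  have hb : 𝒳.p.map t.left.left = 𝒳.p.map t'.left.left := by
    have := congrArg 𝒴.p.map hf
    rw [p_map_functor, p_map_functor] at this
    exact (cancel_mono _).1 ((cancel_epi _).1 this)
  have hk : ∀ s : ξ' ⟶ ξ, s.left.left ≫ ξ.hom.left = ξ'.hom.left := fun s =>
    congrArg (fun k => k.left) (CostructuredArrow.w s)
  exact CostructuredArrow.hom_ext _ _ (CostructuredArrow.hom_ext _ _
    (hom_ext_of_base hX hb ((hk t).trans (hk t').symm)))

theorem DiagDatum.cmp_full (hX : FibCat.IsFibGrpd 𝒳.p) (hY : FibCat.IsFibGrpd 𝒴.p)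
    (hZ : FibCat.IsFibGrpd 𝒵.p) : (D.cmp hY hZ).toFunctor.Full := by
  refine ⟨fun {ξ' ξ} s => ?_⟩
  let sl : f.obj ξ'.left.left ⟶ f.obj ξ.left.left := s.left
  have hw := CostructuredArrow.w s
  have h₁ : sl ≫ f.map ξ.hom.left = f.map ξ'.hom.left := congrArg (fun k => k.hom.fst) hw
  have h₂ : sl ≫ D.snd hY ξ = D.snd hY ξ' := congrArg (fun k => k.hom.snd) hw
  obtain ⟨t, ⟨ht, ht'⟩, -⟩ := existsUnique_factor hX ξ'.hom.left ξ.hom.left
    (eqToHom (f.w_obj ξ'.left.left).symm ≫ 𝒴.p.map sl ≫ eqToHom (f.w_obj ξ.left.left)) (by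
      have h := congrArg 𝒴.p.map h₁
      rw [Functor.map_comp, p_map_functor f, p_map_functor f] at h
      rw [← cancel_epi (eqToHom (f.w_obj ξ'.left.left)), ← cancel_mono (eqToHom (f.w_obj w₁.left).symm)]
      simpa using h)
  have hft : f.map t = sl := by
    refine hom_ext_of_base hY (r := f.map ξ.hom.left) ?_ ?_
    · rw [p_map_functor, ht]; simp
    · rw [← f.toFunctor.map_comp, ht', h₁]
  refine ⟨CostructuredArrow.homMk (CostructuredArrow.homMk t ?_) ?_, CostructuredArrow.hom_ext _ _ hft⟩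
  · rw [hft, ← (D.snd_spec hY ξ).2, ← (D.snd_spec hY ξ').2, ← Category.assoc, h₂]
  · exact CostructuredArrow.hom_ext _ _ ht'

theorem DiagDatum.cmp_lift (hX : FibCat.IsFibGrpd 𝒳.p) (hY : FibCat.IsFibGrpd 𝒴.p) (hZ : FibCat.IsFibGrpd 𝒵.p)
    (b : (fibCat (FibCat.diag g) D.pt).obj) :
    ∃ (ξ : (fibCat (fibPush f g y) w₁).obj)
      (e : (fibCat (fibPush f g y) w₁).p.obj ξ = (fibCat (FibCat.diag g) D.pt).p.obj b)
      (σ : (D.cmp hY hZ).obj ξ ≅ b),
      (fibCat (FibCat.diag g) D.pt).p.map σ.hom = eqToHom (((D.cmp hY hZ).w_obj ξ).trans e) := by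
  let fs : b.left ⟶ f.obj w₁.left := b.hom.hom.fst
  let sn : b.left ⟶ D.y₁ := b.hom.hom.snd
  have hwb : g.map fs ≫ D.θ.hom = g.map sn := b.hom.hom.w.trans (Category.id_comp _)
  obtain ⟨x, k, e', hk⟩ := exists_lift hX (𝒴.p.map fs ≫ eqToHom (f.w_obj w₁.left))
  obtain ⟨σ, ⟨hσ, hσ'⟩, -⟩ := existsUnique_factor hY (f.map k) fs (eqToHom ((f.w_obj x).trans e')) (by
    rw [p_map_functor, hk]; simp)
  haveI := isIso_of_base hY σ hσ
  let α : f.obj x ⟶ y := σ ≫ sn ≫ D.q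
  have hα : g.map (f.map k) ≫ w₁.hom = g.map α := by
    rw [← hσ', ← D.θ_q, g.toFunctor.map_comp, g.toFunctor.map_comp, g.toFunctor.map_comp, Category.assoc,
      ← Category.assoc (g.map fs), hwb]
  let ξ : (fibCat (fibPush f g y) w₁).obj :=
    CostructuredArrow.mk (Y := (CostructuredArrow.mk (Y := x) α : (fibCat f y).obj)) (CostructuredArrow.homMk k hα)
  have hsnd : D.snd hY ξ = σ ≫ sn := by
    refine D.snd_eq hY ξ _ ?_ (Category.assoc _ _ _)
    show 𝒴.p.map (σ ≫ sn) = 𝒴.p.map (f.map k) ≫ eqToHom D.e.symm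
    rw [Functor.map_comp, D.base_snd fs sn hwb, ← Category.assoc, ← Functor.map_comp, hσ']
  refine ⟨ξ, e', CostructuredArrow.isoMk (asIso σ) ?_, ?_⟩
  · apply ObjectProperty.hom_ext
    apply CategoricalPullback.hom_ext
    · exact hσ'
    · exact hsnd.symm
  · exact hσ

/-- The fibre is equivalent over the base to the fibre of the diagonal. -/
theorem DiagDatum.exists_equiv (hX : FibCat.IsFibGrpd 𝒳.p) (hY : FibCat.IsFibGrpd 𝒴.p)
    (hZ : FibCat.IsFibGrpd 𝒵.p) :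
    ∃ Φ : fibCat (FibCat.diag g) D.pt ⥤ᵇ fibCat (fibPush f g y) w₁,
      Φ.toFunctor.Full ∧ Φ.toFunctor.EssSurj := by
  haveI := D.cmp_faithful hX hY hZ
  haveI := D.cmp_full hX hY hZ
  exact exists_based_inverse (D.cmp hY hZ) (D.cmp_lift hX hY hZ)

end Groth.L23.RelGen
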