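import Groth.Agent.L23.RelGen.CompSource
import Groth.Agent.L23.RelGen.DiagFibre

/-!
# Generation relative to the first functor of a composite
-/

universe t w'' v'' w' v' w v u

open CategoryTheory CategoryTheory.Limits AlgebraicGeometry Opposite TopologicalSpace

set_option backward.isDefEq.respectTransparency false
set_option backward.isDefEq.respectTransparency.types false
set_option linter.style.haveILetI false
set_option linter.unusedSectionVars false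
set_option linter.unusedVariables false
set_option maxHeartbeats 1000000

noncomputable section

namespace Groth.L23.RelGen

open StMod Groth.L24.St

variable {S : Scheme.{u}} {𝒳 𝒴 𝒵 : AlgSt.Cat S}

theorem exists_diagAtlas (h𝒳 : AlgSt.IsAlgStack Scheme.fppfPrecoverage 𝒳)
    (h𝒴 : AlgSt.IsAlgStack Scheme.fppfPrecoverage 𝒴) (h𝒵 : AlgSt.IsAlgStack Scheme.fppfPrecoverage 𝒵)
    (f : 𝒳 ⥤ᵇ 𝒴) (g : 𝒴 ⥤ᵇ 𝒵) (hgqs : AlgSt.IsQuasiSeparatedMor g) (y : 𝒴.obj)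
    (w₁ : (fibCat (BasedFunctor.comp f g) (g.obj y)).obj)
    (hw : IsAffine (sch (fibCat (BasedFunctor.comp f g) (g.obj y)) w₁)) (D : DiagDatum f g y w₁) :
    Nonempty (Atlas (fibCat (FibCat.diag g) D.pt)) := by
  have h₀ : AlgSt.RepByAlgSpWith (AlgSp.IsQuasiCompactMor ⊓ AlgSp.IsQuasiSeparatedMor) (FibCat.diag g) := hgqs
  have hq : AlgSt.RepByAlgSpWith AlgSp.IsQuasiCompactMor (FibCat.diag g) :=
    Groth.L24.St.repWith_mono (fun _ _ _ _ h => h.1) h₀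
  have hP := isAlgStack_fp h𝒴 h𝒴 h𝒵 g g
  haveI : IsAffine (sch (FibCat.fp g g) D.pt) := (isAffine_obj_iff f w₁.left).2 hw
  exact exists_atlas h𝒴 hP (FibCat.diag g)
    ((repWith_qcMor_iff h𝒴.isStack.1 hP.isStack.1 (repWith_rep1 hq)).1 hq)
    ((isQuasiSeparatedMor_iff_rep (repWith_rep1 hq)).2 (Groth.L24.St.repWith_mono (fun _ _ _ _ h => h.2) h₀))
    D.pt

/-- Sections over an object on its image in the category over the image. -/
def pushSec (f : 𝒳 ⥤ᵇ 𝒴) (g : 𝒴 ⥤ᵇ 𝒵) (y : 𝒴.obj) (E : QCoh 𝒳) (ξ : (fibCat f y).obj) :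
    Sec (Mod.comap (fibFst f y) E.obj) ξ ≃+
      Sec ((comapQ (fibFst (BasedFunctor.comp f g) (g.obj y))).obj E).obj ((fibPush f g y).obj ξ) :=
  AddEquiv.refl (Sec E.obj ξ.left)

theorem castFn_self {X : Scheme.{u}} (h : X = X) (r : Γ(X, ⊤)) : castFn h r = r := by
  rw [castFn, eqToHom_refl, Scheme.Hom.id_appTop]; rfl

theorem pushSec_smul (f : 𝒳 ⥤ᵇ 𝒴) (g : 𝒴 ⥤ᵇ 𝒵) (y : 𝒴.obj) (E : QCoh 𝒳) (ξ : (fibCat f y).obj) (r : Fn ξ)
    (m : Sec (Mod.comap (fibFst f y) E.obj) ξ) :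
    pushSec f g y E ξ (r • m) = castFn (sch_obj_eq (fibPush f g y) ξ) r • pushSec f g y E ξ m :=
  (congrArg (fun a : Fn ξ => (show Sec E.obj ξ.left from a • (show Sec E.obj ξ.left from m)))
    (castFn_self (X := sch 𝒳 ξ.left) (sch_obj_eq (fibPush f g y) ξ) r)).symm

theorem pushSec_mapTop (f : 𝒳 ⥤ᵇ 𝒴) (g : 𝒴 ⥤ᵇ 𝒵) (y : 𝒴.obj) (E : QCoh 𝒳) {ξ' ξ : (fibCat f y).obj}
    (k : ξ' ⟶ ξ) (m : Sec (Mod.comap (fibFst f y) E.obj) ξ) :
    pushSec f g y E ξ' ((Mod.comap (fibFst f y) E.obj).mapTop k m) =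
      ((comapQ (fibFst (BasedFunctor.comp f g) (g.obj y))).obj E).obj.mapTop ((fibPush f g y).map k)
        (pushSec f g y E ξ m) :=
  (mapTop_fibFst f y E.obj k m).trans
    (mapTop_fibFst (BasedFunctor.comp f g) (g.obj y) E.obj ((fibPush f g y).map k) m).symm

attribute [irreducible] pushSec

theorem isRelGenFam_of_comp (h𝒳 : AlgSt.IsAlgStack Scheme.fppfPrecoverage 𝒳)
    (h𝒴 : AlgSt.IsAlgStack Scheme.fppfPrecoverage 𝒴) (h𝒵 : AlgSt.IsAlgStack Scheme.fppfPrecoverage 𝒵)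
    (f : 𝒳 ⥤ᵇ 𝒴) (hfqc : AlgSt.IsQuasiCompactMor Scheme.fppfPrecoverage f) (hfqs : AlgSt.IsQuasiSeparatedMor f)
    (g : 𝒴 ⥤ᵇ 𝒵) (hgqc : AlgSt.IsQuasiCompactMor Scheme.fppfPrecoverage g) (hgqs : AlgSt.IsQuasiSeparatedMor g)
    {ι : Type u} (E : ι → QCoh 𝒳)
    (hh : IsRelGenFam (BasedFunctor.comp f g) E)
    (hO : IsRelGenFam (FibCat.diag g) (fun _ : PUnit.{u + 1} => OQ 𝒴)) :
    IsRelGenFam f E := by
  intro y hy
  haveI := hy
  haveI : IsAffine (sch 𝒵 (g.obj y)) := (isAffine_obj_iff g y).2 hy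
  have hX := isFibGrpd_fibCat h𝒳.isStack.1 f y
  have hV := isFibGrpd_fibCat h𝒳.isStack.1 (BasedFunctor.comp f g) (g.obj y)
  obtain ⟨A⟩ := exists_atlas3 h𝒳 h𝒵 (BasedFunctor.comp f g) (isQuasiCompactMor_comp h𝒴 h𝒵 hfqc hgqc)
    (isQuasiSeparatedMor_comp h𝒳.isStack.1 h𝒴.isStack.1 hfqs hgqs) (g.obj y)
  obtain ⟨D⟩ := nonempty_diagDatum f g y A.x₀ h𝒴.isStack.1 h𝒵.isStack.1
  obtain ⟨A₀⟩ := exists_diagAtlas h𝒳 h𝒴 h𝒵 f g hgqs y A.x₀ A.aff₀ D
  obtain ⟨Φ, hfull, hess⟩ := D.exists_equiv h𝒳.isStack.1 h𝒴.isStack.1 h𝒵.isStack.1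
  haveI := hfull
  haveI := hess
  obtain ⟨A'⟩ := nonempty_atlas_of_equiv Φ A₀
  have hQ : IsAffine (sch (FibCat.fp g g) D.pt) := (isAffine_obj_iff f A.x₀.left).2 A.aff₀
  have hfib : IsGenFam (fun _ : PUnit.{u + 1} => (comapQ (fibFst (fibPush f g y) A.x₀)).obj (OQ (fibCat f y))) :=
    isGenFam_of_equiv Φ (isFibGrpd_fibCat h𝒴.isStack.1 (FibCat.diag g) D.pt)
      (isFibGrpd_fibCat hX (fibPush f g y) A.x₀) _
      (isGenFam_congr (fun _ => comapOIso (fibFst (FibCat.diag g) D.pt) ≪≫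
        ((comapFunctor Φ).mapIso (comapOIso (fibFst (fibPush f g y) A.x₀)) ≪≫ comapOIso Φ).symm) (hO D.pt hQ))
  rw [isGenFam_iff]
  intro M N u hu
  exact eq_zero_of_chart hX hV A A' (fun _ : PUnit.{u + 1} => OQ (fibCat f y))
    (fun _ => isFinPres_O _) hfib (fun i => (comapQ (fibFst (BasedFunctor.comp f g) (g.obj y))).obj (E i))
    (hh (g.obj y) inferInstance) u
    fun _ i b ξ hξ m e => kill_unit_right (π := fibPush f g y)
      (F := (comapQ (fibFst (BasedFunctor.comp f g) (g.obj y))).obj (E i)) hX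
      (G := Mod.comap (fibFst f y) (E i).obj) (fun ξ m => pushSec f g y (E i) ξ m) (fun ξ m m' => map_add _ m m')
      (fun ξ r m => pushSec_smul f g y (E i) ξ r m) (fun {ξ' ξ} k m => pushSec_mapTop f g y (E i) k m)
      (fun ξ => (pushSec f g y (E i) ξ).surjective) u (hu i) b ξ hξ m e

end Groth.L23.RelGen
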