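import Groth.Agent.L23.RelGen.GenEquiv

/-!
# The categories over objects for a composite
-/

universe w'' v'' w' v' w v u

open CategoryTheory CategoryTheory.Limits AlgebraicGeometry Opposite TopologicalSpace

set_option backward.isDefEq.respectTransparency false
set_option backward.isDefEq.respectTransparency.types false
set_option linter.style.haveILetI false
set_option linter.unusedSectionVars false
set_option linter.unusedVariables false

noncomputable section

namespace Groth.L23.RelGen

open StMod

variable {S : Scheme.{u}} {𝒳 : BasedCategory.{v, w} (Over S)} {𝒴 : BasedCategory.{v', w'} (Over S)}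
  {𝒵 : BasedCategory.{v'', w''} (Over S)} (f : 𝒳 ⥤ᵇ 𝒴) (g : 𝒴 ⥤ᵇ 𝒵)

/-- Objects over an object for the composite map to objects over it for the second functor. -/
def compPi (η : 𝒵.obj) : fibCat (BasedFunctor.comp f g) η ⥤ᵇ fibCat g η where
  toFunctor :=
    { obj := fun x => CostructuredArrow.mk (Y := f.obj x.left) x.hom
      map := fun {x' x} φ => CostructuredArrow.homMk (f.map φ.left) (CostructuredArrow.w φ)
      map_id := fun x => CostructuredArrow.hom_ext _ _ (f.toFunctor.map_id _)
      map_comp := fun φ ψ => CostructuredArrow.hom_ext _ _ (f.toFunctor.map_comp _ _) }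
  w := CategoryTheory.Functor.ext (fun x => f.w_obj x.left) fun x' x φ =>
    IsHomLift.fac' 𝒴.p (𝒳.p.map φ.left) (f.map φ.left)

/-- The fibre of the map of objects over an object. -/
def fibInto (η : 𝒵.obj) (y : (fibCat g η).obj) : fibCat f y.left ⥤ᵇ fibCat (compPi f g η) y where
  toFunctor :=
    { obj := fun x => CostructuredArrow.mk
        (Y := (CostructuredArrow.mk (Y := x.left) (g.map x.hom ≫ y.hom) : (fibCat (BasedFunctor.comp f g) η).obj))
        (CostructuredArrow.homMk x.hom rfl)
      map := fun {x' x} φ => CostructuredArrow.homMk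
        (CostructuredArrow.homMk φ.left (by
          show g.map (f.map φ.left) ≫ g.map x.hom ≫ y.hom = g.map x'.hom ≫ y.hom
          rw [← Category.assoc, ← g.toFunctor.map_comp, CostructuredArrow.w φ]))
        (CostructuredArrow.hom_ext _ _ (CostructuredArrow.w φ))
      map_id := fun x => CostructuredArrow.hom_ext _ _ (CostructuredArrow.hom_ext _ _ rfl)
      map_comp := fun φ ψ => CostructuredArrow.hom_ext _ _ (CostructuredArrow.hom_ext _ _ rfl) }
  w := rfl

theorem fibInto_full (η : 𝒵.obj) (y : (fibCat g η).obj) : (fibInto f g η y).toFunctor.Full :=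
  ⟨fun {x' x} t => ⟨CostructuredArrow.homMk t.left.left (congrArg (fun k => k.left) (CostructuredArrow.w t)),
    CostructuredArrow.hom_ext _ _ (CostructuredArrow.hom_ext _ _ rfl)⟩⟩

theorem fibInto_essSurj (η : 𝒵.obj) (y : (fibCat g η).obj) : (fibInto f g η y).toFunctor.EssSurj :=
  ⟨fun ξ => ⟨CostructuredArrow.mk (Y := ξ.left.left) ξ.hom.left, ⟨CostructuredArrow.isoMk
    (CostructuredArrow.isoMk (Iso.refl _) (by
      show g.map (f.map (𝟙 _)) ≫ ξ.left.hom = g.map ξ.hom.left ≫ y.hom
      rw [f.toFunctor.map_id, g.toFunctor.map_id, Category.id_comp]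
      exact (CostructuredArrow.w ξ.hom).symm))
    (CostructuredArrow.hom_ext _ _ (by
      show f.map (𝟙 _) ≫ ξ.hom.left = ξ.hom.left
      rw [f.toFunctor.map_id, Category.id_comp]))⟩⟩⟩

theorem fibInto_fst (η : 𝒵.obj) (y : (fibCat g η).obj) :
    BasedFunctor.comp (BasedFunctor.comp (fibInto f g η y) (fibFst (compPi f g η) y))
      (fibFst (BasedFunctor.comp f g) η) = fibFst f y.left := rfl

/-- Objects over an object of the middle category map to objects over its image for the composite. -/
def fibPush (y : 𝒴.obj) : fibCat f y ⥤ᵇ fibCat (BasedFunctor.comp f g) (g.obj y) where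
  toFunctor :=
    { obj := fun x => CostructuredArrow.mk (Y := x.left) (g.map x.hom)
      map := fun {x' x} φ => CostructuredArrow.homMk φ.left (by
        show g.map (f.map φ.left) ≫ g.map x.hom = g.map x'.hom
        rw [← g.toFunctor.map_comp, CostructuredArrow.w φ])
      map_id := fun x => CostructuredArrow.hom_ext _ _ rfl
      map_comp := fun φ ψ => CostructuredArrow.hom_ext _ _ rfl }
  w := rfl

theorem fibPush_fst (y : 𝒴.obj) :
    BasedFunctor.comp (fibPush f g y) (fibFst (BasedFunctor.comp f g) (g.obj y)) = fibFst f y := rfl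

end Groth.L23.RelGen
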