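import Groth.Agent.L23.RelGen.Core
import Groth.Agent.L23.RelGen.Atlas3
import Groth.Agent.L23.RelGen.FibreFun

/-!
# Charts and fibrewise generation for a composite
-/

universe t w'' v'' w' v' w v u

open CategoryTheory CategoryTheory.Limits AlgebraicGeometry Opposite TopologicalSpace

set_option backward.isDefEq.respectTransparency false
set_option backward.isDefEq.respectTransparency.types false
set_option linter.style.haveILetI false
set_option linter.unusedSectionVars false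

noncomputable section

namespace Groth.L23.RelGen

open StMod

variable {S : Scheme.{u}}

/-- The structure sheaf is of finite presentation. -/
theorem isFinPres_O (𝒳 : BasedCategory.{v, w} (Over S)) : (O 𝒳).IsFinPres := fun ξ => by
  have e : SheafOfModules.free (R := (sch 𝒳 ξ).ringCatSheaf) PUnit.{u + 1} ≅ Coh.structureModule (sch 𝒳 ξ) :=
    coproductUniqueIso _
  have h : (SheafOfModules.free (R := (sch 𝒳 ξ).ringCatSheaf) PUnit.{u + 1}).IsFinitePresentation :=
    isFinPres_free (𝒳 := 𝒳) PUnit.{u + 1} ξ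
  exact (SheafOfModules.isFinitePresentation (sch 𝒳 ξ).ringCatSheaf).prop_of_iso e h

/-- Inverse images of finitely presented modules are of finite presentation. -/
theorem isFinPres_comap {𝒳 : BasedCategory.{v, w} (Over S)} {𝒴 : BasedCategory.{v', w'} (Over S)} (f : 𝒳 ⥤ᵇ 𝒴)
    {F : Mod 𝒴} (hF : F.IsFinPres) : (Mod.comap f F).IsFinPres := by
  have key : ∀ {X T : Scheme.{u}} (h : X = T) (M : X.Modules),
      SheafOfModules.IsFinitePresentation (R := X.ringCatSheaf) M →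
        SheafOfModules.IsFinitePresentation (R := T.ringCatSheaf) (castMod h M) := by
    intro X T h M hM; subst h; exact hM
  exact fun x => key _ _ (hF (f.obj x))

variable {𝒳 𝒴 𝒵 : AlgSt.Cat S}

theorem exists_compAtlas (h𝒳 : AlgSt.IsAlgStack Scheme.fppfPrecoverage 𝒳)
    (h𝒴 : AlgSt.IsAlgStack Scheme.fppfPrecoverage 𝒴) (h𝒵 : AlgSt.IsAlgStack Scheme.fppfPrecoverage 𝒵)
    (f : 𝒳 ⥤ᵇ 𝒴) (hfqc : AlgSt.IsQuasiCompactMor Scheme.fppfPrecoverage f) (hfqs : AlgSt.IsQuasiSeparatedMor f)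
    (g : 𝒴 ⥤ᵇ 𝒵) (hgqc : AlgSt.IsQuasiCompactMor Scheme.fppfPrecoverage g) (hgqs : AlgSt.IsQuasiSeparatedMor g)
    (η : 𝒵.obj) [IsAffine (sch 𝒵 η)] :
    ∃ A : Atlas3 (fibCat g η), Nonempty (Atlas (fibCat (compPi f g η) A.x₀)) := by
  obtain ⟨A⟩ := exists_atlas3 h𝒴 h𝒵 g hgqc hgqs η
  haveI : IsAffine (sch 𝒴 A.x₀.left) := A.aff₀
  obtain ⟨A'⟩ := exists_atlas h𝒳 h𝒴 f hfqc hfqs A.x₀.left
  haveI := fibInto_full f g η A.x₀
  haveI := fibInto_essSurj f g η A.x₀
  exact ⟨A, nonempty_atlas_of_equiv (fibInto f g η A.x₀) A'⟩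

/-- Generation over an object transfers to the fibre of the map of objects over an object. -/
theorem isGenFam_fibre (h𝒳 : FibCat.IsFibGrpd 𝒳.p) (f : 𝒳 ⥤ᵇ 𝒴) (g : 𝒴 ⥤ᵇ 𝒵) (η : 𝒵.obj) (y : (fibCat g η).obj)
    {ι : Type t} (E : ι → QCoh (fibCat (BasedFunctor.comp f g) η)) (E₀ : ι → QCoh 𝒳)
    (e : ∀ i, Mod.comap (fibInto f g η y) (Mod.comap (fibFst (compPi f g η) y) (E i).obj) ≅
      Mod.comap (fibFst f y.left) (E₀ i).obj)
    (h : IsGenFam (fun i => (comapQ (fibFst f y.left)).obj (E₀ i))) :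
    IsGenFam (fun i => (comapQ (fibFst (compPi f g η) y)).obj (E i)) := by
  haveI := fibInto_full f g η y
  haveI := fibInto_essSurj f g η y
  exact isGenFam_of_equiv (fibInto f g η y) (isFibGrpd_fibCat h𝒳 f y.left)
    (isFibGrpd_fibCat (isFibGrpd_fibCat h𝒳 (BasedFunctor.comp f g) η) (compPi f g η) y) _
    (isGenFam_congr (fun i => (e i).symm) h)

/-- The member of the family on the fibre. -/
def fibreIso (f : 𝒳 ⥤ᵇ 𝒴) (g : 𝒴 ⥤ᵇ 𝒵) (η : 𝒵.obj) (y : (fibCat g η).obj) (F : Mod 𝒳) :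
    Mod.comap (fibInto f g η y) (Mod.comap (fibFst (compPi f g η) y)
      (Mod.comap (fibFst (BasedFunctor.comp f g) η) F)) ≅ Mod.comap (fibFst f y.left) F :=
  (comapFunctor (fibInto f g η y)).mapIso
      (comapCompIso (fibFst (BasedFunctor.comp f g) η) (fibFst (compPi f g η) y) F).symm ≪≫
    (comapCompIso (BasedFunctor.comp (fibFst (compPi f g η) y) (fibFst (BasedFunctor.comp f g) η))
      (fibInto f g η y) F).symm

/-- The structure sheaf on the fibre. -/
def fibreOIso (f : 𝒳 ⥤ᵇ 𝒴) (g : 𝒴 ⥤ᵇ 𝒵) (η : 𝒵.obj) (y : (fibCat g η).obj) :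
    Mod.comap (fibInto f g η y) (Mod.comap (fibFst (compPi f g η) y) (O (fibCat (BasedFunctor.comp f g) η))) ≅
      Mod.comap (fibFst f y.left) (O 𝒳) :=
  (comapFunctor (fibInto f g η y)).mapIso (comapOIso (fibFst (compPi f g η) y)) ≪≫
    comapOIso (fibInto f g η y) ≪≫ (comapOIso (fibFst f y.left)).symm

end Groth.L23.RelGen
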