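import Groth.Agent.L23.RelGen.CompTarget

/-!
# Generation for a composite when the structure sheaf generates on the source
-/

universe t w'' v'' w' v' w v u

open CategoryTheory CategoryTheory.Limits AlgebraicGeometry Opposite TopologicalSpace

set_option backward.isDefEq.respectTransparency false
set_option backward.isDefEq.respectTransparency.types false
set_option linter.style.haveILetI false
set_option linter.unusedSectionVars false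
set_option maxHeartbeats 1000000

noncomputable section

namespace Groth.L23.RelGen

open StMod

variable {S : Scheme.{u}}

section

variable {𝒳 : BasedCategory.{v', w'} (Over S)} {𝒱 : BasedCategory.{v, w} (Over S)} {π : 𝒳 ⥤ᵇ 𝒱}

theorem toBase_self (π : 𝒳 ⥤ᵇ 𝒱) (ξ : 𝒳.obj) : toBase (self π ξ) = eqToHom (sch_obj_eq π ξ).symm := by
  show (baseOver π ξ (𝟙 (π.obj ξ))).left = _
  simp [baseOver]

theorem baseFn_castFn (π : 𝒳 ⥤ᵇ 𝒱) (ξ : 𝒳.obj) (r : Fn ξ) : baseFn π ξ (castFn (sch_obj_eq π ξ) r) = r := by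
  have h : toBase (self π ξ) ≫ eqToHom (sch_obj_eq π ξ) = 𝟙 (sch 𝒳 ξ) := by
    rw [toBase_self, eqToHom_trans, eqToHom_refl]; rfl
  have h' := congrArg (fun k => k.appTop.hom r) h
  simp only [Scheme.Hom.comp_appTop, Scheme.Hom.id_appTop] at h'
  exact h'

theorem pairing_unit_right (hX : FibCat.IsFibGrpd 𝒳.p) {F : QCoh 𝒱} {G : Mod 𝒳} {M : QCoh 𝒳}
    (s : ∀ ξ, Sec G ξ → Sec F.obj (π.obj ξ)) (hadd : ∀ ξ m m', s ξ (m + m') = s ξ m + s ξ m')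
    (hsmul : ∀ ξ (r : Fn ξ) m, s ξ (r • m) = castFn (sch_obj_eq π ξ) r • s ξ m)
    (hnat : ∀ {ξ' ξ} (k : ξ' ⟶ ξ) m, s ξ' (G.mapTop k m) = F.obj.mapTop (π.map k) (s ξ m))
    (b : BiFam π F (OQ 𝒳) M) :
    ∃ φ : G ⟶ M.obj, ∀ (ξ : 𝒳.obj) (hξ : IsAffine (sch 𝒳 ξ)) (m : Sec G ξ),
      (φ.app ξ).app ⊤ m = b.B ξ hξ (s ξ m) (oneSec 𝒳 ξ) :=
  exists_hom_of_affine hX M.property.1
    (fun ξ hξ =>
      { toFun := fun m => b.B ξ hξ (s ξ m) (oneSec 𝒳 ξ)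
        map_add' := fun m m' => by rw [hadd, b.add_left]
        map_smul' := fun r m => by rw [hsmul, b.smul_left, baseFn_castFn]; rfl })
    fun ξ' ξ k hξ' hξ m => by
      show b.B ξ' hξ' (s ξ' (G.mapTop k m)) (oneSec 𝒳 ξ') = M.obj.mapTop k (b.B ξ hξ (s ξ m) (oneSec 𝒳 ξ))
      rw [hnat, ← mapTop_oneSec k]
      exact b.nat k hξ' hξ _ _

theorem kill_unit_right (hX : FibCat.IsFibGrpd 𝒳.p) {F : QCoh 𝒱} {G : Mod 𝒳} {M N : QCoh 𝒳}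
    (s : ∀ ξ, Sec G ξ → Sec F.obj (π.obj ξ)) (hadd : ∀ ξ m m', s ξ (m + m') = s ξ m + s ξ m')
    (hsmul : ∀ ξ (r : Fn ξ) m, s ξ (r • m) = castFn (sch_obj_eq π ξ) r • s ξ m)
    (hnat : ∀ {ξ' ξ} (k : ξ' ⟶ ξ) m, s ξ' (G.mapTop k m) = F.obj.mapTop (π.map k) (s ξ m))
    (hs : ∀ ξ, Function.Surjective (s ξ)) (u : M ⟶ N) (hu : ∀ φ : G ⟶ M.obj, φ ≫ u.hom = 0)
    (b : BiFam π F (OQ 𝒳) M) (ξ : 𝒳.obj) (hξ : IsAffine (sch 𝒳 ξ))
    (m : Sec F.obj (π.obj ξ)) (e : Sec (OQ 𝒳).obj ξ) : (u.hom.app ξ).app ⊤ (b.B ξ hξ m e) = 0 := by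
  obtain ⟨φ, hφ⟩ := pairing_unit_right hX s hadd hsmul hnat b
  obtain ⟨m, rfl⟩ := hs ξ m
  have h₀ : (u.hom.app ξ).app ⊤ ((φ.app ξ).app ⊤ m) = 0 :=
    congrArg (fun k : G ⟶ N.obj => (k.app ξ).app ⊤ m) (hu φ)
  rw [hφ ξ hξ m] at h₀
  rw [← smul_oneSec e, b.smul_right, Scheme.Modules.Hom.app_smul, h₀, smul_zero]

end

variable {𝒳 𝒴 𝒵 : AlgSt.Cat S}

/-- Sections of an inverse image over an object for the composite, on the target. -/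
def srcSec (f : 𝒳 ⥤ᵇ 𝒴) (g : 𝒴 ⥤ᵇ 𝒵) (η : 𝒵.obj) (F : QCoh 𝒴)
    (ξ : (fibCat (BasedFunctor.comp f g) η).obj) :
    Sec (Mod.comap (fibFst (BasedFunctor.comp f g) η) (Mod.comap f F.obj)) ξ ≃+
      Sec ((comapQ (fibFst g η)).obj F).obj ((compPi f g η).obj ξ) :=
  (secC f F.obj ξ.left).symm

theorem srcSec_mapTop (f : 𝒳 ⥤ᵇ 𝒴) (g : 𝒴 ⥤ᵇ 𝒵) (η : 𝒵.obj) (F : QCoh 𝒴)
    {ξ' ξ : (fibCat (BasedFunctor.comp f g) η).obj} (k : ξ' ⟶ ξ)
    (m : Sec (Mod.comap (fibFst (BasedFunctor.comp f g) η) (Mod.comap f F.obj)) ξ) :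
    srcSec f g η F ξ' ((Mod.comap (fibFst (BasedFunctor.comp f g) η) (Mod.comap f F.obj)).mapTop k m) =
      ((comapQ (fibFst g η)).obj F).obj.mapTop ((compPi f g η).map k) (srcSec f g η F ξ m) := by
  refine (congrArg (secC f F.obj ξ'.left).symm
    (mapTop_fibFst (BasedFunctor.comp f g) η (Mod.comap f F.obj) k m)).trans ?_
  refine (secC_symm_mapTop f F.obj k.left m).trans ?_
  exact (mapTop_fibFst g η F.obj ((compPi f g η).map k) ((secC f F.obj ξ.left).symm m)).symm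

theorem srcSec_smul (f : 𝒳 ⥤ᵇ 𝒴) (g : 𝒴 ⥤ᵇ 𝒵) (η : 𝒵.obj) (F : QCoh 𝒴)
    (ξ : (fibCat (BasedFunctor.comp f g) η).obj) (r : Fn ξ)
    (m : Sec (Mod.comap (fibFst (BasedFunctor.comp f g) η) (Mod.comap f F.obj)) ξ) :
    srcSec f g η F ξ (r • m) = castFn (sch_obj_eq (compPi f g η) ξ) r • srcSec f g η F ξ m :=
  secC_symm_smul f F.obj ξ.left r m

attribute [irreducible] srcSec

theorem isRelGenFam_comp_source (h𝒳 : AlgSt.IsAlgStack Scheme.fppfPrecoverage 𝒳)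
    (h𝒴 : AlgSt.IsAlgStack Scheme.fppfPrecoverage 𝒴) (h𝒵 : AlgSt.IsAlgStack Scheme.fppfPrecoverage 𝒵)
    (f : 𝒳 ⥤ᵇ 𝒴) (hfqc : AlgSt.IsQuasiCompactMor Scheme.fppfPrecoverage f) (hfqs : AlgSt.IsQuasiSeparatedMor f)
    (g : 𝒴 ⥤ᵇ 𝒵) (hgqc : AlgSt.IsQuasiCompactMor Scheme.fppfPrecoverage g) (hgqs : AlgSt.IsQuasiSeparatedMor g)
    {ι : Type u} (F : ι → QCoh 𝒴)
    (hO : IsRelGenFam f (fun _ : PUnit.{u + 1} => OQ 𝒳)) (hF' : IsRelGenFam g F) :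
    IsRelGenFam (BasedFunctor.comp f g) (fun j => (comapQ f).obj (F j)) := by
  intro η hη
  haveI := hη
  have hX := isFibGrpd_fibCat h𝒳.isStack.1 (BasedFunctor.comp f g) η
  have hV := isFibGrpd_fibCat h𝒴.isStack.1 g η
  obtain ⟨A, ⟨A'⟩⟩ := exists_compAtlas h𝒳 h𝒴 h𝒵 f hfqc hfqs g hgqc hgqs η
  have hfib : IsGenFam (fun _ : PUnit.{u + 1} => (comapQ (fibFst (compPi f g η) A.x₀)).obj
      (OQ (fibCat (BasedFunctor.comp f g) η))) :=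
    isGenFam_fibre h𝒳.isStack.1 f g η A.x₀ (fun _ : PUnit.{u + 1} => OQ (fibCat (BasedFunctor.comp f g) η))
      (fun _ => OQ 𝒳) (fun _ => fibreOIso f g η A.x₀) (hO A.x₀.left A.aff₀)
  rw [isGenFam_iff]
  intro M N u hu
  exact eq_zero_of_chart hX hV A A' (fun _ : PUnit.{u + 1} => OQ (fibCat (BasedFunctor.comp f g) η))
    (fun _ => isFinPres_O _) hfib (fun j => (comapQ (fibFst g η)).obj (F j)) (hF' η hη) u
    fun _ j b ξ hξ m e => kill_unit_right (π := compPi f g η) (F := (comapQ (fibFst g η)).obj (F j)) hX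
      (G := Mod.comap (fibFst (BasedFunctor.comp f g) η) (Mod.comap f (F j).obj))
      (fun ξ m => srcSec f g η (F j) ξ m) (fun ξ m m' => map_add _ m m')
      (fun ξ r m => srcSec_smul f g η (F j) ξ r m) (fun {ξ' ξ} k m => srcSec_mapTop f g η (F j) k m)
      (fun ξ => (srcSec f g η (F j) ξ).surjective) u (hu j) b ξ hξ m e

end Groth.L23.RelGen
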