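import Groth.Agent.L23.RelGen.CompSetup
import Groth.Agent.L24.St.QcSep

/-!
# Generation for a composite when the structure sheaf generates on one side
-/

universe t w'' v'' w' v' w v u

open CategoryTheory CategoryTheory.Limits AlgebraicGeometry Opposite TopologicalSpace

set_option backward.isDefEq.respectTransparency false
set_option backward.isDefEq.respectTransparency.types false
set_option linter.style.haveILetI false
set_option linter.unusedSectionVars false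
set_option maxHeartbeats 1000000

noncomputable section

namespace Groth.L23.RelGen

open StMod

variable {S : Scheme.{u}}

section

variable {𝒳 : BasedCategory.{v', w'} (Over S)} {𝒱 : BasedCategory.{v, w} (Over S)} {π : 𝒳 ⥤ᵇ 𝒱}

/-- The unit section of the structure sheaf. -/
abbrev oneSec (𝒵 : BasedCategory.{v, w} (Over S)) (x : 𝒵.obj) : Sec (OQ 𝒵).obj x := (show Fn x from 1)

theorem mapTop_oneSec {𝒵 : BasedCategory.{v, w} (Over S)} {x' x : 𝒵.obj} (k : x' ⟶ x) :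
    (OQ 𝒵).obj.mapTop k (oneSec 𝒵 x) = oneSec 𝒵 x' :=
  (O_mapTop 𝒵 k (1 : Fn x)).trans (map_one (fnMap k))

theorem smul_oneSec {𝒵 : BasedCategory.{v, w} (Over S)} {x : 𝒵.obj} (m : Sec (OQ 𝒵).obj x) :
    (show Fn x from m) • oneSec 𝒵 x = m := mul_one (show Fn x from m)

theorem pairing_unit_left (hX : FibCat.IsFibGrpd 𝒳.p) {E M : QCoh 𝒳} (b : BiFam π (OQ 𝒱) E M) :
    ∃ φ : E.obj ⟶ M.obj, ∀ (ξ : 𝒳.obj) (hξ : IsAffine (sch 𝒳 ξ)) (e : Sec E.obj ξ),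
      (φ.app ξ).app ⊤ e = b.B ξ hξ (oneSec 𝒱 (π.obj ξ)) e :=
  exists_hom_of_affine hX M.property.1
    (fun ξ hξ =>
      { toFun := fun e => b.B ξ hξ (oneSec 𝒱 (π.obj ξ)) e
        map_add' := fun e e' => b.add_right ξ hξ _ e e'
        map_smul' := fun r e => b.smul_right ξ hξ _ r e })
    fun ξ' ξ k hξ' hξ e => by
      show b.B ξ' hξ' (oneSec 𝒱 (π.obj ξ')) (E.obj.mapTop k e) = M.obj.mapTop k (b.B ξ hξ (oneSec 𝒱 (π.obj ξ)) e)
      rw [← mapTop_oneSec (π.map k)]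
      exact b.nat k hξ' hξ _ e

theorem kill_unit_left (hX : FibCat.IsFibGrpd 𝒳.p) {E M N : QCoh 𝒳} (u : M ⟶ N)
    (hu : ∀ φ : E.obj ⟶ M.obj, φ ≫ u.hom = 0) (b : BiFam π (OQ 𝒱) E M) (ξ : 𝒳.obj) (hξ : IsAffine (sch 𝒳 ξ))
    (m : Sec (OQ 𝒱).obj (π.obj ξ)) (e : Sec E.obj ξ) : (u.hom.app ξ).app ⊤ (b.B ξ hξ m e) = 0 := by
  obtain ⟨φ, hφ⟩ := pairing_unit_left hX b
  have h₀ : (u.hom.app ξ).app ⊤ ((φ.app ξ).app ⊤ e) = 0 :=
    congrArg (fun k : E.obj ⟶ N.obj => (k.app ξ).app ⊤ e) (hu φ)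
  rw [hφ ξ hξ e] at h₀
  rw [← smul_oneSec m, b.smul_left, Scheme.Modules.Hom.app_smul, h₀, smul_zero]

end

variable {𝒳 𝒴 𝒵 : AlgSt.Cat S}

theorem isRelGenFam_comp_target (h𝒳 : AlgSt.IsAlgStack Scheme.fppfPrecoverage 𝒳)
    (h𝒴 : AlgSt.IsAlgStack Scheme.fppfPrecoverage 𝒴) (h𝒵 : AlgSt.IsAlgStack Scheme.fppfPrecoverage 𝒵)
    (f : 𝒳 ⥤ᵇ 𝒴) (hfqc : AlgSt.IsQuasiCompactMor Scheme.fppfPrecoverage f) (hfqs : AlgSt.IsQuasiSeparatedMor f)
    (g : 𝒴 ⥤ᵇ 𝒵) (hgqc : AlgSt.IsQuasiCompactMor Scheme.fppfPrecoverage g) (hgqs : AlgSt.IsQuasiSeparatedMor g)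
    {ι : Type u} (E : ι → QCoh 𝒳) (hE : ∀ i, (E i).obj.IsFinPres)
    (hE' : IsRelGenFam f E) (hO : IsRelGenFam g (fun _ : PUnit.{u + 1} => OQ 𝒴)) :
    IsRelGenFam (BasedFunctor.comp f g) E := by
  intro η hη
  haveI := hη
  have hX := isFibGrpd_fibCat h𝒳.isStack.1 (BasedFunctor.comp f g) η
  have hV := isFibGrpd_fibCat h𝒴.isStack.1 g η
  obtain ⟨A, ⟨A'⟩⟩ := exists_compAtlas h𝒳 h𝒴 h𝒵 f hfqc hfqs g hgqc hgqs η
  have hF : IsGenFam (fun _ : PUnit.{u + 1} => OQ (fibCat g η)) :=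
    isGenFam_congr (E := fun _ : PUnit.{u + 1} => (comapQ (fibFst g η)).obj (OQ 𝒴)) (E' := fun _ => OQ (fibCat g η))
      (fun _ => comapOIso (fibFst g η)) (hO η hη)
  have hfib : IsGenFam (fun i => (comapQ (fibFst (compPi f g η) A.x₀)).obj
      ((comapQ (fibFst (BasedFunctor.comp f g) η)).obj (E i))) :=
    isGenFam_fibre h𝒳.isStack.1 f g η A.x₀ (fun i => (comapQ (fibFst (BasedFunctor.comp f g) η)).obj (E i)) E
      (fun i => fibreIso f g η A.x₀ (E i).obj) (hE' A.x₀.left A.aff₀)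
  rw [isGenFam_iff]
  intro M N u hu
  exact eq_zero_of_chart hX hV A A' (fun i => (comapQ (fibFst (BasedFunctor.comp f g) η)).obj (E i))
    (fun i x => hE i x.left) hfib (fun _ : PUnit.{u + 1} => OQ (fibCat g η)) hF u
    fun i _ b ξ hξ m e => kill_unit_left hX u (hu i) b ξ hξ m e

end Groth.L23.RelGen
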