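import Groth.Agent.L23.RelGen.Pairing

/-!
# Generation through the modules of homomorphisms on the target
-/

universe t w' v' w v u

open CategoryTheory CategoryTheory.Limits AlgebraicGeometry Opposite TopologicalSpace

set_option backward.isDefEq.respectTransparency false
set_option backward.isDefEq.respectTransparency.types false
set_option linter.style.haveILetI false
set_option linter.unusedSectionVars false
set_option maxHeartbeats 1000000

noncomputable section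

namespace Groth.L23.RelGen

open StMod

variable {S : Scheme.{u}} {𝒳 : BasedCategory.{v', w'} (Over S)} {𝒱 : BasedCategory.{v, w} (Over S)}
  {π : 𝒳 ⥤ᵇ 𝒱} {E M N : QCoh 𝒳}

/-- The structure morphism of an object over the chart. -/
abbrev fibArr {x₀ : 𝒱.obj} (ξ : (fibCat π x₀).obj) : π.obj ξ.left ⟶ x₀ := ξ.hom

theorem self_over {x₀ : 𝒱.obj} (ξ : (fibCat π x₀).obj) (hξ : IsAffine (sch (fibCat π x₀) ξ))
    (θ : HomF π E M x₀) (e : Sec E.obj ξ.left) :
    (HomF.res (fibArr ξ) θ).at' (self π ξ.left) hξ e = θ.at' ξ hξ e := by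
  let j : (fibComp π (fibArr ξ)).obj (self π ξ.left) ⟶ ξ :=
    CostructuredArrow.homMk (𝟙 ξ.left) (by
      show π.map (𝟙 ξ.left) ≫ ξ.hom = 𝟙 _ ≫ ξ.hom
      rw [π.toFunctor.map_id])
  have hjE : (onFib π E x₀).mapTop j e = e :=
    (mapTop_fibFst π x₀ E.obj j e).trans (Mod.mapTop_id _ _ e)
  have hjM : (onFib π M x₀).mapTop j (θ.at' ξ hξ e) = θ.at' ξ hξ e :=
    (mapTop_fibFst π x₀ M.obj j _).trans (Mod.mapTop_id _ _ _)
  exact ((congrArg _ hjE).symm.trans (θ.isExt j hξ hξ e)).trans hjM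

/-- A morphism killing the pairings of a generating family kills the families of homomorphisms over the chart. -/
theorem kill_chart (hX : FibCat.IsFibGrpd 𝒳.p) (hV : FibCat.IsFibGrpd 𝒱.p) (hfp : E.obj.IsFinPres)
    (A : Atlas3 𝒱) (A' : Atlas (fibCat π A.x₀)) {κ : Type t} (F : κ → QCoh 𝒱) (hF : IsGenFam F) (u : M ⟶ N)
    (hu : ∀ (j : κ) (b : BiFam π (F j) E M) (ξ : 𝒳.obj) (hξ : IsAffine (sch 𝒳 ξ)) m e,
      (u.hom.app ξ).app ⊤ (b.B ξ hξ m e) = 0) (θ : HomF π E M A.x₀) : HomF.postComp u θ = 0 := by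
  obtain ⟨PM⟩ := nonempty_homPB hX hV hfp π M A A'
  obtain ⟨PN⟩ := nonempty_homPB hX hV hfp π N A A'
  obtain ⟨Pu, ψ, hψ, hψnat, hPu⟩ := PM.exists_pbMap PN u
  haveI := A.aff₀
  have hbij : ∀ (P : HomPB π E N A), Function.Bijective (P.he.β (slMk (𝟙 A.x₀)) A.aff₀) := fun P =>
    P.he.bij _ _ (by show Flat (bmap 𝒱 (𝟙 A.x₀)); rw [bmap_id]; infer_instance)
  have hkill : Pu = 0 := by
    rw [isGenFam_iff] at hF
    refine hF Pu fun j φ => eq_zero_of_affine hV PB.isCartesian_toMod _ fun x hx m => ?_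
    refine (PN.pb.secFam x ⊤).injective ?_
    rw [map_zero]
    refine PB.fam_ext fun v hv p α e => ?_
    show PN.pb.evG hv p α ((Pu.hom.app x).app ⊤ ((φ.app x).app ⊤ m)) = 0
    refine (hPu x hx _ hv p α).trans ((congrArg (ψ (slMk p) hv) (PM.lam_evG φ hv p α m)).trans ?_)
    generalize (F j).obj.mapTop α m = m'
    obtain ⟨b, hb⟩ := PM.exists_biFam φ hX
    haveI := hv
    refine induction_topMap (F j).property.1 (F j).property.2 p m'
      (p := fun m' => ψ (slMk p) hv (PM.lam φ hv p m') = 0) (by rw [PM.lam_zero, map_zero]) (fun r m₀ => ?_)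
      (fun a b ha hb => by rw [PM.lam_add, map_add, ha, hb, add_zero])
    rw [PM.lam_smul, map_smul]
    refine (congrArg _ ?_).trans (smul_zero (show Fn (slMk p) from r))
    rw [← PM.lam_map φ hv A.aff₀ p (Category.comp_id p) m₀]
    let k₀ : slMk p ⟶ slMk (𝟙 A.x₀) := slHom p (Category.comp_id p)
    show ψ (slMk p) hv (PM.he.G.obj.mapTop k₀ (PM.lam φ A.aff₀ (𝟙 A.x₀) m₀)) = 0
    have h0 : ψ (slMk (𝟙 A.x₀)) A.aff₀ (PM.lam φ A.aff₀ (𝟙 A.x₀) m₀) = 0 := by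
      refine (hbij PN).1 ?_
      rw [hψ, map_zero]
      refine HomF.ext fun ξ hξ => LinearMap.ext fun e => ?_
      show (u.hom.app ξ.left).app ⊤
        ((PM.he.β (slMk (𝟙 A.x₀)) A.aff₀ (PM.lam φ A.aff₀ (𝟙 A.x₀) m₀)).at' ξ hξ e) = 0
      let c : π.obj ξ.left ⟶ A.x₀ := fibArr ξ
      have h₁ : PM.he.β (slMk c) (isAffine_image π ξ.left hξ)
          (PM.lam φ (isAffine_image π ξ.left hξ) c ((F j).obj.mapTop c m₀)) =
          HomF.res c (PM.he.β (slMk (𝟙 A.x₀)) A.aff₀ (PM.lam φ A.aff₀ (𝟙 A.x₀) m₀)) := by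
        rw [← PM.lam_map φ (isAffine_image π ξ.left hξ) A.aff₀ c (Category.comp_id c) m₀]
        exact PM.he.β_nat (slHom (s' := slMk c) (s := slMk (𝟙 A.x₀)) c (Category.comp_id c)) _ A.aff₀ _
      refine (congrArg (fun z => (u.hom.app ξ.left).app ⊤ z) (self_over ξ hξ _ e).symm).trans ?_
      refine (congrArg (fun T : HomF π E M (π.obj ξ.left) =>
        (u.hom.app ξ.left).app ⊤ (T.at' (self π ξ.left) hξ e)) h₁.symm).trans ?_
      show (u.hom.app ξ.left).app ⊤ (PM.om φ hξ c ((F j).obj.mapTop c m₀) e) = 0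
      exact (congrArg (fun z => (u.hom.app ξ.left).app ⊤ z) (hb ξ.left hξ c _ e).symm).trans (hu j b ξ.left hξ _ _)
    rw [hψnat k₀ hv A.aff₀, h0, Mod.mapTop_zero]
  obtain ⟨g, rfl⟩ := (PM.he.bij (slMk (𝟙 A.x₀)) A.aff₀
    (by show Flat (bmap 𝒱 (𝟙 A.x₀)); rw [bmap_id]; infer_instance)).2 θ
  obtain ⟨s, rfl⟩ := (PB.evG_id_bijective (P := PM.pb) A.aff₀ (𝟙 A.x₀)).2 g
  refine ((hψ _ _ _).symm.trans (congrArg (PN.he.β (slMk (𝟙 A.x₀)) A.aff₀)
    (hPu A.x₀ A.aff₀ s A.aff₀ (𝟙 A.x₀) (𝟙 A.x₀)).symm)).trans ?_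
  rw [hkill]
  show PN.he.β _ _ (PN.pb.evG A.aff₀ (𝟙 A.x₀) (𝟙 A.x₀) (0 : Sec PN.pb.toMod A.x₀)) = 0
  rw [PB.evG, map_zero]
  exact map_zero _

/-- Generation from generation over the chart of the target. -/
theorem eq_zero_of_chart (hX : FibCat.IsFibGrpd 𝒳.p) (hV : FibCat.IsFibGrpd 𝒱.p) (A : Atlas3 𝒱)
    (A' : Atlas (fibCat π A.x₀)) {ι : Type t} (E : ι → QCoh 𝒳) (hfp : ∀ i, (E i).obj.IsFinPres)
    (hfib : IsGenFam (fun i => (comapQ (fibFst π A.x₀)).obj (E i))) {κ : Type t} (F : κ → QCoh 𝒱) (hF : IsGenFam F)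
    (u : M ⟶ N)
    (hu : ∀ (i : ι) (j : κ) (b : BiFam π (F j) (E i) M) (ξ : 𝒳.obj) (hξ : IsAffine (sch 𝒳 ξ)) m e,
      (u.hom.app ξ).app ⊤ (b.B ξ hξ m e) = 0) : u = 0 := by
  have hg := isFibGrpd_fibCat hX π A.x₀
  have h0 : (comapQ (fibFst π A.x₀)).map u = 0 := by
    rw [isGenFam_iff] at hfib
    refine hfib _ fun i φ => eq_zero_of_affine hg (isCartesian_comap N.property.1) _ fun ξ hξ e => ?_
    let θ : HomF π (E i) M A.x₀ := ⟨fun η =>
        { toFun := fun m => (φ.app η.1).app ⊤ m, map_add' := fun a b => map_add _ a b,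
          map_smul' := fun r a => (φ.app η.1).app_smul r a },
      fun {η' η} k m => (Mod.mapTop_app φ k m).symm⟩
    have h := kill_chart hX hV (hfp i) A A' F hF u (hu i) θ
    exact congrArg (fun h : HomF π (E i) N A.x₀ => h.at' ξ hξ e) h
  refine InducedCategory.hom_ext (eq_zero_of_affine hX N.property.1 u.hom fun ξ hξ m => ?_)
  obtain ⟨𝒰, -, hl⟩ := A.loc (π.obj ξ) (isAffine_image π ξ hξ)
  obtain ⟨𝒲, -, h𝒲⟩ := exists_cover_over hX hV hξ 𝒰
  haveI := hξ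
  refine 𝒲.eq_zero N.property.1 N.property.2 _ fun n => ?_
  obtain ⟨l, t, -⟩ := h𝒲 n
  rw [Mod.mapTop_app]
  have h₂ := congrArg InducedCategory.Hom.hom h0
  exact congrArg (fun k : Mod.comap (fibFst π A.x₀) M.obj ⟶ Mod.comap (fibFst π A.x₀) N.obj =>
    (k.app (CostructuredArrow.mk (t ≫ (hl l).some))).app ⊤ (M.obj.mapTop (𝒲.map n) m))
    h₂

end Groth.L23.RelGen
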