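import Groth.Agent.L23.RelGen.DD
import Mathlib.Algebra.Module.Shrink
import Mathlib.Algebra.Category.ModuleCat.Presheaf
import Mathlib.Logic.Small.Basic

/-!
# The sheaf of compatible families of a descent datum
-/

universe t w v u

open CategoryTheory CategoryTheory.Limits AlgebraicGeometry Opposite TopologicalSpace

set_option backward.isDefEq.respectTransparency false
set_option backward.isDefEq.respectTransparency.types false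
set_option linter.style.haveILetI false
set_option linter.unusedSectionVars false

noncomputable section

namespace Groth.L23.RelGen

open StMod

variable {S : Scheme.{u}} {𝒱 : BasedCategory.{v, w} (Over S)}

/-- A descent datum over a chart with local lifts. -/
structure PB (x₀ : 𝒱.obj) where
  /-- the module on the slice -/
  G : QCoh (Sl x₀)
  /-- the identifications -/
  D : DD G
  fib : FibCat.IsFibGrpd 𝒱.p
  aff₀ : IsAffine (sch 𝒱 x₀)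
  loc : ∀ (x : 𝒱.obj), IsAffine (sch 𝒱 x) → ∃ 𝒰 : Cover x, Finite 𝒰.ι ∧ ∀ l, Nonempty (𝒰.obj l ⟶ x₀)

theorem appLE_of_comp {v' v x : 𝒱.obj} (k : v' ⟶ v) (α : v ⟶ x) (α' : v' ⟶ x) (hα : k ≫ α = α')
    {U : (sch 𝒱 x).Opens} (e : ⊤ ≤ bmap 𝒱 α ⁻¹ᵁ U) (e' : ⊤ ≤ bmap 𝒱 α' ⁻¹ᵁ U) (r : Γ(sch 𝒱 x, U)) :
    fnMap k ((bmap 𝒱 α).appLE U ⊤ e r) = (bmap 𝒱 α').appLE U ⊤ e' r := by
  subst hα
  have key : ∀ (g : sch 𝒱 v' ⟶ sch 𝒱 x) (_ : bmap 𝒱 (k ≫ α) = g) (e'' : ⊤ ≤ g ⁻¹ᵁ U),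
      (bmap 𝒱 (k ≫ α)).appLE U ⊤ e' r = g.appLE U ⊤ e'' r := by
    rintro g rfl e''; rfl
  have e₁ : (⊤ : (sch 𝒱 v').Opens) ≤ bmap 𝒱 k ⁻¹ᵁ (⊤ : (sch 𝒱 v).Opens) := le_top
  rw [key _ (bmap_comp k α) (e₁.trans ((bmap 𝒱 k).preimage_mono e)),
    ← Scheme.Hom.appLE_comp_appLE (bmap 𝒱 k) (bmap 𝒱 α) U ⊤ ⊤ e e₁]
  show fnMap k _ = (bmap 𝒱 k).appLE ⊤ ⊤ e₁ _
  rw [fnMap, show (bmap 𝒱 k).appTop = (bmap 𝒱 k).appLE ⊤ ⊤ e₁ from
    Scheme.Hom.app_eq_appLE (bmap 𝒱 k) (U := ⊤)]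
  rfl

namespace PB

variable {x₀ : 𝒱.obj} (P : PB x₀) (x : 𝒱.obj) (U : (sch 𝒱 x).Opens)

/-- Lifts landing in an open. -/
structure Idx (x₀ x : 𝒱.obj) (U : (sch 𝒱 x).Opens) where
  /-- the source -/
  v : 𝒱.obj
  aff : IsAffine (sch 𝒱 v)
  /-- the lift -/
  p : v ⟶ x₀
  /-- the map -/
  α : v ⟶ x
  le : (⊤ : (sch 𝒱 v).Opens) ≤ bmap 𝒱 α ⁻¹ᵁ U

/-- Families of sections on lifts landing in an open. -/
abbrev Raw : Type (max w v u) := ∀ j : Idx x₀ x U, Sec P.G.obj (slMk j.p)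

/-- Compatibility of a family. -/
def IsFamily (s : P.Raw x U) : Prop :=
  (∀ {v' v : 𝒱.obj} (hv' : IsAffine (sch 𝒱 v')) (hv : IsAffine (sch 𝒱 v)) (k : v' ⟶ v) {p : v ⟶ x₀}
      {p' : v' ⟶ x₀} {α : v ⟶ x} {α' : v' ⟶ x} (hp : k ≫ p = p') (_ : k ≫ α = α') (e) (e'),
      P.G.obj.mapTop (slHom (s' := slMk p') (s := slMk p) k hp) (s ⟨v, hv, p, α, e⟩) = s ⟨v', hv', p', α', e'⟩) ∧
  ∀ {v : 𝒱.obj} (hv : IsAffine (sch 𝒱 v)) (p q : v ⟶ x₀) (α : v ⟶ x) (e),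
      P.D.T hv p q (s ⟨v, hv, p, α, e⟩) = s ⟨v, hv, q, α, e⟩

/-- The group of compatible families. -/
def famGroup : AddSubgroup (P.Raw x U) where
  carrier := {s | P.IsFamily x U s}
  zero_mem' := ⟨fun {v' v} hv' hv k {p p' α α'} hp hα e e' => Mod.mapTop_zero _ _, fun {v} hv p q α e => map_zero _⟩
  add_mem' := fun {a b} ha hb => ⟨fun {v' v} hv' hv k {p p' α α'} hp hα e e' =>
      (Mod.mapTop_add _ _ _ _).trans (congrArg₂ (· + ·) (ha.1 hv' hv k hp hα e e') (hb.1 hv' hv k hp hα e e')),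
    fun {v} hv p q α e => (map_add _ _ _).trans (congrArg₂ (· + ·) (ha.2 hv p q α e) (hb.2 hv p q α e))⟩
  neg_mem' := fun {a} ha => ⟨fun {v' v} hv' hv k {p p' α α'} hp hα e e' =>
      (map_neg (topMap P.G.obj (slHom (s' := slMk p') (s := slMk p) k hp)) _).trans
        (congrArg (fun m => -m) (ha.1 hv' hv k hp hα e e')),
    fun {v} hv p q α e => (map_neg _ _).trans (congrArg (fun m => -m) (ha.2 hv p q α e))⟩

/-- Compatible families. -/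
abbrev Fam : Type (max w v u) := ↥(famGroup P x U)

variable {P x U}

/-- Evaluation of a family. -/
def ev (s : P.Fam x U) {v : 𝒱.obj} (hv : IsAffine (sch 𝒱 v)) (p : v ⟶ x₀) (α : v ⟶ x)
    (e : (⊤ : (sch 𝒱 v).Opens) ≤ bmap 𝒱 α ⁻¹ᵁ U) : Sec P.G.obj (slMk p) := s.1 ⟨v, hv, p, α, e⟩

theorem ev_map (s : P.Fam x U) {v' v : 𝒱.obj} (hv' : IsAffine (sch 𝒱 v')) (hv : IsAffine (sch 𝒱 v)) (k : v' ⟶ v)
    {p : v ⟶ x₀} {p' : v' ⟶ x₀} {α : v ⟶ x} {α' : v' ⟶ x} (hp : k ≫ p = p') (hα : k ≫ α = α')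
    (e : (⊤ : (sch 𝒱 v).Opens) ≤ bmap 𝒱 α ⁻¹ᵁ U) (e' : (⊤ : (sch 𝒱 v').Opens) ≤ bmap 𝒱 α' ⁻¹ᵁ U) :
    P.G.obj.mapTop (slHom (s' := slMk p') (s := slMk p) k hp) (ev s hv p α e) = ev s hv' p' α' e' :=
  s.2.1 hv' hv k hp hα e e'

theorem ev_tw (s : P.Fam x U) {v : 𝒱.obj} (hv : IsAffine (sch 𝒱 v)) (p q : v ⟶ x₀) (α : v ⟶ x)
    (e : (⊤ : (sch 𝒱 v).Opens) ≤ bmap 𝒱 α ⁻¹ᵁ U) : P.D.T hv p q (ev s hv p α e) = ev s hv q α e :=
  s.2.2 hv p q α e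

theorem fam_ext {s t : P.Fam x U} (h : ∀ (v : 𝒱.obj) (hv : IsAffine (sch 𝒱 v)) (p : v ⟶ x₀) (α : v ⟶ x) e,
    ev s hv p α e = ev t hv p α e) : s = t :=
  Subtype.ext (funext fun j => h j.v j.aff j.p j.α j.le)

/-- A function times a family. -/
def smulFam (r : Γ(sch 𝒱 x, U)) (s : P.Fam x U) : P.Fam x U :=
  ⟨fun j => (show Fn (slMk j.p) from (bmap 𝒱 j.α).appLE U ⊤ j.le r) • ev s j.aff j.p j.α j.le,
    fun {v' v} hv' hv k {p p' α α'} hp hα e e' => by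
      refine (Mod.mapTop_smul P.G.obj _ _ _).trans ?_
      exact congrArg₂ (fun (a : Fn (slMk p')) m => a • m) (appLE_of_comp k α α' hα e e' r)
        (ev_map s hv' hv k hp hα e e'),
    fun {v} hv p q α e => (P.D.T_smul hv p q _ _).trans (congrArg _ (ev_tw s hv p q α e))⟩

instance famModule : Module Γ(sch 𝒱 x, U) (P.Fam x U) where
  smul := smulFam
  one_smul s := fam_ext fun v hv p α e => by
    show (show Fn (slMk p) from (bmap 𝒱 α).appLE U ⊤ e 1) • ev s hv p α e = _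
    rw [map_one]
    exact one_smul (Fn (slMk p)) _
  mul_smul r r' s := fam_ext fun v hv p α e => by
    show (show Fn (slMk p) from (bmap 𝒱 α).appLE U ⊤ e (r * r')) • ev s hv p α e = _
    rw [map_mul]
    exact mul_smul (show Fn (slMk p) from (bmap 𝒱 α).appLE U ⊤ e r)
      (show Fn (slMk p) from (bmap 𝒱 α).appLE U ⊤ e r') _
  smul_zero r := fam_ext fun v hv p α e => smul_zero (show Fn (slMk p) from (bmap 𝒱 α).appLE U ⊤ e r)
  smul_add r s t := fam_ext fun v hv p α e =>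
    smul_add (show Fn (slMk p) from (bmap 𝒱 α).appLE U ⊤ e r) _ _
  add_smul r r' s := fam_ext fun v hv p α e => by
    show (show Fn (slMk p) from (bmap 𝒱 α).appLE U ⊤ e (r + r')) • ev s hv p α e = _
    rw [map_add]
    exact add_smul (show Fn (slMk p) from (bmap 𝒱 α).appLE U ⊤ e r)
      (show Fn (slMk p) from (bmap 𝒱 α).appLE U ⊤ e r') _
  zero_smul s := fam_ext fun v hv p α e => by
    show (show Fn (slMk p) from (bmap 𝒱 α).appLE U ⊤ e 0) • ev s hv p α e = _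
    rw [map_zero]
    exact zero_smul (Fn (slMk p)) _

theorem ev_smul (r : Γ(sch 𝒱 x, U)) (s : P.Fam x U) {v : 𝒱.obj} (hv : IsAffine (sch 𝒱 v)) (p : v ⟶ x₀)
    (α : v ⟶ x) (e : (⊤ : (sch 𝒱 v).Opens) ≤ bmap 𝒱 α ⁻¹ᵁ U) :
    ev (r • s) hv p α e = (show Fn (slMk p) from (bmap 𝒱 α).appLE U ⊤ e r) • ev s hv p α e := rfl

theorem ev_add (s t : P.Fam x U) {v : 𝒱.obj} (hv : IsAffine (sch 𝒱 v)) (p : v ⟶ x₀) (α : v ⟶ x)
    (e : (⊤ : (sch 𝒱 v).Opens) ≤ bmap 𝒱 α ⁻¹ᵁ U) : ev (s + t) hv p α e = ev s hv p α e + ev t hv p α e := rfl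

theorem ev_zero {v : 𝒱.obj} (hv : IsAffine (sch 𝒱 v)) (p : v ⟶ x₀) (α : v ⟶ x)
    (e : (⊤ : (sch 𝒱 v).Opens) ≤ bmap 𝒱 α ⁻¹ᵁ U) : ev (0 : P.Fam x U) hv p α e = 0 := rfl

variable (P)

/-- Restriction of families. -/
def resFam {U V : (sch 𝒱 x).Opens} (h : V ≤ U) : P.Fam x U →+ P.Fam x V where
  toFun s := ⟨fun j => ev s j.aff j.p j.α (j.le.trans ((bmap 𝒱 j.α).preimage_mono h)),
    fun {v' v} hv' hv k {p p' α α'} hp hα e e' => ev_map s hv' hv k hp hα _ _, fun {v} hv p q α e => ev_tw s hv p q α _⟩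
  map_zero' := rfl
  map_add' _ _ := rfl

theorem le_of_comp {x' x : 𝒱.obj} (φ : x' ⟶ x) {g : sch 𝒱 x' ⟶ sch 𝒱 x} (hg : bmap 𝒱 φ = g)
    {U : (sch 𝒱 x).Opens} {v : 𝒱.obj} (α : v ⟶ x') (e : (⊤ : (sch 𝒱 v).Opens) ≤ bmap 𝒱 α ⁻¹ᵁ (g ⁻¹ᵁ U)) :
    (⊤ : (sch 𝒱 v).Opens) ≤ bmap 𝒱 (α ≫ φ) ⁻¹ᵁ U := by
  subst hg
  rw [bmap_comp, Scheme.Hom.comp_preimage]
  exact e

/-- Composition of families with a morphism. -/
def mapFam {x' x : 𝒱.obj} (φ : x' ⟶ x) {g : sch 𝒱 x' ⟶ sch 𝒱 x} (hg : bmap 𝒱 φ = g) (U : (sch 𝒱 x).Opens) :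
    P.Fam x U →+ P.Fam x' (g ⁻¹ᵁ U) where
  toFun s := ⟨fun j => ev s j.aff j.p (j.α ≫ φ) (le_of_comp φ hg j.α j.le),
    fun {v' v} hv' hv k {p p' α α'} hp hα e e' => ev_map s hv' hv k hp (by rw [← Category.assoc, hα]) _ _,
    fun {v} hv p q α e => ev_tw s hv p q _ _⟩
  map_zero' := rfl
  map_add' _ _ := rfl

theorem ev_mapFam {x' x : 𝒱.obj} (φ : x' ⟶ x) {g : sch 𝒱 x' ⟶ sch 𝒱 x} (hg : bmap 𝒱 φ = g)
    {U : (sch 𝒱 x).Opens} (s : P.Fam x U) {v : 𝒱.obj} (hv : IsAffine (sch 𝒱 v)) (p : v ⟶ x₀) (α : v ⟶ x')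
    (e : (⊤ : (sch 𝒱 v).Opens) ≤ bmap 𝒱 α ⁻¹ᵁ (g ⁻¹ᵁ U)) :
    ev (P.mapFam φ hg U s) hv p α e = ev s hv p (α ≫ φ) (le_of_comp φ hg α e) := rfl

variable {P}

/-- An affine object is covered by affine objects over the members of an open cover. -/
theorem exists_openCover {v : 𝒱.obj} [IsAffine (sch 𝒱 v)] (h : FibCat.IsFibGrpd 𝒱.p) {ι : Type*}
    (W : ι → (sch 𝒱 v).Opens) (hW : ∀ q, ∃ i, q ∈ W i) :
    ∃ 𝒲 : Cover v, Finite 𝒲.ι ∧ ∀ l, ∃ i, (⊤ : (sch 𝒱 (𝒲.obj l)).Opens) ≤ bmap 𝒱 (𝒲.map l) ⁻¹ᵁ W i := by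
  choose i hi using hW
  choose A hA hqA hAW using fun q => exists_isAffineOpen_mem_and_subset (hi q)
  obtain ⟨s, hs⟩ := (isCompact_univ : IsCompact (Set.univ : Set (sch 𝒱 v))).elim_finite_subcover
    (fun q => (A q : Set (sch 𝒱 v))) (fun q => (A q).2) fun q _ => Set.mem_iUnion.2 ⟨q, hqA q⟩
  choose y r hr hrange haff using fun q => exists_restrict h v (A q)
  haveI := hr
  refine ⟨⟨ULift.{u} (Fin s.card), fun l => y (s.equivFin.symm l.down).1, fun l => r (s.equivFin.symm l.down).1,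
    fun l => haff _ (hA _), ⟨fun l => inferInstance, fun q => ?_⟩⟩, (inferInstance : Finite (ULift.{u} (Fin s.card))),
    fun l => ⟨i (s.equivFin.symm l.down).1, fun q _ => hAW _ ((hrange _).subset ⟨q, rfl⟩)⟩⟩
  obtain ⟨q', hq', hq⟩ : ∃ q' ∈ s, q ∈ A q' := by simpa using hs (Set.mem_univ q)
  obtain ⟨a, ha⟩ := (hrange q').symm.subset hq
  obtain ⟨l, hl⟩ : ∃ l, s.equivFin.symm l = ⟨q', hq'⟩ := s.equivFin.symm.surjective _
  obtain rfl : (s.equivFin.symm l).1 = q' := by rw [hl]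
  exact ⟨⟨l⟩, a, ha⟩

section Small

variable (P x U)

/-- Affine opens inside an open. -/
abbrev AffIn : Type u := {W : (sch 𝒱 x).Opens // IsAffineOpen W ∧ W ≤ U}

/-- The object over an open inside. -/
def pieceObj (W : AffIn x U) : 𝒱.obj := (exists_restrict P.fib x W.1).choose

/-- The morphism from the object over an open inside. -/
def pieceMap (W : AffIn x U) : P.pieceObj x U W ⟶ x := (exists_restrict P.fib x W.1).choose_spec.choose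

theorem pieceMap_spec (W : AffIn x U) : IsOpenImmersion (bmap 𝒱 (P.pieceMap x U W)) ∧
    Set.range (bmap 𝒱 (P.pieceMap x U W)) = (W.1 : Set (sch 𝒱 x)) ∧ IsAffine (sch 𝒱 (P.pieceObj x U W)) :=
  ⟨(exists_restrict P.fib x W.1).choose_spec.choose_spec.1, (exists_restrict P.fib x W.1).choose_spec.choose_spec.2.1,
    (exists_restrict P.fib x W.1).choose_spec.choose_spec.2.2 W.2.1⟩

/-- A cover by lifts of the object over an open inside. -/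
def pieceCover (W : AffIn x U) : Cover (P.pieceObj x U W) :=
  (P.loc _ (P.pieceMap_spec x U W).2.2).choose

/-- The lift of a member. -/
def pieceLift (W : AffIn x U) (l : (P.pieceCover x U W).ι) : (P.pieceCover x U W).obj l ⟶ x₀ :=
  ((P.loc _ (P.pieceMap_spec x U W).2.2).choose_spec.2 l).some

theorem le_piece (W : AffIn x U) (l : (P.pieceCover x U W).ι) :
    (⊤ : (sch 𝒱 ((P.pieceCover x U W).obj l)).Opens) ≤
      bmap 𝒱 ((P.pieceCover x U W).map l ≫ P.pieceMap x U W) ⁻¹ᵁ U := by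
  intro q _
  rw [bmap_comp]
  exact W.2.2 ((P.pieceMap_spec x U W).2.1.subset ⟨_, rfl⟩)

/-- The values on the chosen lifts. -/
def probe (s : P.Fam x U) : ∀ j : Σ W : AffIn x U, (P.pieceCover x U W).ι,
    Sec P.G.obj (slMk (P.pieceLift x U j.1 j.2)) :=
  fun j => ev s ((P.pieceCover x U j.1).affine j.2) (P.pieceLift x U j.1 j.2)
    ((P.pieceCover x U j.1).map j.2 ≫ P.pieceMap x U j.1) (P.le_piece x U j.1 j.2)

variable {P x U}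

theorem ev_zero_of_factor (s : P.Fam x U) (h0 : ∀ j, P.probe x U s j = 0) (W : AffIn x U) {v : 𝒱.obj}
    (hv : IsAffine (sch 𝒱 v)) (t : v ⟶ P.pieceObj x U W) (p : v ⟶ x₀) {α : v ⟶ x}
    (ht : t ≫ P.pieceMap x U W = α) (e : (⊤ : (sch 𝒱 v).Opens) ≤ bmap 𝒱 α ⁻¹ᵁ U) : ev s hv p α e = 0 := by
  haveI := hv
  haveI := (P.pieceMap_spec x U W).2.2
  haveI : IsAffine (sch (Sl x₀) (slMk p)) := hv
  obtain ⟨𝒵, -, h𝒵⟩ := (P.pieceCover x U W).exists_pullback P.fib t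
  refine (slCover 𝒵 p).eq_zero P.G.property.1 P.G.property.2 _ fun j => ?_
  obtain ⟨l, t', ht'⟩ := h𝒵 j
  have e₂ : (⊤ : (sch 𝒱 (𝒵.obj j)).Opens) ≤ bmap 𝒱 (𝒵.map j ≫ α) ⁻¹ᵁ U := by
    rw [bmap_comp, Scheme.Hom.comp_preimage]
    exact le_top.trans ((bmap 𝒱 (𝒵.map j)).preimage_mono e)
  have h₁ := ev_map s (𝒵.affine j) hv (𝒵.map j) (p := p) (p' := 𝒵.map j ≫ p) (α' := 𝒵.map j ≫ α) rfl rfl e e₂
  have h₂ := ev_tw s (𝒵.affine j) (t' ≫ P.pieceLift x U W l) (𝒵.map j ≫ p) _ e₂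
  have h₃ := ev_map s (𝒵.affine j) ((P.pieceCover x U W).affine l) t' (p := P.pieceLift x U W l)
    (p' := t' ≫ P.pieceLift x U W l) (α := (P.pieceCover x U W).map l ≫ P.pieceMap x U W) rfl
    (by rw [← Category.assoc, ht', Category.assoc, ht]) (P.le_piece x U W l) e₂
  have h₄ : ev s ((P.pieceCover x U W).affine l) (P.pieceLift x U W l) _ (P.le_piece x U W l) = 0 := h0 ⟨W, l⟩
  refine h₁.trans (h₂.symm.trans ?_)
  rw [← h₃, h₄, Mod.mapTop_zero, map_zero]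

theorem ev_eq_zero_of_probe (s : P.Fam x U) (h0 : ∀ j, P.probe x U s j = 0) {v : 𝒱.obj} (hv : IsAffine (sch 𝒱 v))
    (p : v ⟶ x₀) (α : v ⟶ x) (e : (⊤ : (sch 𝒱 v).Opens) ≤ bmap 𝒱 α ⁻¹ᵁ U) : ev s hv p α e = 0 := by
  haveI := hv
  haveI : IsAffine (sch (Sl x₀) (slMk p)) := hv
  obtain ⟨𝒲, -, h𝒲⟩ := exists_openCover P.fib (fun W : AffIn x U => bmap 𝒱 α ⁻¹ᵁ W.1) fun q => by
    have hq : bmap 𝒱 α q ∈ U := e (show q ∈ (⊤ : (sch 𝒱 v).Opens) from trivial)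
    obtain ⟨W, hW, hqW, hWU⟩ := exists_isAffineOpen_mem_and_subset hq
    exact ⟨⟨W, hW, hWU⟩, hqW⟩
  refine (slCover 𝒲 p).eq_zero P.G.property.1 P.G.property.2 _ fun i => ?_
  obtain ⟨W, hW⟩ := h𝒲 i
  have e₁ : (⊤ : (sch 𝒱 (𝒲.obj i)).Opens) ≤ bmap 𝒱 (𝒲.map i ≫ α) ⁻¹ᵁ U := by
    rw [bmap_comp, Scheme.Hom.comp_preimage]
    exact le_top.trans ((bmap 𝒱 (𝒲.map i)).preimage_mono e)
  haveI := (P.pieceMap_spec x U W).1
  obtain ⟨t, ht⟩ := exists_factor_open P.fib (𝒲.map i ≫ α) (P.pieceMap x U W) (by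
    rw [(P.pieceMap_spec x U W).2.1]
    rintro _ ⟨q, rfl⟩
    rw [bmap_comp]
    exact hW (show q ∈ (⊤ : (sch 𝒱 (𝒲.obj i)).Opens) from trivial))
  exact (ev_map s (𝒲.affine i) hv (𝒲.map i) (α' := 𝒲.map i ≫ α) rfl rfl e e₁).trans
    (ev_zero_of_factor s h0 W (𝒲.affine i) t (𝒲.map i ≫ p) ht e₁)

theorem probe_injective : Function.Injective (P.probe x U) := fun s t hst => by
  refine fam_ext fun v hv p α e => sub_eq_zero.1 ?_
  exact ev_eq_zero_of_probe (s - t) (fun j => sub_eq_zero.2 (congrFun hst j)) hv p α e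

instance small_fam : Small.{u} (P.Fam x U) := small_of_injective (probe_injective (P := P) (x := x) (U := U))

end Small

end PB

end Groth.L23.RelGen
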