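import Groth.Agent.L23.RelGen.FamFlat

/-!
# Base change of families between affine objects
-/

universe w v u

open CategoryTheory CategoryTheory.Limits AlgebraicGeometry Opposite TopologicalSpace
open scoped TensorProduct

set_option backward.isDefEq.respectTransparency false
set_option backward.isDefEq.respectTransparency.types false
set_option linter.style.haveILetI false
set_option linter.unusedSectionVars false

noncomputable section

namespace Groth.L23.RelGen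

open StMod

variable {S : Scheme.{u}} {𝒱 : BasedCategory.{v, w} (Over S)}

namespace PB

variable {x₀ : 𝒱.obj} {P : PB x₀}

theorem flat_fnMap {q x : 𝒱.obj} (a : q ⟶ x) (hq : IsAffine (sch 𝒱 q)) (hx : IsAffine (sch 𝒱 x))
    (h : Flat (bmap 𝒱 a)) :
    letI := (fnMap a).toAlgebra
    Module.Flat (Fn x) (Fn q) := by
  haveI := hq
  haveI := hx
  haveI := h
  exact fnMap_flat a

/-- Compatibility of the two base changes to a piece. -/
theorem bc_piece {x' x Q : 𝒱.obj} (φ : x' ⟶ x) (a : Q ⟶ x') (hQ : IsAffine (sch 𝒱 Q)) (q : Q ⟶ x₀) :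
    letI := (fnMap φ).toAlgebra
    letI := (fnMap a).toAlgebra
    ∀ (f : Fn x' ⊗[Fn x] Sec P.toMod x →ₗ[Fn x'] Sec P.toMod x'),
      (∀ r s, f (r ⊗ₜ s) = r • P.toMod.mapTop φ s) →
    ∀ (E₁ : Fn Q ⊗[Fn x'] (Fn x' ⊗[Fn x] Sec P.toMod x) ≃+ Sec P.G.obj (slMk q)),
      (∀ b r s, E₁ (b ⊗ₜ (r ⊗ₜ s)) = (show Fn (slMk q) from b * fnMap a r) • P.evG hQ q (a ≫ φ) s) →
    ∀ (E₂ : Fn Q ⊗[Fn x'] Sec P.toMod x' ≃+ Sec P.G.obj (slMk q)),
      (∀ b s, E₂ (b ⊗ₜ s) = (show Fn (slMk q) from b) • P.evG hQ q a s) →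
    ∀ b n, E₂ (b ⊗ₜ f n) = E₁ (b ⊗ₜ n) := by
  letI := (fnMap φ).toAlgebra
  letI := (fnMap a).toAlgebra
  intro f hf E₁ hE₁ E₂ hE₂ b n
  induction n using TensorProduct.induction_on with
  | zero => rw [map_zero, TensorProduct.tmul_zero, TensorProduct.tmul_zero, map_zero, map_zero]
  | tmul r s =>
    rw [hf, hE₂, hE₁, evG_smul, evG_mapTop]
    exact (mul_smul (show Fn (slMk q) from b) (show Fn (slMk q) from fnMap a r) _).symm
  | add n n' h h' => rw [map_add, TensorProduct.tmul_add, TensorProduct.tmul_add, map_add, map_add, h, h']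

/-- The first base change to a piece. -/
theorem exists_pieceEquiv {x' x vl Q : 𝒱.obj} [IsAffine (sch 𝒱 x)] [IsAffine (sch 𝒱 vl)] [IsAffine (sch 𝒱 Q)]
    (φ : x' ⟶ x) (a : Q ⟶ x') (b : Q ⟶ vl) (ml : vl ⟶ x) [Flat (bmap 𝒱 ml)] (e : a ≫ φ = b ≫ ml)
    (pl : vl ⟶ x₀) :
    letI := (fnMap φ).toAlgebra
    letI := (fnMap a).toAlgebra
    ∃ E : Fn Q ⊗[Fn x'] (Fn x' ⊗[Fn x] Sec P.toMod x) ≃+ Sec P.G.obj (slMk (b ≫ pl)),
      ∀ c r s, E (c ⊗ₜ (r ⊗ₜ s)) = (show Fn (slMk (b ≫ pl)) from c * fnMap a r) •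
        P.evG ‹IsAffine (sch 𝒱 Q)› (b ≫ pl) (a ≫ φ) s := by
  obtain ⟨E₁, hE₁⟩ := exists_flatEquiv (P := P) ml pl
  haveI : IsAffine (sch (Sl x₀) (slMk pl)) := ‹IsAffine (sch 𝒱 vl)›
  haveI : IsAffine (sch (Sl x₀) (slMk (b ≫ pl))) := ‹IsAffine (sch 𝒱 Q)›
  obtain ⟨E₂, hE₂⟩ := exists_bcEquiv P.G.property.1 P.G.property.2
    (slHom (s' := slMk (b ≫ pl)) (s := slMk pl) b rfl)
  letI := (fnMap φ).toAlgebra
  letI := (fnMap a).toAlgebra
  letI := (fnMap ml).toAlgebra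
  letI := (fnMap b).toAlgebra
  letI : Module (Fn vl) (Sec P.G.obj (slMk pl)) := (inferInstance : Module (Fn (slMk pl)) (Sec P.G.obj (slMk pl)))
  letI : Module (Fn Q) (Sec P.G.obj (slMk (b ≫ pl))) :=
    (inferInstance : Module (Fn (slMk (b ≫ pl))) (Sec P.G.obj (slMk (b ≫ pl))))
  have hcomm : ∀ r, fnMap a (fnMap φ r) = fnMap b (fnMap ml r) := fun r => by
    rw [← fnMap_comp_apply, ← fnMap_comp_apply, e]
  obtain ⟨E, hE⟩ := exists_bc_trans (R := Fn x) (R' := Fn x') (V := Fn vl) (B := Fn Q) hcomm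
    (P.evG ‹IsAffine (sch 𝒱 vl)› pl ml) E₁ hE₁
    (P.G.obj.mapTop (slHom (s' := slMk (b ≫ pl)) (s := slMk pl) b rfl))
    (fun r n => Mod.mapTop_smul P.G.obj (slHom (s' := slMk (b ≫ pl)) (s := slMk pl) b rfl) r n) E₂ hE₂
  refine ⟨E, fun c r s => ?_⟩
  rw [hE, evG_map ‹IsAffine (sch 𝒱 Q)› ‹IsAffine (sch 𝒱 vl)› b rfl e.symm]
  rfl

set_option maxHeartbeats 800000 in
/-- Families base change between affine objects. -/
theorem exists_affineEquiv {x' x : 𝒱.obj} [IsAffine (sch 𝒱 x')] [IsAffine (sch 𝒱 x)] (φ : x' ⟶ x) :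
    letI := (fnMap φ).toAlgebra
    ∃ E : Fn x' ⊗[Fn x] Sec P.toMod x ≃+ Sec P.toMod x',
      ∀ r s, E (r ⊗ₜ s) = r • P.toMod.mapTop φ s := by
  obtain ⟨𝒰, hfin, hl⟩ := P.loc x inferInstance
  haveI := 𝒰.affine
  choose pl hpl using fun l => (⟨(hl l).some, trivial⟩ : ∃ _ : 𝒰.obj l ⟶ x₀, True)
  obtain ⟨Q, a, b, hQ, HQ, hcov⟩ := exists_squareCover P.fib 𝒰 φ
  haveI := hQ
  letI := (fnMap φ).toAlgebra
  letI : ∀ l, Algebra (Fn x') (Fn (Q l)) := fun l => (fnMap (a l)).toAlgebra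
  haveI : ∀ l, Module.Flat (Fn x') (Fn (Q l)) := fun l => flat_fnMap (a l) (hQ l) inferInstance (hcov.flat l)
  letI : Module (Fn x) (Sec P.toMod x') := Module.compHom _ (fnMap φ)
  haveI : IsScalarTower (Fn x) (Fn x') (Sec P.toMod x') := IsScalarTower.of_algebraMap_smul fun _ _ => rfl
  let L : Sec P.toMod x →ₗ[Fn x] Sec P.toMod x' :=
    { toFun := P.toMod.mapTop φ, map_add' := P.toMod.mapTop_add φ, map_smul' := P.toMod.mapTop_smul φ }
  let f := L.liftBaseChange (Fn x')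
  have hf : ∀ r s, f (r ⊗ₜ s) = r • P.toMod.mapTop φ s := fun r s => LinearMap.liftBaseChange_tmul _ L r s
  choose E₁ hE₁ using fun l =>
    haveI := 𝒰.cov.flat l
    exists_pieceEquiv (P := P) φ (a l) (b l) (𝒰.map l) (HQ l).1 (pl l)
  choose E₂ hE₂ using fun l =>
    haveI := hcov.flat l
    exists_flatEquiv (P := P) (a l) (b l ≫ pl l)
  have hbij := bijective_of_descent (fun l => Fn (Q l))
    (Groth.L19.QCohFpqc.IsCov.prime_lift (fun l => bmap 𝒱 (a l)) hcov) f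
    (fun l => Sec P.G.obj (slMk (b l ≫ pl l))) E₁ E₂
    (fun l => bc_piece φ (a l) (hQ l) (b l ≫ pl l) f hf (E₁ l) (hE₁ l) (E₂ l) (hE₂ l))
  exact ⟨(LinearEquiv.ofBijective f hbij).toAddEquiv, hf⟩

end PB

end Groth.L23.RelGen
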