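import Groth.Agent.L23.RelGen.FamGlue
import Groth.Agent.L23.RelGen.BcAlg

/-!
# Base change of families to objects with lifts along flat morphisms
-/

universe w v u

open CategoryTheory CategoryTheory.Limits AlgebraicGeometry Opposite TopologicalSpace
open scoped TensorProduct

set_option backward.isDefEq.respectTransparency false
set_option backward.isDefEq.respectTransparency.types false
set_option linter.style.haveILetI false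
set_option linter.unusedSectionVars false

noncomputable section

namespace Groth.L23.RelGen

open StMod

variable {S : Scheme.{u}} {𝒱 : BasedCategory.{v, w} (Over S)}

namespace PB

variable {x₀ : 𝒱.obj} {P : PB x₀}

theorem fnMap_comp_apply {a b c : 𝒱.obj} (f : a ⟶ b) (g : b ⟶ c) (r : Fn c) :
    fnMap (f ≫ g) r = fnMap f (fnMap g r) := congrArg (fun k => k r) (fnMap_comp f g)

/-- Sections over a base change square of an object with a lift. -/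
theorem exists_bcSquareSl {q a b x : 𝒱.obj} {c : a ⟶ x} {d : b ⟶ x} {p₁ : q ⟶ a} {p₂ : q ⟶ b}
    [IsAffine (sch 𝒱 x)] [IsAffine (sch 𝒱 a)] [IsAffine (sch 𝒱 b)]
    (H : IsPullback (bmap 𝒱 p₁) (bmap 𝒱 p₂) (bmap 𝒱 c) (bmap 𝒱 d)) (p : b ⟶ x₀) :
    letI := (fnMap c).toAlgebra
    letI : Module (Fn x) (Sec P.G.obj (slMk p)) := Module.compHom _ (fnMap d)
    ∃ E : Fn a ⊗[Fn x] Sec P.G.obj (slMk p) ≃+ Sec P.G.obj (slMk (p₂ ≫ p)),
      ∀ r m, E (r ⊗ₜ m) = (show Fn (slMk (p₂ ≫ p)) from fnMap p₁ r) •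
        P.G.obj.mapTop (slHom (s' := slMk (p₂ ≫ p)) (s := slMk p) p₂ rfl) m := by
  haveI : IsAffine (sch 𝒱 q) := IsAffine.of_isIso H.isoPullback.hom
  haveI : IsAffine (sch (Sl x₀) (slMk p)) := ‹IsAffine (sch 𝒱 b)›
  haveI : IsAffine (sch (Sl x₀) (slMk (p₂ ≫ p))) := ‹IsAffine (sch 𝒱 q)›
  letI := (fnMap c).toAlgebra
  letI := (fnMap d).toAlgebra
  letI := (fnMap p₂).toAlgebra
  letI := (fnMap p₁).toAlgebra
  letI : Algebra (Fn x) (Fn q) := ((fnMap p₁).comp (fnMap c)).toAlgebra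
  haveI : IsScalarTower (Fn x) (Fn a) (Fn q) := IsScalarTower.of_algebraMap_eq fun _ => rfl
  have hsq := isPushout_appTop_of_isPullback H
  haveI : IsScalarTower (Fn x) (Fn b) (Fn q) := IsScalarTower.of_algebraMap_eq fun r => by
    exact congr($(hsq.w) r)
  letI : Module (Fn b) (Sec P.G.obj (slMk p)) := (inferInstance : Module (Fn (slMk p)) (Sec P.G.obj (slMk p)))
  letI : Module (Fn x) (Sec P.G.obj (slMk p)) := Module.compHom _ (fnMap d)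
  haveI : IsScalarTower (Fn x) (Fn b) (Sec P.G.obj (slMk p)) := IsScalarTower.of_algebraMap_smul fun _ _ => rfl
  haveI : Algebra.IsPushout (Fn x) (Fn a) (Fn b) (Fn q) := CommRingCat.isPushout_iff_isPushout.mp hsq
  obtain ⟨E, hE⟩ := exists_bcEquiv P.G.property.1 P.G.property.2
    (slHom (s' := slMk (p₂ ≫ p)) (s := slMk p) p₂ rfl)
  refine ⟨(Algebra.IsPushout.cancelBaseChange (Fn x) (Fn a) (Fn b) (Fn q) (Sec P.G.obj (slMk p))).symm.toAddEquiv.trans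
    E, fun r m => ?_⟩
  show E ((Algebra.IsPushout.cancelBaseChange (Fn x) (Fn a) (Fn b) (Fn q) _).symm (r ⊗ₜ m)) = _
  rw [Algebra.IsPushout.cancelBaseChange_symm_tmul]
  exact hE _ m

/-- The base change of a cover along a morphism of affine objects, by chosen squares. -/
theorem exists_squareCover {v x : 𝒱.obj} [IsAffine (sch 𝒱 v)] [IsAffine (sch 𝒱 x)] (h : FibCat.IsFibGrpd 𝒱.p)
    (𝒰 : Cover x) (c : v ⟶ x) :
    ∃ (Q : 𝒰.ι → 𝒱.obj) (a : ∀ l, Q l ⟶ v) (b : ∀ l, Q l ⟶ 𝒰.obj l) (hQ : ∀ l, IsAffine (sch 𝒱 (Q l))),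
      (∀ l, a l ≫ c = b l ≫ 𝒰.map l ∧
        IsPullback (bmap 𝒱 (a l)) (bmap 𝒱 (b l)) (bmap 𝒱 c) (bmap 𝒱 (𝒰.map l))) ∧
      Groth.L19.QCohFpqc.IsCov (fun l => bmap 𝒱 (a l)) := by
  choose Q a b hw H using fun l => exists_square h c (𝒰.map l)
  haveI := 𝒰.affine
  refine ⟨Q, a, b, fun l => IsAffine.of_isIso (H l).isoPullback.hom, fun l => ⟨hw l, H l⟩,
    ⟨fun l => MorphismProperty.of_isPullback (H l).flip (𝒰.cov.flat l), fun y => ?_⟩⟩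
  obtain ⟨l, w, hw'⟩ := 𝒰.cov.surj (bmap 𝒱 c y)
  obtain ⟨p, hp₁, hp₂⟩ := Scheme.Pullback.exists_preimage_pullback y w hw'.symm
  refine ⟨l, (H l).isoPullback.inv p, ?_⟩
  rw [← Scheme.Hom.comp_apply, (H l).isoPullback_inv_fst]
  exact hp₁

/-- Data of overlaps for a cover by lifts. -/
theorem exists_overlaps {x : 𝒱.obj} [IsAffine (sch 𝒱 x)] (h : FibCat.IsFibGrpd 𝒱.p) (𝒰 : Cover x) :
    ∃ (q : 𝒰.ι × 𝒰.ι → 𝒱.obj) (α : ∀ k, q k ⟶ 𝒰.obj k.1) (β : ∀ k, q k ⟶ 𝒰.obj k.2)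
      (_ : ∀ k, IsAffine (sch 𝒱 (q k))),
      ∀ k, α k ≫ 𝒰.map k.1 = β k ≫ 𝒰.map k.2 ∧
        IsPullback (bmap 𝒱 (α k)) (bmap 𝒱 (β k)) (bmap 𝒱 (𝒰.map k.1)) (bmap 𝒱 (𝒰.map k.2)) := by
  choose q α β hw H using fun k : 𝒰.ι × 𝒰.ι => exists_square h (𝒰.map k.1) (𝒰.map k.2)
  haveI := 𝒰.affine
  exact ⟨q, α, β, fun k => IsAffine.of_isIso (H k).isoPullback.hom, fun k => ⟨hw k, H k⟩⟩

variable (P) in
/-- Twist along a morphism. -/
def tw {q a : 𝒱.obj} (hq : IsAffine (sch 𝒱 q)) (k : q ⟶ a) (p : a ⟶ x₀) (p' : q ⟶ x₀) :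
    Sec P.G.obj (slMk p) →+ Sec P.G.obj (slMk p') :=
  (P.D.T hq (k ≫ p) p').comp (topMap P.G.obj (slHom (s' := slMk (k ≫ p)) (s := slMk p) k rfl)).toAddMonoidHom

theorem tw_apply {q a : 𝒱.obj} (hq : IsAffine (sch 𝒱 q)) (k : q ⟶ a) (p : a ⟶ x₀) (p' : q ⟶ x₀)
    (m : Sec P.G.obj (slMk p)) :
    P.tw hq k p p' m = P.D.T hq (k ≫ p) p' (P.G.obj.mapTop (slHom (s' := slMk (k ≫ p)) (s := slMk p) k rfl) m) := rfl

theorem tw_smul {q a : 𝒱.obj} (hq : IsAffine (sch 𝒱 q)) (k : q ⟶ a) (p : a ⟶ x₀) (p' : q ⟶ x₀) (r : Fn a)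
    (m : Sec P.G.obj (slMk p)) :
    P.tw hq k p p' ((show Fn (slMk p) from r) • m) = (show Fn (slMk p') from fnMap k r) • P.tw hq k p p' m := by
  rw [tw_apply, tw_apply, Mod.mapTop_smul]
  exact P.D.T_smul hq _ _ _ _

theorem tw_tw {z q a : 𝒱.obj} (hz : IsAffine (sch 𝒱 z)) (hq : IsAffine (sch 𝒱 q)) (j : z ⟶ q) (k : q ⟶ a)
    {jk : z ⟶ a} (e : j ≫ k = jk) (p : a ⟶ x₀) (p' : q ⟶ x₀) (p'' : z ⟶ x₀) (m : Sec P.G.obj (slMk p)) :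
    P.tw hz j p' p'' (P.tw hq k p p' m) = P.tw hz jk p p'' m := by
  subst e
  rw [tw_apply, tw_apply, tw_apply, ← P.D.T_nat hz hq j (p := k ≫ p) (p' := (j ≫ k) ≫ p) (Category.assoc _ _ _).symm
    rfl, P.D.T_comp, mapTop_sl_comp P.G.obj j k _ rfl rfl]

theorem tw_map {q a : 𝒱.obj} (hq : IsAffine (sch 𝒱 q)) (k : q ⟶ a) (p : a ⟶ x₀) (p' : q ⟶ x₀) (e : k ≫ p = p')
    (m : Sec P.G.obj (slMk p)) :
    P.tw hq k p p' m = P.G.obj.mapTop (slHom (s' := slMk p') (s := slMk p) k e) m := by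
  subst e
  rw [tw_apply, P.D.T_self]

theorem tw_evG {x q a : 𝒱.obj} (hq : IsAffine (sch 𝒱 q)) (ha : IsAffine (sch 𝒱 a)) (k : q ⟶ a) (p : a ⟶ x₀)
    (p' : q ⟶ x₀) {α : a ⟶ x} {α' : q ⟶ x} (e : k ≫ α = α') (s : Sec P.toMod x) :
    P.tw hq k p p' (P.evG ha p α s) = P.evG hq p' α' s := by
  rw [tw_apply, evG_map hq ha k rfl e, evG_tw]

theorem evG_injective {x : 𝒱.obj} [IsAffine (sch 𝒱 x)] (𝒰 : Cover x) (pl : ∀ l, 𝒰.obj l ⟶ x₀)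
    {s s' : Sec P.toMod x}
    (h : ∀ l, P.evG (𝒰.affine l) (pl l) (𝒰.map l) s = P.evG (𝒰.affine l) (pl l) (𝒰.map l) s') : s = s' := by
  refine (P.secFam x ⊤).injective (fam_ext fun v hv q α e => ?_)
  refine isValC_unique (𝒰 := 𝒰) (pl := pl) (t := fun l => P.evG (𝒰.affine l) (pl l) (𝒰.map l) s) hv q α
    (m := ev (P.secFam x ⊤ s) hv q α e) (m' := ev (P.secFam x ⊤ s') hv q α e) ?_ ?_
  · intro l v' hv' k b q' hq he
    refine (evG_map hv' hv k hq rfl s).trans ?_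
    exact (tw_evG hv' (𝒰.affine l) b (pl l) q' he s).symm
  · intro l v' hv' k b q' hq he
    refine (evG_map hv' hv k hq rfl s').trans ?_
    refine ((tw_evG hv' (𝒰.affine l) b (pl l) q' he s').symm.trans ?_)
    exact congrArg (P.tw hv' b (pl l) q') (h l).symm

theorem mem_range_evG {x : 𝒱.obj} [IsAffine (sch 𝒱 x)] (𝒰 : Cover x) [Finite 𝒰.ι] (pl : ∀ l, 𝒰.obj l ⟶ x₀)
    (q : 𝒰.ι × 𝒰.ι → 𝒱.obj) (α : ∀ k, q k ⟶ 𝒰.obj k.1) (β : ∀ k, q k ⟶ 𝒰.obj k.2)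
    (hq : ∀ k, IsAffine (sch 𝒱 (q k)))
    (H : ∀ k, α k ≫ 𝒰.map k.1 = β k ≫ 𝒰.map k.2 ∧
      IsPullback (bmap 𝒱 (α k)) (bmap 𝒱 (β k)) (bmap 𝒱 (𝒰.map k.1)) (bmap 𝒱 (𝒰.map k.2)))
    (t : ∀ l, Sec P.G.obj (slMk (pl l)))
    (ht : ∀ k, P.tw (hq k) (α k) (pl k.1) (β k ≫ pl k.2) (t k.1) =
      P.tw (hq k) (β k) (pl k.2) (β k ≫ pl k.2) (t k.2)) :
    ∃ s : Sec P.toMod x, ∀ l, P.evG (𝒰.affine l) (pl l) (𝒰.map l) s = t l := by
  refine exists_cover_glue (𝒰 := 𝒰) (pl := pl) (t := t) fun z hz k l a b e => ?_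
  obtain ⟨s, hs₁, hs₂⟩ := exists_square_lift P.fib (H (k, l)).1 (H (k, l)).2 a b e
  have h₁ := congrArg (P.tw hz s (β (k, l) ≫ pl l) (b ≫ pl l)) (ht (k, l))
  rw [tw_tw hz (hq (k, l)) s _ hs₁, tw_tw hz (hq (k, l)) s _ hs₂, tw_map hz b (pl l) _ rfl] at h₁
  exact h₁

end PB

end Groth.L23.RelGen
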