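import Groth.Agent.L23.RelGen.FamBC
import Mathlib.LinearAlgebra.TensorProduct.Tower

/-!
# Flat base change of families to objects with lifts
-/

universe w v u

open CategoryTheory CategoryTheory.Limits AlgebraicGeometry Opposite TopologicalSpace
open scoped TensorProduct

set_option backward.isDefEq.respectTransparency false
set_option backward.isDefEq.respectTransparency.types false
set_option linter.style.haveILetI false
set_option linter.unusedSectionVars false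

noncomputable section

namespace Groth.L23.RelGen

open StMod

variable {S : Scheme.{u}} {𝒱 : BasedCategory.{v, w} (Over S)}

namespace PB

variable {x₀ : 𝒱.obj} {P : PB x₀}

/-- Evaluation as a linear map. -/
theorem exists_evLin {x v : 𝒱.obj} (hv : IsAffine (sch 𝒱 v)) (p : v ⟶ x₀) (c : v ⟶ x) :
    letI : Module (Fn x) (Sec P.G.obj (slMk p)) := Module.compHom _ (fnMap c)
    ∃ L : Sec P.toMod x →ₗ[Fn x] Sec P.G.obj (slMk p), ∀ s, L s = P.evG hv p c s := by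
  letI : Module (Fn x) (Sec P.G.obj (slMk p)) := Module.compHom _ (fnMap c)
  exact ⟨{ toFun := P.evG hv p c, map_add' := evG_add hv p c, map_smul' := fun r s => evG_smul hv p c r s },
    fun _ => rfl⟩

/-- Twisted restriction as a linear map. -/
theorem exists_twLin {x q a : 𝒱.obj} (hq : IsAffine (sch 𝒱 q)) (k : q ⟶ a) (p : a ⟶ x₀) (p' : q ⟶ x₀)
    (d : a ⟶ x) (g : q ⟶ x) (hg : k ≫ d = g) :
    letI : Module (Fn x) (Sec P.G.obj (slMk p)) := Module.compHom _ (fnMap d)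
    letI : Module (Fn x) (Sec P.G.obj (slMk p')) := Module.compHom _ (fnMap g)
    ∃ L : Sec P.G.obj (slMk p) →ₗ[Fn x] Sec P.G.obj (slMk p'), ∀ m, L m = P.tw hq k p p' m := by
  letI : Module (Fn x) (Sec P.G.obj (slMk p)) := Module.compHom _ (fnMap d)
  letI : Module (Fn x) (Sec P.G.obj (slMk p')) := Module.compHom _ (fnMap g)
  refine ⟨{ toFun := P.tw hq k p p', map_add' := map_add _, map_smul' := fun r m => ?_ }, fun _ => rfl⟩
  refine (tw_smul hq k p p' (fnMap d r) m).trans ?_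
  refine congrArg (fun a : Fn (slMk p') => a • _) ?_
  rw [← hg]
  exact (fnMap_comp_apply k d r).symm

/-- Base change of twisted restrictions. -/
theorem bc_tw {x v a q Qa Qq : 𝒱.obj} [IsAffine (sch 𝒱 x)] (c : v ⟶ x) {d : a ⟶ x} {g : q ⟶ x}
    (hQq : IsAffine (sch 𝒱 Qq)) (hq : IsAffine (sch 𝒱 q)) (hQa : IsAffine (sch 𝒱 Qa))
    (k : q ⟶ a) (p : a ⟶ x₀) (p' : q ⟶ x₀) (a₁ : Qa ⟶ v) (b₁ : Qa ⟶ a) (a₂ : Qq ⟶ v) (b₂ : Qq ⟶ q) (s : Qq ⟶ Qa)
    (hs₁ : s ≫ a₁ = a₂) (hs₂ : s ≫ b₁ = b₂ ≫ k) :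
    letI := (fnMap c).toAlgebra
    letI : Module (Fn x) (Sec P.G.obj (slMk p)) := Module.compHom _ (fnMap d)
    letI : Module (Fn x) (Sec P.G.obj (slMk p')) := Module.compHom _ (fnMap g)
    ∀ (L : Sec P.G.obj (slMk p) →ₗ[Fn x] Sec P.G.obj (slMk p')), (∀ m, L m = P.tw hq k p p' m) →
    ∀ (E₁ : Fn v ⊗[Fn x] Sec P.G.obj (slMk p) ≃+ Sec P.G.obj (slMk (b₁ ≫ p))),
      (∀ r m, E₁ (r ⊗ₜ m) = (show Fn (slMk (b₁ ≫ p)) from fnMap a₁ r) •
        P.G.obj.mapTop (slHom (s' := slMk (b₁ ≫ p)) (s := slMk p) b₁ rfl) m) →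
    ∀ (E₂ : Fn v ⊗[Fn x] Sec P.G.obj (slMk p') ≃+ Sec P.G.obj (slMk (b₂ ≫ p'))),
      (∀ r m, E₂ (r ⊗ₜ m) = (show Fn (slMk (b₂ ≫ p')) from fnMap a₂ r) •
        P.G.obj.mapTop (slHom (s' := slMk (b₂ ≫ p')) (s := slMk p') b₂ rfl) m) →
    ∀ t, E₂ (L.lTensor (Fn v) t) = P.tw hQq s (b₁ ≫ p) (b₂ ≫ p') (E₁ t) := by
  letI := (fnMap c).toAlgebra
  letI : Module (Fn x) (Sec P.G.obj (slMk p)) := Module.compHom _ (fnMap d)
  letI : Module (Fn x) (Sec P.G.obj (slMk p')) := Module.compHom _ (fnMap g)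
  intro L hL E₁ hE₁ E₂ hE₂ t
  induction t using TensorProduct.induction_on with
  | zero => rw [map_zero, map_zero, map_zero, map_zero]
  | tmul r m =>
    rw [LinearMap.lTensor_tmul, hE₂, hE₁, hL, tw_smul, ← tw_map hQq b₂ p' _ rfl, ← tw_map hQa b₁ p _ rfl,
      tw_tw hQq hq b₂ k hs₂.symm, tw_tw hQq hQa s b₁ rfl]
    refine congrArg (fun a : Fn (slMk (b₂ ≫ p')) => a • _) ?_
    rw [← hs₁]
    exact fnMap_comp_apply s a₁ r
  | add t t' h h' => rw [map_add, map_add, map_add, h, h', map_add]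

/-- The value of a base change on a piece. -/
theorem bc_ev {x v vl Q : 𝒱.obj} [IsAffine (sch 𝒱 x)] (c : v ⟶ x) (hv : IsAffine (sch 𝒱 v))
    (hl : IsAffine (sch 𝒱 vl)) (hQ : IsAffine (sch 𝒱 Q)) (p : v ⟶ x₀) (pl : vl ⟶ x₀) (ml : vl ⟶ x)
    (a : Q ⟶ v) (b : Q ⟶ vl) (hab : a ≫ c = b ≫ ml) :
    letI := (fnMap c).toAlgebra
    letI : Module (Fn x) (Sec P.G.obj (slMk pl)) := Module.compHom _ (fnMap ml)
    ∀ (L : Sec P.toMod x →ₗ[Fn x] Sec P.G.obj (slMk pl)), (∀ s, L s = P.evG hl pl ml s) →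
    ∀ (E : Fn v ⊗[Fn x] Sec P.G.obj (slMk pl) ≃+ Sec P.G.obj (slMk (b ≫ pl))),
      (∀ r m, E (r ⊗ₜ m) = (show Fn (slMk (b ≫ pl)) from fnMap a r) •
        P.G.obj.mapTop (slHom (s' := slMk (b ≫ pl)) (s := slMk pl) b rfl) m) →
    ∀ (Φ : Fn v ⊗[Fn x] Sec P.toMod x →+ Sec P.G.obj (slMk p)),
      (∀ r s, Φ (r ⊗ₜ s) = (show Fn (slMk p) from r) • P.evG hv p c s) →
    ∀ t, P.tw hQ a p (b ≫ pl) (Φ t) = E (L.lTensor (Fn v) t) := by
  letI := (fnMap c).toAlgebra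
  letI : Module (Fn x) (Sec P.G.obj (slMk pl)) := Module.compHom _ (fnMap ml)
  intro L hL E hE Φ hΦ t
  induction t using TensorProduct.induction_on with
  | zero => rw [map_zero, map_zero, map_zero, map_zero]
  | tmul r s =>
    rw [LinearMap.lTensor_tmul, hE, hΦ, hL, tw_smul, tw_evG hQ hv a p (b ≫ pl) rfl,
      evG_map hQ hl b rfl hab.symm]
  | add t t' h h' => rw [map_add, map_add, map_add, h, h', map_add]

set_option maxHeartbeats 1600000 in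
/-- Families base change along flat morphisms to objects with lifts. -/
theorem exists_flatEquiv {x v : 𝒱.obj} [IsAffine (sch 𝒱 x)] [hv : IsAffine (sch 𝒱 v)] (c : v ⟶ x)
    [Flat (bmap 𝒱 c)] (p : v ⟶ x₀) :
    letI := (fnMap c).toAlgebra
    ∃ E : Fn v ⊗[Fn x] Sec P.toMod x ≃+ Sec P.G.obj (slMk p),
      ∀ r s, E (r ⊗ₜ s) = (show Fn (slMk p) from r) • P.evG hv p c s := by
  classical
  obtain ⟨𝒰, hfin, hl⟩ := P.loc x inferInstance
  haveI := hfin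
  haveI := 𝒰.affine
  haveI : Fintype 𝒰.ι := Fintype.ofFinite _
  choose pl hpl using fun l => (⟨(hl l).some, trivial⟩ : ∃ _ : 𝒰.obj l ⟶ x₀, True)
  obtain ⟨q, α, β, hq, Hq⟩ := exists_overlaps P.fib 𝒰
  obtain ⟨Q, a, b, hQ, HQ, hcov⟩ := exists_squareCover P.fib 𝒰 c
  letI := (fnMap c).toAlgebra
  haveI : Module.Flat (Fn x) (Fn v) := fnMap_flat c
  letI : ∀ l, Module (Fn x) (Sec P.G.obj (slMk (pl l))) := fun l => Module.compHom _ (fnMap (𝒰.map l))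
  letI : ∀ k, Module (Fn x) (Sec P.G.obj (slMk (β k ≫ pl k.2))) := fun k =>
    Module.compHom _ (fnMap (β k ≫ 𝒰.map k.2))
  choose EA hEA using fun l => exists_bcSquareSl (P := P) (HQ l).2 (pl l)
  choose Qq aq bq hwq HQq using fun k => exists_square P.fib c (β k ≫ 𝒰.map k.2)
  haveI hQq : ∀ k, IsAffine (sch 𝒱 (Qq k)) := fun k =>
    haveI := hq k
    IsAffine.of_isIso (HQq k).isoPullback.hom
  choose EB hEB using fun k =>
    haveI := hq k
    exists_bcSquareSl (P := P) (HQq k) (β k ≫ pl k.2)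
  choose s₁ hs₁ hs₁' using fun k => exists_square_lift P.fib (HQ k.1).1 (HQ k.1).2 (aq k) (bq k ≫ α k)
    (by rw [hwq k, Category.assoc, (Hq k).1])
  choose s₂ hs₂ hs₂' using fun k => exists_square_lift P.fib (HQ k.2).1 (HQ k.2).2 (aq k) (bq k ≫ β k)
    (by rw [hwq k, Category.assoc])
  choose σ hσ using fun k => exists_twLin (P := P) (x := x) (hq k) (α k) (pl k.1) (β k ≫ pl k.2) (𝒰.map k.1)
    (β k ≫ 𝒰.map k.2) (Hq k).1
  choose τ hτ using fun k => exists_twLin (P := P) (x := x) (hq k) (β k) (pl k.2) (β k ≫ pl k.2) (𝒰.map k.2)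
    (β k ≫ 𝒰.map k.2) rfl
  choose jc hjc using fun l => exists_evLin (P := P) (𝒰.affine l) (pl l) (𝒰.map l)
  let j : Sec P.toMod x →ₗ[Fn x] ∀ l, Sec P.G.obj (slMk (pl l)) := LinearMap.pi jc
  have hj : Function.Injective j := fun s s' e => evG_injective 𝒰 pl fun l => by
    rw [← hjc, ← hjc]
    exact congrFun e l
  have hM : ∀ t, (∀ k, σ k (t k.1) = τ k (t k.2)) ↔ t ∈ LinearMap.range j := fun t => by
    refine ⟨fun h => ?_, ?_⟩
    · obtain ⟨s, hs⟩ := mem_range_evG 𝒰 pl q α β hq Hq t fun k => by rw [← hσ, ← hτ]; exact h k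
      exact ⟨s, funext fun l => (hjc l s).trans (hs l)⟩
    · rintro ⟨s, rfl⟩ k
      show σ k (jc k.1 s) = τ k (jc k.2 s)
      rw [hσ, hτ, hjc, hjc, tw_evG (hq k) (𝒰.affine k.1) (α k) _ _ (Hq k).1,
        tw_evG (hq k) (𝒰.affine k.2) (β k) _ _ rfl]
  obtain ⟨hinj, hsurj⟩ := range_of_flat (R' := Fn v) EA EB j hj (fun k => k.1) (fun k => k.2) σ τ hM
    (fun k => P.tw (hQq k) (s₁ k) (b k.1 ≫ pl k.1) (bq k ≫ β k ≫ pl k.2))
    (fun k => P.tw (hQq k) (s₂ k) (b k.2 ≫ pl k.2) (bq k ≫ β k ≫ pl k.2))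
    (fun k => bc_tw c (hQq k) (hq k) (hQ k.1) (α k) (pl k.1) (β k ≫ pl k.2) (a k.1) (b k.1) (aq k) (bq k) (s₁ k)
      (hs₁ k) (hs₁' k) (σ k) (hσ k) (EA k.1) (hEA k.1) (EB k) (hEB k))
    (fun k => bc_tw c (hQq k) (hq k) (hQ k.2) (β k) (pl k.2) (β k ≫ pl k.2) (a k.2) (b k.2) (aq k) (bq k) (s₂ k)
      (hs₂ k) (hs₂' k) (τ k) (hτ k) (EA k.2) (hEA k.2) (EB k) (hEB k))
  letI : Module (Fn v) (Sec P.G.obj (slMk p)) := (inferInstance : Module (Fn (slMk p)) (Sec P.G.obj (slMk p)))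
  letI : Module (Fn x) (Sec P.G.obj (slMk p)) := Module.compHom _ (fnMap c)
  haveI : IsScalarTower (Fn x) (Fn v) (Sec P.G.obj (slMk p)) := IsScalarTower.of_algebraMap_smul fun _ _ => rfl
  obtain ⟨L, hL⟩ := exists_evLin (P := P) hv p c
  let Φ : Fn v ⊗[Fn x] Sec P.toMod x →+ Sec P.G.obj (slMk p) := (L.liftBaseChange (Fn v)).toAddMonoidHom
  have hΦ : ∀ r s, Φ (r ⊗ₜ s) = (show Fn (slMk p) from r) • P.evG hv p c s := fun r s => by
    show (L.liftBaseChange (Fn v)) (r ⊗ₜ s) = _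
    rw [LinearMap.liftBaseChange_tmul, hL]
  have hcomp : ∀ l t, P.tw (hQ l) (a l) p (b l ≫ pl l) (Φ t) = EA l (((LinearMap.proj l).comp j).lTensor (Fn v) t) :=
    fun l t => bc_ev c hv (𝒰.affine l) (hQ l) p (pl l) (𝒰.map l) (a l) (b l) (HQ l).1 (jc l) (hjc l) (EA l) (hEA l) Φ hΦ t
  let 𝒬 : Cover v := ⟨𝒰.ι, Q, a, hQ, hcov⟩
  have hsep : ∀ m m', (∀ l, P.tw (hQ l) (a l) p (b l ≫ pl l) m = P.tw (hQ l) (a l) p (b l ≫ pl l) m') → m = m' := by
    intro m m' h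
    haveI : IsAffine (sch (Sl x₀) (slMk p)) := hv
    refine (slCover 𝒬 p).ext P.G.property.1 P.G.property.2 _ _ fun l => ?_
    have h₁ := congrArg (P.D.T (hQ l) (b l ≫ pl l) (a l ≫ p)) (h l)
    rw [tw_apply, tw_apply, P.D.T_comp, P.D.T_self, P.D.T_comp, P.D.T_self] at h₁
    exact h₁
  refine ⟨AddEquiv.ofBijective Φ ⟨(injective_iff_map_eq_zero Φ).2 fun t ht => ?_, fun m => ?_⟩, hΦ⟩
  · refine hinj t fun l => ?_
    rw [← hcomp, ht, map_zero]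
  · obtain ⟨t, ht⟩ := hsurj (fun l => P.tw (hQ l) (a l) p (b l ≫ pl l) m) fun k => by
      rw [tw_tw (hQq k) (hQ k.1) (s₁ k) (a k.1) (hs₁ k), tw_tw (hQq k) (hQ k.2) (s₂ k) (a k.2) (hs₂ k)]
    exact ⟨t, hsep _ _ fun l => (hcomp l t).trans (ht l)⟩

end PB

end Groth.L23.RelGen
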