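import Groth.Agent.L23.RelGen.FamSheaf

/-!
# Families at objects with lifts, and gluing of families along covers
-/

universe w v u

open CategoryTheory CategoryTheory.Limits AlgebraicGeometry Opposite TopologicalSpace

set_option backward.isDefEq.respectTransparency false
set_option backward.isDefEq.respectTransparency.types false
set_option linter.style.haveILetI false
set_option linter.unusedSectionVars false

noncomputable section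

namespace Groth.L23.RelGen

open StMod

variable {S : Scheme.{u}} {𝒱 : BasedCategory.{v, w} (Over S)}

namespace PB

variable {x₀ : 𝒱.obj} (P : PB x₀)

theorem le_top' {v x : 𝒱.obj} (α : v ⟶ x) : (⊤ : (sch 𝒱 v).Opens) ≤ bmap 𝒱 α ⁻¹ᵁ ⊤ := le_top

/-- Evaluation of global sections along a lift. -/
def evG {x : 𝒱.obj} {v : 𝒱.obj} (hv : IsAffine (sch 𝒱 v)) (p : v ⟶ x₀) (α : v ⟶ x) (s : Sec P.toMod x) :
    Sec P.G.obj (slMk p) := ev (P.secFam x ⊤ s) hv p α (le_top' α)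

variable {P}

theorem evG_map {x v' v : 𝒱.obj} (hv' : IsAffine (sch 𝒱 v')) (hv : IsAffine (sch 𝒱 v)) (k : v' ⟶ v) {p : v ⟶ x₀}
    {p' : v' ⟶ x₀} {α : v ⟶ x} {α' : v' ⟶ x} (hp : k ≫ p = p') (hα : k ≫ α = α') (s : Sec P.toMod x) :
    P.G.obj.mapTop (slHom (s' := slMk p') (s := slMk p) k hp) (P.evG hv p α s) = P.evG hv' p' α' s :=
  ev_map _ hv' hv k hp hα _ _

theorem evG_tw {x v : 𝒱.obj} (hv : IsAffine (sch 𝒱 v)) (p q : v ⟶ x₀) (α : v ⟶ x) (s : Sec P.toMod x) :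
    P.D.T hv p q (P.evG hv p α s) = P.evG hv q α s := ev_tw _ hv p q α _

theorem evG_add {x v : 𝒱.obj} (hv : IsAffine (sch 𝒱 v)) (p : v ⟶ x₀) (α : v ⟶ x) (s t : Sec P.toMod x) :
    P.evG hv p α (s + t) = P.evG hv p α s + P.evG hv p α t := by
  rw [evG, map_add]; rfl

theorem evG_smul {x v : 𝒱.obj} (hv : IsAffine (sch 𝒱 v)) (p : v ⟶ x₀) (α : v ⟶ x) (r : Fn x) (s : Sec P.toMod x) :
    P.evG hv p α (r • s) = (show Fn (slMk p) from fnMap α r) • P.evG hv p α s := by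
  rw [evG, (P.secFam x ⊤).map_smul, ev_smul]
  refine congrArg (fun a : Fn (slMk p) => a • _) ?_
  show (bmap 𝒱 α).appLE ⊤ ⊤ _ r = (bmap 𝒱 α).appTop r
  rw [show (bmap 𝒱 α).appTop = (bmap 𝒱 α).appLE ⊤ ⊤ le_top from Scheme.Hom.app_eq_appLE (bmap 𝒱 α) (U := ⊤)]

theorem evG_mapTop {x' x v : 𝒱.obj} (φ : x' ⟶ x) (hv : IsAffine (sch 𝒱 v)) (p : v ⟶ x₀) (α : v ⟶ x')
    (s : Sec P.toMod x) : P.evG hv p α (P.toMod.mapTop φ s) = P.evG hv p (α ≫ φ) s :=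
  congrArg (fun t : P.Fam x' ⊤ => ev t hv p α (le_top' α)) (P.secFam_mapTop φ s)

theorem T_id_map {v : 𝒱.obj} (hv : IsAffine (sch 𝒱 v)) {p p' : v ⟶ x₀} (hp : 𝟙 v ≫ p = p')
    (m : Sec P.G.obj (slMk p)) :
    P.D.T hv p' p (P.G.obj.mapTop (slHom (s' := slMk p') (s := slMk p) (𝟙 v) hp) m) = m := by
  obtain rfl : p = p' := (Category.id_comp p).symm.trans hp
  rw [P.D.T_self]
  exact Mod.mapTop_id _ _ m

/-- The family with prescribed value at an object with a lift. -/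
def ofValue {x : 𝒱.obj} (hx : IsAffine (sch 𝒱 x)) (p : x ⟶ x₀) (m : Sec P.G.obj (slMk p)) : P.Fam x ⊤ :=
  ⟨fun j => P.D.T j.aff (j.α ≫ p) j.p (P.G.obj.mapTop (slHom (s' := slMk (j.α ≫ p)) (s := slMk p) j.α rfl) m),
    fun {v' v} hv' hv k {q q' α α'} hq hα e e' => by
      refine (P.D.T_nat hv' hv k (p := α ≫ p) (p' := α' ≫ p) (by rw [← Category.assoc, hα]) hq _).symm.trans ?_
      refine congrArg _ ((mapTop_sl_comp P.G.obj k α _ rfl (by rw [hα]) m).trans ?_)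
      subst hα
      rfl,
    fun {v} hv q r α e => P.D.T_comp hv (α ≫ p) q r _⟩

theorem ev_ofValue {x : 𝒱.obj} (hx : IsAffine (sch 𝒱 x)) (p : x ⟶ x₀) (m : Sec P.G.obj (slMk p)) {v : 𝒱.obj}
    (hv : IsAffine (sch 𝒱 v)) (q : v ⟶ x₀) (α : v ⟶ x) (e : (⊤ : (sch 𝒱 v).Opens) ≤ bmap 𝒱 α ⁻¹ᵁ ⊤) :
    ev (ofValue hx p m) hv q α e =
      P.D.T hv (α ≫ p) q (P.G.obj.mapTop (slHom (s' := slMk (α ≫ p)) (s := slMk p) α rfl) m) := rfl

theorem evG_id_bijective {x : 𝒱.obj} (hx : IsAffine (sch 𝒱 x)) (p : x ⟶ x₀) :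
    Function.Bijective (P.evG hx p (𝟙 x)) := by
  refine Function.bijective_iff_has_inverse.2 ⟨fun m => (P.secFam x ⊤).symm (ofValue hx p m), fun s => ?_, fun m => ?_⟩
  · refine (P.secFam x ⊤).injective ?_
    rw [LinearEquiv.apply_symm_apply]
    refine fam_ext fun v hv q α e => ?_
    rw [ev_ofValue, show P.G.obj.mapTop (slHom (s' := slMk (α ≫ p)) (s := slMk p) α rfl) (P.evG hx p (𝟙 x) s) =
      P.evG hv (α ≫ p) α s from evG_map hv hx α rfl (Category.comp_id α) s, evG_tw]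
    rfl
  · show ev (P.secFam x ⊤ ((P.secFam x ⊤).symm (ofValue hx p m))) hx p (𝟙 x) _ = m
    rw [LinearEquiv.apply_symm_apply, ev_ofValue]
    exact T_id_map hx rfl m

section Glue

variable {x : 𝒱.obj} (𝒰 : Cover x) (pl : ∀ l, 𝒰.obj l ⟶ x₀) (t : ∀ l, Sec P.G.obj (slMk (pl l)))

/-- A value compatible with prescribed values on a cover. -/
def IsValC {v : 𝒱.obj} (q : v ⟶ x₀) (α : v ⟶ x) (m : Sec P.G.obj (slMk q)) : Prop :=
  ∀ (l : 𝒰.ι) (v' : 𝒱.obj) (hv' : IsAffine (sch 𝒱 v')) (k : v' ⟶ v) (b : v' ⟶ 𝒰.obj l) (q' : v' ⟶ x₀)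
    (hq : k ≫ q = q'), b ≫ 𝒰.map l = k ≫ α →
    P.G.obj.mapTop (slHom (s' := slMk q') (s := slMk q) k hq) m =
      P.D.T hv' (b ≫ pl l) q' (P.G.obj.mapTop (slHom (s' := slMk (b ≫ pl l)) (s := slMk (pl l)) b rfl) (t l))

variable {𝒰 pl t}

theorem isValC_unique [IsAffine (sch 𝒱 x)] {v : 𝒱.obj} (hv : IsAffine (sch 𝒱 v)) (q : v ⟶ x₀) (α : v ⟶ x)
    {m m' : Sec P.G.obj (slMk q)} (h : IsValC 𝒰 pl t q α m) (h' : IsValC 𝒰 pl t q α m') : m = m' := by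
  haveI := hv
  obtain ⟨𝒵, -, h𝒵⟩ := 𝒰.exists_pullback P.fib α
  haveI : IsAffine (sch (Sl x₀) (slMk q)) := hv
  refine (slCover 𝒵 q).ext P.G.property.1 P.G.property.2 _ _ fun n => ?_
  obtain ⟨l, b, hb⟩ := h𝒵 n
  exact (h l _ (𝒵.affine n) (𝒵.map n) b _ rfl hb).trans (h' l _ (𝒵.affine n) (𝒵.map n) b _ rfl hb).symm

variable (hc : ∀ (z : 𝒱.obj) (hz : IsAffine (sch 𝒱 z)) (k l : 𝒰.ι) (a : z ⟶ 𝒰.obj k) (b : z ⟶ 𝒰.obj l),
  a ≫ 𝒰.map k = b ≫ 𝒰.map l →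
  P.D.T hz (a ≫ pl k) (b ≫ pl l) (P.G.obj.mapTop (slHom (s' := slMk (a ≫ pl k)) (s := slMk (pl k)) a rfl) (t k)) =
    P.G.obj.mapTop (slHom (s' := slMk (b ≫ pl l)) (s := slMk (pl l)) b rfl) (t l))
include hc

theorem twist_eq {z : 𝒱.obj} (hz : IsAffine (sch 𝒱 z)) (k l : 𝒰.ι) (a : z ⟶ 𝒰.obj k) (b : z ⟶ 𝒰.obj l)
    (e : a ≫ 𝒰.map k = b ≫ 𝒰.map l) (q : z ⟶ x₀) :
    P.D.T hz (a ≫ pl k) q (P.G.obj.mapTop (slHom (s' := slMk (a ≫ pl k)) (s := slMk (pl k)) a rfl) (t k)) =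
      P.D.T hz (b ≫ pl l) q (P.G.obj.mapTop (slHom (s' := slMk (b ≫ pl l)) (s := slMk (pl l)) b rfl) (t l)) := by
  rw [← P.D.T_comp hz (a ≫ pl k) (b ≫ pl l) q, hc z hz k l a b e]

theorem map_twist {z' z : 𝒱.obj} (hz' : IsAffine (sch 𝒱 z')) (hz : IsAffine (sch 𝒱 z)) (c : z' ⟶ z) (l : 𝒰.ι)
    (b : z ⟶ 𝒰.obj l) {q : z ⟶ x₀} {q' : z' ⟶ x₀} (hq : c ≫ q = q') :
    P.G.obj.mapTop (slHom (s' := slMk q') (s := slMk q) c hq)
        (P.D.T hz (b ≫ pl l) q (P.G.obj.mapTop (slHom (s' := slMk (b ≫ pl l)) (s := slMk (pl l)) b rfl) (t l))) =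
      P.D.T hz' ((c ≫ b) ≫ pl l) q'
        (P.G.obj.mapTop (slHom (s' := slMk ((c ≫ b) ≫ pl l)) (s := slMk (pl l)) (c ≫ b) rfl) (t l)) := by
  refine (P.D.T_nat hz' hz c (Category.assoc c b (pl l)).symm hq _).symm.trans ?_
  exact congrArg _ (mapTop_sl_comp P.G.obj c b _ rfl rfl (t l))

theorem exists_glueValC [IsAffine (sch 𝒱 x)] {v : 𝒱.obj} (hv : IsAffine (sch 𝒱 v)) (q : v ⟶ x₀)
    (α : v ⟶ x) (𝒵 : Cover v) [Finite 𝒵.ι] (li : 𝒵.ι → 𝒰.ι) (bi : ∀ n, 𝒵.obj n ⟶ 𝒰.obj (li n))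
    (hbi : ∀ n, bi n ≫ 𝒰.map (li n) = 𝒵.map n ≫ α) :
    ∃ m : Sec P.G.obj (slMk q), ∀ n, P.G.obj.mapTop (slHom (s' := slMk (𝒵.map n ≫ q)) (s := slMk q) (𝒵.map n) rfl) m =
      P.D.T (𝒵.affine n) (bi n ≫ pl (li n)) (𝒵.map n ≫ q)
        (P.G.obj.mapTop (slHom (s' := slMk (bi n ≫ pl (li n))) (s := slMk (pl (li n))) (bi n) rfl) (t (li n))) := by
  haveI : Finite (slCover 𝒵 q).ι := ‹Finite 𝒵.ι›
  haveI : IsAffine (sch (Sl x₀) (slMk q)) := hv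
  refine (slCover 𝒵 q).exists_glue (isFibGrpd_sl P.fib) P.G.property.1 P.G.property.2
    (fun n => P.D.T (𝒵.affine n) (bi n ≫ pl (li n)) (𝒵.map n ≫ q)
      (P.G.obj.mapTop (slHom (s' := slMk (bi n ≫ pl (li n))) (s := slMk (pl (li n))) (bi n) rfl) (t (li n))))
    fun z hz n n' a b hab => ?_
  have ha : a.left ≫ 𝒵.map n ≫ q = z.hom := CostructuredArrow.w a
  have hb : b.left ≫ 𝒵.map n' ≫ q = z.hom := CostructuredArrow.w b
  have hab' : a.left ≫ 𝒵.map n = b.left ≫ 𝒵.map n' := congrArg CommaMorphism.left hab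
  refine (map_twist hc hz (𝒵.affine n) a.left (li n) (bi n) ha).trans ?_
  refine Eq.trans ?_ (map_twist hc hz (𝒵.affine n') b.left (li n') (bi n') hb).symm
  refine twist_eq hc hz _ _ _ _ ?_ z.hom
  rw [Category.assoc, Category.assoc, hbi, hbi, ← Category.assoc, ← Category.assoc, hab']

theorem isValC_piece {v z w' : 𝒱.obj} (hz : IsAffine (sch 𝒱 z)) (q : v ⟶ x₀) (m : Sec P.G.obj (slMk q))
    (hw : IsAffine (sch 𝒱 w')) (d : w' ⟶ v) (c : z ⟶ w') {k : z ⟶ v} (hk : c ≫ d = k) (n : 𝒰.ι)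
    (bn : w' ⟶ 𝒰.obj n) {q' : z ⟶ x₀} (hq : k ≫ q = q')
    (hm : P.G.obj.mapTop (slHom (s' := slMk (d ≫ q)) (s := slMk q) d rfl) m =
      P.D.T hw (bn ≫ pl n) (d ≫ q)
        (P.G.obj.mapTop (slHom (s' := slMk (bn ≫ pl n)) (s := slMk (pl n)) bn rfl) (t n))) :
    P.G.obj.mapTop (slHom (s' := slMk q') (s := slMk q) k hq) m =
      P.D.T hz ((c ≫ bn) ≫ pl n) q'
        (P.G.obj.mapTop (slHom (s' := slMk ((c ≫ bn) ≫ pl n)) (s := slMk (pl n)) (c ≫ bn) rfl) (t n)) := by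
  subst hk
  have hq₂ : c ≫ d ≫ q = q' := by rw [← Category.assoc, hq]
  refine (mapTop_sl_comp P.G.obj c d hq₂ rfl hq m).symm.trans ?_
  rw [hm]
  exact map_twist hc hz hw c n bn hq₂

theorem isValC_of_glue [IsAffine (sch 𝒱 x)] {v : 𝒱.obj} (hv : IsAffine (sch 𝒱 v)) (q : v ⟶ x₀) (α : v ⟶ x)
    (𝒵 : Cover v) (li : 𝒵.ι → 𝒰.ι) (bi : ∀ n, 𝒵.obj n ⟶ 𝒰.obj (li n))
    (hbi : ∀ n, bi n ≫ 𝒰.map (li n) = 𝒵.map n ≫ α) (m : Sec P.G.obj (slMk q))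
    (hm : ∀ n, P.G.obj.mapTop (slHom (s' := slMk (𝒵.map n ≫ q)) (s := slMk q) (𝒵.map n) rfl) m =
      P.D.T (𝒵.affine n) (bi n ≫ pl (li n)) (𝒵.map n ≫ q)
        (P.G.obj.mapTop (slHom (s' := slMk (bi n ≫ pl (li n))) (s := slMk (pl (li n))) (bi n) rfl) (t (li n)))) :
    IsValC 𝒰 pl t q α m := by
  intro l v' hv' k b q' hq e
  haveI := hv
  haveI := hv'
  haveI : IsAffine (sch (Sl x₀) (slMk q')) := hv'
  obtain ⟨𝒴, -, h𝒴⟩ := 𝒵.exists_pullback P.fib k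
  refine (slCover 𝒴 q').ext P.G.property.1 P.G.property.2 _ _ fun j => ?_
  obtain ⟨n, c, hcn⟩ := h𝒴 j
  refine (mapTop_sl_comp P.G.obj (𝒴.map j) k rfl hq (by rw [Category.assoc, hq]) m).trans ?_
  refine (isValC_piece hc (𝒴.affine j) q m (𝒵.affine n) (𝒵.map n) c hcn (li n) (bi n) _ (hm n)).trans ?_
  refine Eq.trans ?_ (map_twist hc (𝒴.affine j) hv' (𝒴.map j) l b rfl).symm
  refine twist_eq hc (𝒴.affine j) _ _ _ _ ?_ _
  rw [Category.assoc, Category.assoc, hbi, e, ← Category.assoc, hcn, Category.assoc]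

theorem exists_isValC [IsAffine (sch 𝒱 x)] [Finite 𝒰.ι] {v : 𝒱.obj} (hv : IsAffine (sch 𝒱 v)) (q : v ⟶ x₀)
    (α : v ⟶ x) : ∃ m : Sec P.G.obj (slMk q), IsValC 𝒰 pl t q α m := by
  haveI := hv
  obtain ⟨𝒵, hfin, h𝒵⟩ := 𝒰.exists_pullback P.fib α
  choose li bi hbi using h𝒵
  haveI := hfin inferInstance
  obtain ⟨m, hm⟩ := exists_glueValC hc hv q α 𝒵 li bi hbi
  exact ⟨m, isValC_of_glue hc hv q α 𝒵 li bi hbi m hm⟩

/-- Gluing of global sections along a finite cover by objects with lifts. -/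
theorem exists_cover_glue [IsAffine (sch 𝒱 x)] [Finite 𝒰.ι] :
    ∃ s : Sec P.toMod x, ∀ l, P.evG (𝒰.affine l) (pl l) (𝒰.map l) s = t l := by
  choose m hm using fun j : Idx x₀ x ⊤ => exists_isValC hc j.aff j.p j.α
  let s : P.Fam x ⊤ := ⟨m, fun {v' v} hv' hv k {p p' α α'} hp hα e e' => ?_, fun {v} hv p q α e => ?_⟩
  · refine ⟨(P.secFam x ⊤).symm s, fun l => ?_⟩
    show ev (P.secFam x ⊤ ((P.secFam x ⊤).symm s)) (𝒰.affine l) (pl l) (𝒰.map l) _ = t l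
    rw [LinearEquiv.apply_symm_apply]
    refine isValC_unique (𝒰.affine l) (pl l) (𝒰.map l) (hm ⟨_, 𝒰.affine l, pl l, 𝒰.map l, le_top' _⟩) ?_
    intro l' v' hv' k b q' hq e
    subst hq
    exact (hc v' hv' l' l b k e).symm
  · refine isValC_unique hv' p' α' ?_ (hm ⟨v', hv', p', α', e'⟩)
    intro l v'' hv'' k' b q' hq e''
    refine (mapTop_sl_comp P.G.obj k' k hq hp (by rw [Category.assoc, hp, hq]) _).trans ?_
    exact hm ⟨v, hv, p, α, e⟩ l v'' hv'' (k' ≫ k) b q' (by rw [Category.assoc, hp, hq])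
      (by rw [Category.assoc, hα, e''])
  · refine isValC_unique hv q α ?_ (hm ⟨v, hv, q, α, e⟩)
    intro l v' hv' k b q' hq e'
    refine (P.D.T_nat hv' hv k (p := p) (q := q) (p' := k ≫ p) rfl hq _).symm.trans ?_
    rw [hm ⟨v, hv, p, α, e⟩ l v' hv' k b (k ≫ p) rfl e', P.D.T_comp]

end Glue

end PB

end Groth.L23.RelGen
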