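import Groth.Agent.L23.RelGen.Fam
import Mathlib.Topology.Sheaves.SheafCondition.UniqueGluing
import Mathlib.Algebra.Group.Shrink

/-!
# The module of compatible families of a descent datum
-/

universe w v u

open CategoryTheory CategoryTheory.Limits AlgebraicGeometry Opposite TopologicalSpace

set_option backward.isDefEq.respectTransparency false
set_option backward.isDefEq.respectTransparency.types false
set_option linter.style.haveILetI false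
set_option linter.unusedSectionVars false

noncomputable section

namespace Groth.L23.RelGen

open StMod
open Groth.L18.Frame (rs ro)

variable {S : Scheme.{u}} {𝒱 : BasedCategory.{v, w} (Over S)}

namespace PB

variable {x₀ : 𝒱.obj} {P : PB x₀} {x : 𝒱.obj}

/-- A value glueing families on an open cover. -/
def IsVal {ι : Type*} {V : ι → (sch 𝒱 x).Opens} (sf : ∀ i, P.Fam x (V i)) {v : 𝒱.obj} (p : v ⟶ x₀) (α : v ⟶ x)
    (m : Sec P.G.obj (slMk p)) : Prop :=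
  ∀ (i : ι) (v' : 𝒱.obj) (hv' : IsAffine (sch 𝒱 v')) (k : v' ⟶ v) (p' : v' ⟶ x₀) (α' : v' ⟶ x)
    (hp : k ≫ p = p') (_ : k ≫ α = α') (e : (⊤ : (sch 𝒱 v').Opens) ≤ bmap 𝒱 α' ⁻¹ᵁ V i),
    P.G.obj.mapTop (slHom (s' := slMk p') (s := slMk p) k hp) m = ev (sf i) hv' p' α' e

variable {ι : Type*} {V : ι → (sch 𝒱 x).Opens} {sf : ∀ i, P.Fam x (V i)}

theorem le_piece_of {v' v : 𝒱.obj} (k : v' ⟶ v) (α : v ⟶ x) {W : (sch 𝒱 x).Opens}
    (h : (⊤ : (sch 𝒱 v').Opens) ≤ bmap 𝒱 k ⁻¹ᵁ (bmap 𝒱 α ⁻¹ᵁ W)) :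
    (⊤ : (sch 𝒱 v').Opens) ≤ bmap 𝒱 (k ≫ α) ⁻¹ᵁ W := by
  rw [bmap_comp, Scheme.Hom.comp_preimage]
  exact h

theorem le_piece_to {v' v : 𝒱.obj} (k : v' ⟶ v) (α : v ⟶ x) {W : (sch 𝒱 x).Opens}
    (h : (⊤ : (sch 𝒱 v').Opens) ≤ bmap 𝒱 (k ≫ α) ⁻¹ᵁ W) :
    (⊤ : (sch 𝒱 v').Opens) ≤ bmap 𝒱 k ⁻¹ᵁ (bmap 𝒱 α ⁻¹ᵁ W) := by
  rw [bmap_comp, Scheme.Hom.comp_preimage] at h
  exact h

theorem exists_cover_of {v : 𝒱.obj} (hv : IsAffine (sch 𝒱 v)) (α : v ⟶ x) (hfib : FibCat.IsFibGrpd 𝒱.p)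
    (e : (⊤ : (sch 𝒱 v).Opens) ≤ bmap 𝒱 α ⁻¹ᵁ iSup V) :
    ∃ 𝒲 : Cover v, Finite 𝒲.ι ∧
      ∀ l, ∃ i, (⊤ : (sch 𝒱 (𝒲.obj l)).Opens) ≤ bmap 𝒱 (𝒲.map l ≫ α) ⁻¹ᵁ V i := by
  haveI := hv
  obtain ⟨𝒲, hfin, h𝒲⟩ := exists_openCover hfib (fun i => bmap 𝒱 α ⁻¹ᵁ V i) fun q => by
    have hq : bmap 𝒱 α q ∈ iSup V := e (show q ∈ (⊤ : (sch 𝒱 v).Opens) from trivial)
    obtain ⟨i, hi⟩ := Opens.mem_iSup.1 hq
    exact ⟨i, hi⟩
  exact ⟨𝒲, hfin, fun l => ⟨_, le_piece_of _ _ (h𝒲 l).choose_spec⟩⟩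

theorem isVal_unique {v : 𝒱.obj} (hv : IsAffine (sch 𝒱 v)) (p : v ⟶ x₀) (α : v ⟶ x)
    (e : (⊤ : (sch 𝒱 v).Opens) ≤ bmap 𝒱 α ⁻¹ᵁ iSup V) {m m' : Sec P.G.obj (slMk p)}
    (h : IsVal sf p α m) (h' : IsVal sf p α m') : m = m' := by
  obtain ⟨𝒲, -, h𝒲⟩ := exists_cover_of hv α P.fib e
  haveI : IsAffine (sch (Sl x₀) (slMk p)) := hv
  refine (slCover 𝒲 p).ext P.G.property.1 P.G.property.2 _ _ fun l => ?_
  obtain ⟨i, hi⟩ := h𝒲 l
  exact (h i _ (𝒲.affine l) _ _ _ rfl rfl hi).trans (h' i _ (𝒲.affine l) _ _ _ rfl rfl hi).symm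

theorem ev_congr {U : (sch 𝒱 x).Opens} (s : P.Fam x U) {v : 𝒱.obj} (hv : IsAffine (sch 𝒱 v)) (p : v ⟶ x₀)
    {α α' : v ⟶ x} (h : α = α') (e : (⊤ : (sch 𝒱 v).Opens) ≤ bmap 𝒱 α ⁻¹ᵁ U)
    (e' : (⊤ : (sch 𝒱 v).Opens) ≤ bmap 𝒱 α' ⁻¹ᵁ U) : ev s hv p α e = ev s hv p α' e' := by
  subst h; rfl

variable (hc : ∀ i j, P.resFam (inf_le_left : V i ⊓ V j ≤ V i) (sf i) = P.resFam (inf_le_right : V i ⊓ V j ≤ V j) (sf j))
include hc

theorem ev_eq_of_compat {v : 𝒱.obj} (hv : IsAffine (sch 𝒱 v)) (p : v ⟶ x₀) (α : v ⟶ x) (i j : ι)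
    (ei : (⊤ : (sch 𝒱 v).Opens) ≤ bmap 𝒱 α ⁻¹ᵁ V i) (ej : (⊤ : (sch 𝒱 v).Opens) ≤ bmap 𝒱 α ⁻¹ᵁ V j) :
    ev (sf i) hv p α ei = ev (sf j) hv p α ej :=
  congrArg (fun s : P.Fam x (V i ⊓ V j) => ev s hv p α (fun q hq => ⟨ei hq, ej hq⟩)) (hc i j)

theorem exists_glueVal {v : 𝒱.obj} (hv : IsAffine (sch 𝒱 v)) (p : v ⟶ x₀) (α : v ⟶ x) (𝒲 : Cover v)
    [Finite 𝒲.ι] (i : 𝒲.ι → ι) (hi : ∀ l, (⊤ : (sch 𝒱 (𝒲.obj l)).Opens) ≤ bmap 𝒱 (𝒲.map l ≫ α) ⁻¹ᵁ V (i l)) :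
    ∃ m : Sec P.G.obj (slMk p), ∀ l, P.G.obj.mapTop (slHom (s' := slMk (𝒲.map l ≫ p)) (s := slMk p) (𝒲.map l) rfl) m =
      ev (sf (i l)) (𝒲.affine l) (𝒲.map l ≫ p) (𝒲.map l ≫ α) (hi l) := by
  haveI : Finite (slCover 𝒲 p).ι := ‹Finite 𝒲.ι›
  haveI : IsAffine (sch (Sl x₀) (slMk p)) := hv
  refine (slCover 𝒲 p).exists_glue (isFibGrpd_sl P.fib) P.G.property.1 P.G.property.2
    (fun l => ev (sf (i l)) (𝒲.affine l) (𝒲.map l ≫ p) (𝒲.map l ≫ α) (hi l)) fun z hz k l a b hab => ?_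
  have hab' : a.left ≫ 𝒲.map k = b.left ≫ 𝒲.map l := congrArg CommaMorphism.left hab
  have ha : a.left ≫ 𝒲.map k ≫ p = z.hom := CostructuredArrow.w a
  have hb : b.left ≫ 𝒲.map l ≫ p = z.hom := CostructuredArrow.w b
  have hab₂ : b.left ≫ 𝒲.map l ≫ α = a.left ≫ 𝒲.map k ≫ α := by
    rw [← Category.assoc, ← Category.assoc, hab']
  have ek := le_piece_of a.left (𝒲.map k ≫ α) (W := V (i k))
    (le_top.trans ((bmap 𝒱 a.left).preimage_mono (hi k)))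
  have el : (⊤ : (sch 𝒱 z.left).Opens) ≤ bmap 𝒱 (a.left ≫ 𝒲.map k ≫ α) ⁻¹ᵁ V (i l) := by
    rw [← hab₂]
    exact le_piece_of b.left (𝒲.map l ≫ α) (W := V (i l)) (le_top.trans ((bmap 𝒱 b.left).preimage_mono (hi l)))
  refine (ev_map (sf (i k)) hz (𝒲.affine k) a.left (p' := z.hom) ha rfl (hi k) ek).trans ?_
  refine Eq.trans ?_ (ev_map (sf (i l)) hz (𝒲.affine l) b.left (p' := z.hom) hb hab₂ (hi l) el).symm
  exact ev_eq_of_compat hc hz z.hom _ (i k) (i l) ek el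

theorem isVal_of_glue {v : 𝒱.obj} (hv : IsAffine (sch 𝒱 v)) (p : v ⟶ x₀) (α : v ⟶ x) (𝒲 : Cover v)
    (i : 𝒲.ι → ι) (hi : ∀ l, (⊤ : (sch 𝒱 (𝒲.obj l)).Opens) ≤ bmap 𝒱 (𝒲.map l ≫ α) ⁻¹ᵁ V (i l))
    (m : Sec P.G.obj (slMk p))
    (hm : ∀ l, P.G.obj.mapTop (slHom (s' := slMk (𝒲.map l ≫ p)) (s := slMk p) (𝒲.map l) rfl) m =
      ev (sf (i l)) (𝒲.affine l) (𝒲.map l ≫ p) (𝒲.map l ≫ α) (hi l)) : IsVal sf p α m := by
  intro j v' hv' k p' α' hp hα ej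
  haveI := hv
  haveI := hv'
  haveI : IsAffine (sch (Sl x₀) (slMk p')) := hv'
  obtain ⟨𝒵, -, h𝒵⟩ := 𝒲.exists_pullback P.fib k
  refine (slCover 𝒵 p').ext P.G.property.1 P.G.property.2 _ _ fun n => ?_
  obtain ⟨l, t, ht⟩ := h𝒵 n
  have en := le_piece_of (𝒵.map n) α' (W := V j) (le_top.trans ((bmap 𝒱 (𝒵.map n)).preimage_mono ej))
  have hαn : t ≫ 𝒲.map l ≫ α = 𝒵.map n ≫ α' := by rw [← Category.assoc, ht, Category.assoc, hα]
  have hpn : t ≫ 𝒲.map l ≫ p = 𝒵.map n ≫ p' := by rw [← Category.assoc, ht, Category.assoc, hp]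
  have el : (⊤ : (sch 𝒱 (𝒵.obj n)).Opens) ≤ bmap 𝒱 (𝒵.map n ≫ α') ⁻¹ᵁ V (i l) := by
    rw [← hαn]
    exact le_piece_of t (𝒲.map l ≫ α) (W := V (i l)) (le_top.trans ((bmap 𝒱 t).preimage_mono (hi l)))
  have h₁ := mapTop_sl_comp P.G.obj t (𝒲.map l) (p := p) hpn rfl (by rw [Category.assoc]; exact hpn) m
  have h₂ := mapTop_sl_comp P.G.obj (𝒵.map n) k (p := p) (p'' := 𝒵.map n ≫ p') rfl hp
    (by rw [Category.assoc, hp]) m
  have h₃ := ev_map (sf (i l)) (𝒵.affine n) (𝒲.affine l) t hpn hαn (hi l) el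
  have h₄ := ev_map (sf j) (𝒵.affine n) hv' (𝒵.map n) (p' := 𝒵.map n ≫ p') (α' := 𝒵.map n ≫ α') rfl rfl ej en
  have h₅ := ev_eq_of_compat hc (𝒵.affine n) (𝒵.map n ≫ p') (𝒵.map n ≫ α') (i l) j el en
  refine h₂.trans (Eq.trans ?_ h₄.symm)
  refine Eq.trans ?_ h₅
  refine Eq.trans ?_ h₃
  rw [← hm l]
  refine Eq.trans ?_ h₁.symm
  simp only [ht]

theorem exists_isVal {v : 𝒱.obj} (hv : IsAffine (sch 𝒱 v)) (p : v ⟶ x₀) (α : v ⟶ x)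
    (e : (⊤ : (sch 𝒱 v).Opens) ≤ bmap 𝒱 α ⁻¹ᵁ iSup V) : ∃ m : Sec P.G.obj (slMk p), IsVal sf p α m := by
  obtain ⟨𝒲, hfin, h𝒲⟩ := exists_cover_of hv α P.fib e
  choose i hi using h𝒲
  haveI := hfin
  obtain ⟨m, hm⟩ := exists_glueVal hc hv p α 𝒲 i hi
  exact ⟨m, isVal_of_glue hc hv p α 𝒲 i hi m hm⟩

theorem exists_glue_fam : ∃! s : P.Fam x (iSup V), ∀ i, P.resFam (le_iSup V i) s = sf i := by
  choose m hm using fun j : Idx x₀ x (iSup V) => exists_isVal hc j.aff j.p j.α j.le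
  refine ⟨⟨m, fun {v' v} hv' hv k {p p' α α'} hp hα e e' => ?_, fun {v} hv p q α e => ?_⟩, fun i => ?_,
    fun s hs => ?_⟩
  · refine isVal_unique hv' p' α' e' (sf := sf) ?_ (hm ⟨v', hv', p', α', e'⟩)
    intro i v'' hv'' k' p'' α'' hp' hα' e''
    refine (mapTop_sl_comp P.G.obj k' k hp' hp (by rw [Category.assoc, hp, hp']) _).trans ?_
    exact hm ⟨v, hv, p, α, e⟩ i v'' hv'' (k' ≫ k) p'' α'' (by rw [Category.assoc, hp, hp'])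
      (by rw [Category.assoc, hα, hα']) e''
  · refine isVal_unique hv q α e (sf := sf) ?_ (hm ⟨v, hv, q, α, e⟩)
    intro i v' hv' k q' α' hq hα e'
    refine (P.D.T_nat hv' hv k (p := p) (q := q) (p' := k ≫ p) rfl hq _).symm.trans ?_
    rw [hm ⟨v, hv, p, α, e⟩ i v' hv' k (k ≫ p) α' rfl hα e']
    exact ev_tw (sf i) hv' _ _ _ e'
  · refine fam_ext fun v hv p α e => ?_
    have eV : (⊤ : (sch 𝒱 v).Opens) ≤ bmap 𝒱 α ⁻¹ᵁ iSup V := e.trans ((bmap 𝒱 α).preimage_mono (le_iSup V i))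
    refine isVal_unique hv p α eV (sf := sf) (hm ⟨v, hv, p, α, eV⟩) ?_
    intro j v' hv' k p' α' hp hα e'
    have ei : (⊤ : (sch 𝒱 v').Opens) ≤ bmap 𝒱 α' ⁻¹ᵁ V i := by
      rw [← hα]
      exact le_piece_of k α (W := V i) (le_top.trans ((bmap 𝒱 k).preimage_mono e))
    exact (ev_map (sf i) hv' hv k hp hα e ei).trans (ev_eq_of_compat hc hv' _ _ i j ei e')
  · refine fam_ext fun v hv p α e => isVal_unique hv p α e (sf := sf) ?_ (hm ⟨v, hv, p, α, e⟩)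
    intro i v' hv' k p' α' hp hα e'
    refine (ev_map s hv' hv k hp hα e (e'.trans ((bmap 𝒱 α').preimage_mono (le_iSup V i)))).trans ?_
    exact congrArg (fun t : P.Fam x (V i) => ev t hv' p' α' e') (hs i)

omit hc

variable (P x)

/-- Sections of the module of families. -/
abbrev Sh (U : (sch 𝒱 x).Opens) : Type u := Shrink.{u} (P.Fam x U)

/-- Sections as families. -/
def toFam {U : (sch 𝒱 x).Opens} : P.Sh x U ≃ₗ[Γ(sch 𝒱 x, U)] P.Fam x U :=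
  Shrink.linearEquiv Γ(sch 𝒱 x, U) (P.Fam x U)

variable {P x}

theorem toFam_smul {U : (sch 𝒱 x).Opens} (r : Γ(sch 𝒱 x, U)) (s : P.Sh x U) :
    P.toFam x (r • s) = r • P.toFam x s := map_smul _ _ _

variable (P x)

/-- Restriction of sections. -/
def resSh {U W : (sch 𝒱 x).Opens} (h : W ≤ U) : P.Sh x U →+ P.Sh x W :=
  (P.toFam x).symm.toAddEquiv.toAddMonoidHom.comp ((P.resFam h).comp (P.toFam x).toAddEquiv.toAddMonoidHom)

theorem toFam_resSh {U W : (sch 𝒱 x).Opens} (h : W ≤ U) (s : P.Sh x U) :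
    P.toFam x (P.resSh x h s) = P.resFam h (P.toFam x s) := (P.toFam x).apply_symm_apply _

/-- The presheaf of families. -/
def abPre : (sch 𝒱 x).Opensᵒᵖ ⥤ Ab.{u} where
  obj U := AddCommGrpCat.of (P.Sh x U.unop)
  map {U W} i := AddCommGrpCat.ofHom (P.resSh x i.unop.le)
  map_id U := by
    refine AddCommGrpCat.ext fun s => ?_
    refine (P.toFam x).injective ?_
    exact (P.toFam_resSh x le_rfl s)
  map_comp {U W Z} i j := by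
    refine AddCommGrpCat.ext fun s => ?_
    refine (P.toFam x).injective ?_
    show P.toFam x (P.resSh x _ s) = P.toFam x (P.resSh x _ (P.resSh x _ s))
    rw [toFam_resSh, toFam_resSh, toFam_resSh]
    rfl

instance (U : (sch 𝒱 x).Opensᵒᵖ) :
    Module (((sch 𝒱 x).presheaf ⋙ forget₂ CommRingCat RingCat).obj U) ((P.abPre x).obj U) :=
  inferInstanceAs (Module Γ(sch 𝒱 x, U.unop) (P.Sh x U.unop))

theorem appLE_ro {v : 𝒱.obj} (α : v ⟶ x) {U W : (sch 𝒱 x).Opens} (h : W ≤ U)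
    (e : (⊤ : (sch 𝒱 v).Opens) ≤ bmap 𝒱 α ⁻¹ᵁ W) (r : Γ(sch 𝒱 x, U)) :
    (bmap 𝒱 α).appLE U ⊤ (e.trans ((bmap 𝒱 α).preimage_mono h)) r = (bmap 𝒱 α).appLE W ⊤ e (ro h r) := by
  rw [← Scheme.Hom.map_appLE (bmap 𝒱 α) e (homOfLE h).op]
  rfl

theorem resFam_smul {U W : (sch 𝒱 x).Opens} (h : W ≤ U) (r : Γ(sch 𝒱 x, U)) (s : P.Fam x U) :
    P.resFam h (r • s) = ro h r • P.resFam h s :=
  fam_ext fun v hv p α e => congrArg (fun a : Fn (slMk p) => a • _) (appLE_ro x α h e r)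

theorem abPre_map_smul ⦃U W : (sch 𝒱 x).Opensᵒᵖ⦄ (i : U ⟶ W)
    (r : ((sch 𝒱 x).presheaf ⋙ forget₂ CommRingCat RingCat).obj U) (m : (P.abPre x).obj U) :
    (P.abPre x).map i (r • m) =
      ((sch 𝒱 x).presheaf ⋙ forget₂ CommRingCat RingCat).map i r • (P.abPre x).map i m := by
  refine (P.toFam x).injective ?_
  refine (P.toFam_resSh x i.unop.le _).trans ?_
  refine (congrArg (P.resFam i.unop.le) (toFam_smul (P := P) (x := x) (U := U.unop) r m)).trans ?_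
  refine (P.resFam_smul x _ _ _).trans ?_
  rw [← P.toFam_resSh x]
  exact (toFam_smul (P := P) (x := x) (U := W.unop) _ _).symm

theorem abPre_isSheaf : TopCat.Presheaf.IsSheaf (P.abPre x) := by
  rw [TopCat.Presheaf.isSheaf_iff_isSheafUniqueGluing]
  intro κ V sf hsf
  obtain ⟨s, hs, hu⟩ := exists_glue_fam (P := P) (x := x) (sf := fun i => P.toFam x (show P.Sh x (V i) from sf i))
    fun i j => by
      refine (P.toFam_resSh x _ _).symm.trans (Eq.trans ?_ (P.toFam_resSh x _ _))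
      exact congrArg (P.toFam x) (hsf i j)
  refine ⟨(show P.Sh x (iSup V) from (P.toFam x).symm s), fun i => ?_, fun t ht => ?_⟩
  · refine (P.toFam x).injective ?_
    refine (P.toFam_resSh x (le_iSup V i) _).trans ?_
    rw [LinearEquiv.apply_symm_apply]
    exact hs i
  · refine (P.toFam x).injective ?_
    rw [LinearEquiv.apply_symm_apply]
    refine hu _ fun i => ?_
    refine (P.toFam_resSh x (le_iSup V i) _).symm.trans ?_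
    exact congrArg (P.toFam x) (ht i)

/-- The module of families on an object. -/
def famMod : (sch 𝒱 x).Modules where
  val := PresheafOfModules.ofPresheaf (R := (sch 𝒱 x).presheaf ⋙ forget₂ CommRingCat RingCat) (P.abPre x)
    (P.abPre_map_smul x)
  isSheaf := P.abPre_isSheaf x

/-- Sections of the module of families. -/
def secFam (U : (sch 𝒱 x).Opens) : Γ(P.famMod x, U) ≃ₗ[Γ(sch 𝒱 x, U)] P.Fam x U :=
  { (P.toFam x).toAddEquiv with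
    map_smul' := fun r s => toFam_smul r s }

theorem secFam_rs {U W : (sch 𝒱 x).Opens} (h : W ≤ U) (s : Γ(P.famMod x, U)) :
    P.secFam x W (rs (P.famMod x) h s) = P.resFam h (P.secFam x U s) := P.toFam_resSh x h s

variable {x}

theorem resFam_mapFam {x' : 𝒱.obj} (φ : x' ⟶ x) {g : sch 𝒱 x' ⟶ sch 𝒱 x} (hg : bmap 𝒱 φ = g)
    {U W : (sch 𝒱 x).Opens} (h : W ≤ U) (s : P.Fam x U) :
    P.mapFam φ hg W (P.resFam h s) = P.resFam (g.preimage_mono h) (P.mapFam φ hg U s) := rfl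

theorem mapFam_smul {x' : 𝒱.obj} (φ : x' ⟶ x) {g : sch 𝒱 x' ⟶ sch 𝒱 x} (hg : bmap 𝒱 φ = g)
    (U : (sch 𝒱 x).Opens) (r : Γ(sch 𝒱 x, U)) (s : P.Fam x U) :
    P.mapFam φ hg U (r • s) = g.app U r • P.mapFam φ hg U s := by
  refine fam_ext fun v hv p α e => congrArg (fun a : Fn (slMk p) => a • _) ?_
  subst hg
  have key : ∀ (g' : sch 𝒱 v ⟶ sch 𝒱 x) (_ : bmap 𝒱 (α ≫ φ) = g') (e'' : ⊤ ≤ g' ⁻¹ᵁ U),
      (bmap 𝒱 (α ≫ φ)).appLE U ⊤ (le_of_comp φ rfl α e) r = g'.appLE U ⊤ e'' r := by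
    rintro g' rfl e''; rfl
  show (bmap 𝒱 (α ≫ φ)).appLE U ⊤ _ r = (bmap 𝒱 α).appLE (bmap 𝒱 φ ⁻¹ᵁ U) ⊤ e ((bmap 𝒱 φ).app U r)
  rw [key _ (bmap_comp α φ) e, Scheme.Hom.appLE, Scheme.Hom.appLE, Scheme.Hom.comp_app, Category.assoc]
  rfl

/-- The comparison map on sections. -/
def mapHom {x' x : 𝒱.obj} (φ : x' ⟶ x) {g : sch 𝒱 x' ⟶ sch 𝒱 x} (hg : bmap 𝒱 φ = g) :
    P.famMod x ⟶ (Scheme.Modules.pushforward g).obj (P.famMod x') :=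
  ⟨PresheafOfModules.homMk
    { app := fun U => AddCommGrpCat.ofHom
        ((P.secFam x' (g ⁻¹ᵁ U.unop)).symm.toAddEquiv.toAddMonoidHom.comp
          ((P.mapFam φ hg U.unop).comp (P.secFam x U.unop).toAddEquiv.toAddMonoidHom))
      naturality := fun U W i => by
        ext s
        refine (P.secFam x' (g ⁻¹ᵁ W.unop)).injective ?_
        show P.secFam x' _ ((P.secFam x' _).symm (P.mapFam φ hg W.unop (P.secFam x _ (rs (P.famMod x) i.unop.le s)))) =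
          P.secFam x' _ (rs (P.famMod x') (g.preimage_mono i.unop.le) ((P.secFam x' _).symm _))
        rw [LinearEquiv.apply_symm_apply, secFam_rs, secFam_rs, LinearEquiv.apply_symm_apply]
        rfl }
    fun U r s => by
      refine (P.secFam x' (g ⁻¹ᵁ U.unop)).injective ?_
      show P.secFam x' _ ((P.secFam x' _).symm (P.mapFam φ hg U.unop (P.secFam x U.unop
          ((show Γ(sch 𝒱 x, U.unop) from r) • (show Γ(P.famMod x, U.unop) from s))))) =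
        P.secFam x' _ ((show Γ(sch 𝒱 x', g ⁻¹ᵁ U.unop) from g.app U.unop r) •
          (P.secFam x' _).symm (P.mapFam φ hg U.unop (P.secFam x U.unop s)))
      rw [LinearEquiv.apply_symm_apply, (P.secFam x U.unop).map_smul, (P.secFam x' _).map_smul,
        LinearEquiv.apply_symm_apply, mapFam_smul]⟩

theorem secFam_mapHom {x' x : 𝒱.obj} (φ : x' ⟶ x) {g : sch 𝒱 x' ⟶ sch 𝒱 x} (hg : bmap 𝒱 φ = g)
    (U : (sch 𝒱 x).Opens) (s : Γ(P.famMod x, U)) :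
    P.secFam x' (g ⁻¹ᵁ U) ((P.mapHom φ hg).app U s) = P.mapFam φ hg U (P.secFam x U s) :=
  (P.secFam x' (g ⁻¹ᵁ U)).apply_symm_apply _

theorem mapFam_id (x : 𝒱.obj) (U : (sch 𝒱 x).Opens) (s : P.Fam x U) :
    P.mapFam (𝟙 x) (bmap_id x) U s = (show P.Fam x (𝟙 (sch 𝒱 x) ⁻¹ᵁ U) from s) :=
  fam_ext fun v hv p α e => ev_congr s hv p (Category.comp_id α) _ _

theorem mapFam_comp {x'' x' x : 𝒱.obj} (ψ : x'' ⟶ x') (φ : x' ⟶ x) {h : sch 𝒱 x'' ⟶ sch 𝒱 x'}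
    {g : sch 𝒱 x' ⟶ sch 𝒱 x} (hh : bmap 𝒱 ψ = h) (hg : bmap 𝒱 φ = g) (hhg : bmap 𝒱 (ψ ≫ φ) = h ≫ g)
    (U : (sch 𝒱 x).Opens) (s : P.Fam x U) :
    P.mapFam (ψ ≫ φ) hhg U s =
      (show P.Fam x'' ((h ≫ g) ⁻¹ᵁ U) from P.mapFam ψ hh (g ⁻¹ᵁ U) (P.mapFam φ hg U s)) :=
  fam_ext fun v hv p α e => ev_congr s hv p (Category.assoc α ψ φ).symm _ _

theorem mapHom_id_app (x : 𝒱.obj) (U : (sch 𝒱 x).Opens) (s : Γ(P.famMod x, U)) :
    (P.mapHom (𝟙 x) (bmap_id x)).app U s = s :=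
  (P.secFam x U).injective ((P.secFam_mapHom (𝟙 x) (bmap_id x) U s).trans (P.mapFam_id x U _))

theorem mapHom_comp_app {x'' x' x : 𝒱.obj} (ψ : x'' ⟶ x') (φ : x' ⟶ x) {h : sch 𝒱 x'' ⟶ sch 𝒱 x'}
    {g : sch 𝒱 x' ⟶ sch 𝒱 x} (hh : bmap 𝒱 ψ = h) (hg : bmap 𝒱 φ = g) (hhg : bmap 𝒱 (ψ ≫ φ) = h ≫ g)
    (U : (sch 𝒱 x).Opens) (s : Γ(P.famMod x, U)) :
    (P.mapHom (ψ ≫ φ) hhg).app U s =
      (show Γ(P.famMod x'', (h ≫ g) ⁻¹ᵁ U) from (P.mapHom ψ hh).app (g ⁻¹ᵁ U) ((P.mapHom φ hg).app U s)) := by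
  refine (P.secFam x'' ((h ≫ g) ⁻¹ᵁ U)).injective ?_
  refine (P.secFam_mapHom (ψ ≫ φ) hhg U s).trans ((P.mapFam_comp ψ φ hh hg hhg U _).trans ?_)
  exact ((congrArg (P.mapFam ψ hh (g ⁻¹ᵁ U)) (P.secFam_mapHom φ hg U s)).symm.trans
    (P.secFam_mapHom ψ hh (g ⁻¹ᵁ U) _).symm)

/-- The module of families. -/
def toMod : Mod 𝒱 where
  obj x := P.famMod x
  map φ _ hg := P.mapHom φ hg
  map_id x := by
    refine Scheme.Modules.hom_ext _ _ fun U => ?_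
    ext s
    simp only [Scheme.Modules.Hom.comp_app, Scheme.Modules.pushforwardId_hom_app_app, Category.comp_id]
    exact P.mapHom_id_app x U s
  map_comp {x'' x' x} ψ φ h g hh hg := by
    refine Scheme.Modules.hom_ext _ _ fun U => ?_
    ext s
    simp only [Scheme.Modules.Hom.comp_app, Scheme.Modules.pushforwardComp_hom_app_app,
      Scheme.Modules.pushforward_map_app]
    exact P.mapHom_comp_app ψ φ hh hg _ U s

theorem secFam_mapTop {x' x : 𝒱.obj} (φ : x' ⟶ x) (s : Sec P.toMod x) :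
    P.secFam x' ⊤ (P.toMod.mapTop φ s) = P.mapFam φ rfl ⊤ (P.secFam x ⊤ s) :=
  P.secFam_mapHom φ rfl ⊤ s

end PB

end Groth.L23.RelGen
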