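import Groth.Agent.L23.RelGen.AtlasExists
import Groth.Agent.L24.St.LocPStack
import Groth.Agent.L24.St.UnivProps

/-!
# Affine flat covers of an object by jointly surjective flat charts
-/

universe u

open CategoryTheory CategoryTheory.Limits AlgebraicGeometry Opposite TopologicalSpace

set_option backward.isDefEq.respectTransparency false
set_option backward.isDefEq.respectTransparency.types false
set_option linter.style.haveILetI false
set_option linter.unusedSectionVars false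

noncomputable section

namespace Groth.L23.RelGen

open StMod Groth.L24.St AlgSp
open Groth.L19.QCohFpqc (IsCov)

variable {S : Scheme.{u}} {𝒴 : AlgSt.Cat S}

/-- Through every point of an object passes a morphism from the value of a chart at an affine scheme, which is
an open immersion followed by a morphism with the property of the charts. -/
theorem exists_chart_point {Q : MorphismProperty Scheme.{u}} [Q.RespectsIso] (hg : FibCat.IsFibGrpd 𝒴.p) {A : Type u} {U : A → Over S}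
    (g : ∀ a, FibCat.overCat (U a) ⥤ᵇ 𝒴) (hfl : ∀ a, AlgSt.RepByAlgSpWith (AlgSp.LocP Q) (g a))
    (hsurj : ∀ p : AlgSt.Points 𝒴, ∃ (a : A) (v : (U a).left), AlgSt.Points.ofChart (g a) v = p)
    (η : 𝒴.obj) (s : sch 𝒴 η) :
    ∃ (a : A) (t : (FibCat.overCat (U a)).obj) (m : (g a).obj t ⟶ η),
      IsAffine (sch 𝒴 ((g a).obj t)) ∧ (∃ (W : Scheme.{u}) (j : sch 𝒴 ((g a).obj t) ⟶ W) (h : W ⟶ sch 𝒴 η),
        IsOpenImmersion j ∧ Q h ∧ bmap 𝒴 m = j ≫ h) ∧ ∃ y, bmap 𝒴 m y = s := by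
  obtain ⟨G, ι, hι⟩ := exists_overCat_functor hg η rfl
  let T := 𝒴.p.obj η
  have hι' : 𝒴.p.IsHomLift (𝟙 T) ι.hom := hι.lift (G.w_obj _)
  let s' : ↥T.left := s
  obtain ⟨a, v, hv⟩ := hsurj (AlgSt.Points.map G (ptOver s'))
  obtain ⟨P, hP, -⟩ := exists_points_fp (overCat_isFibGrpd (U a)) hg (overCat_isFibGrpd T) (g a) G (ptOver s')
    (ptOver v) hv.symm
  obtain ⟨F, e, he, hq⟩ := hfl a T G
  obtain ⟨P₀, rfl⟩ := isSurjective_of_isEquivOver he P
  obtain ⟨qf, rfl⟩ := exists_toFPt P₀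
  obtain ⟨W, π, hπ, hπs⟩ := F.property.atlas
  let Φ := BasedFunctor.comp e (FibCat.fpFst G (g a))
  let h : W ⟶ T := AlgSt.secHom Φ ⟨W, (AlgSp.J S).uliftYonedaEquiv π⟩
  have hh : π ≫ AlgSt.spMapOfOver Φ = (yon S).map h ≫ 𝟙 _ := by
    rw [Category.comp_id]
    apply (AlgSp.J S).uliftYonedaEquiv.injective
    rw [GrothendieckTopology.uliftYonedaEquiv_comp, GrothendieckTopology.uliftYonedaEquiv_uliftYoneda_map]
    rfl
  have hQ : Q h.left := hq π (𝟙 _) h hπ (Groth.L23.repWith_of_isIso _) hh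
  have hs : AlgSp.Points.toScheme T (AlgSp.Points.map (AlgSt.spMapOfOver Φ) (AlgSp.Points.mk qf)) = s' := by
    rw [← overPt_map_spMapOfOver]
    show overPt (AlgSt.Points.map (FibCat.fpFst G (g a)) (AlgSt.Points.map e (AlgSt.Points.mk (toFPt qf)))) = _
    rw [hP, overPt_ptOver]
  obtain ⟨y, hy⟩ := Groth.L23.surjective_ofPt hπs (AlgSp.Points.mk qf)
  have hys : h.left y = s' := by
    rw [← hy, Points.map_ofPt, hh, Category.comp_id, Groth.L23.ofPt_map] at hs
    refine Eq.trans ?_ hs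
    exact ((Points.schemeEquiv T).symm_apply_apply _).symm
  let z := e.obj ⟨W, (AlgSp.J S).uliftYonedaEquiv π⟩
  obtain ⟨t₀, m₀, hm₀⟩ := L09.Artin.Model.exists_point G z
  have hW : z.obj.fst.left = W := e.w_obj _
  let V := W.left.affineCover
  obtain ⟨i, y', hy'⟩ := V.exists_eq y
  let j : Over.mk (V.f i ≫ W.hom) ⟶ W := Over.homMk (V.f i) rfl
  let t : (FibCat.overCat (U a)).obj := Over.mk (j ≫ eqToHom hW.symm ≫ t₀)
  let c : t ⟶ Over.mk t₀ := Over.homMk (j ≫ eqToHom hW.symm) (Category.assoc _ _ _)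
  have hlift : 𝒴.p.IsHomLift z.obj.fst.hom (m₀ ≫ ι.hom) :=
    IsHomLift.comp_lift_id_right' 𝒴.p z.obj.fst.hom m₀ T ι.hom
  refine ⟨a, t, (g a).map c ≫ m₀ ≫ ι.hom, ?_, ?_⟩
  · haveI : IsAffine (sch (FibCat.overCat (U a)) t) := (inferInstance : IsAffine (V.X i))
    exact IsAffine.of_isIso (eqToHom (sch_obj_eq (g a) t))
  · have hb : bmap 𝒴 (m₀ ≫ ι.hom) = eqToHom (sch_obj_eq (g a) (Over.mk t₀)) ≫ z.obj.fst.hom.left := by
      have h' := congrArg (fun k => k.left) (IsHomLift.fac' 𝒴.p z.obj.fst.hom (m₀ ≫ ι.hom))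
      simp only [Over.comp_left, Over.eqToHom_left] at h'
      show (𝒴.p.map (m₀ ≫ ι.hom)).left = _
      rw [h']
      simp
    have hhz : h.left = eqToHom (congrArg Comma.left hW.symm) ≫ z.obj.fst.hom.left := by
      show (eqToHom _ ≫ z.obj.fst.hom).left = _
      simp
    have hbm : bmap 𝒴 ((g a).map c ≫ m₀ ≫ ι.hom) = eqToHom (sch_obj_eq (g a) t) ≫ V.f i ≫ h.left := by
      rw [bmap_comp, hb, ← Category.assoc, bmap_map_comm (g a) c rfl, hhz, Category.assoc]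
      show _ ≫ (j ≫ eqToHom hW.symm).left ≫ _ = _
      simp [j]
    rw [hbm]
    refine ⟨⟨W.left, eqToHom (sch_obj_eq (g a) t) ≫ V.f i, h.left, inferInstance, hQ, (Category.assoc _ _ _).symm⟩, ?_⟩
    obtain ⟨w, hw⟩ := (eqToHom (sch_obj_eq (g a) t)).surjective y'
    exact ⟨w, by rw [Scheme.Hom.comp_apply, hw, Scheme.Hom.comp_apply]; exact (congrArg (fun p => h.left p) hy').trans hys⟩

/-- Through every point of an affine object passes a flat morphism from the value of a chart at an affine scheme. -/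
theorem exists_flat_point (hg : FibCat.IsFibGrpd 𝒴.p) {A : Type u} {U : A → Over S}
    (g : ∀ a, FibCat.overCat (U a) ⥤ᵇ 𝒴) (hfl : ∀ a, AlgSt.RepByAlgSpWith (AlgSp.LocP @Flat) (g a))
    (hsurj : ∀ p : AlgSt.Points 𝒴, ∃ (a : A) (v : (U a).left), AlgSt.Points.ofChart (g a) v = p)
    (η : 𝒴.obj) (s : sch 𝒴 η) :
    ∃ (a : A) (t : (FibCat.overCat (U a)).obj) (m : (g a).obj t ⟶ η),
      IsAffine (sch 𝒴 ((g a).obj t)) ∧ Flat (bmap 𝒴 m) ∧ ∃ y, bmap 𝒴 m y = s := by
  obtain ⟨a, t, m, h₁, ⟨W, j, h, hj, hQ, e⟩, h₂⟩ := exists_chart_point (Q := @Flat) hg g hfl hsurj η s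
  haveI := hj
  haveI : Flat h := hQ
  exact ⟨a, t, m, h₁, by rw [e]; infer_instance, h₂⟩

/-- Jointly surjective flat charts give flat affine covering families of affine objects. -/
theorem exists_flat_cover (hg : FibCat.IsFibGrpd 𝒴.p) {A : Type u} {U : A → Over S}
    (g : ∀ a, FibCat.overCat (U a) ⥤ᵇ 𝒴) (hfl : ∀ a, AlgSt.RepByAlgSpWith (AlgSp.LocP @Flat) (g a))
    (hsurj : ∀ p : AlgSt.Points 𝒴, ∃ (a : A) (v : (U a).left), AlgSt.Points.ofChart (g a) v = p)
    (η : 𝒴.obj) :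
    ∃ 𝒲 : Cover η, ∀ l, ∃ (a : A) (t : (FibCat.overCat (U a)).obj), 𝒲.obj l = (g a).obj t := by
  choose a t m haff hfl' y hy using exists_flat_point hg g hfl hsurj η
  exact ⟨⟨↥(sch 𝒴 η), fun s => (g (a s)).obj (t s), m, haff, ⟨hfl', fun s => ⟨s, y s, hy s⟩⟩⟩,
    fun s => ⟨a s, t s, rfl⟩⟩

/-- A flat chart of the source of a flat functor. -/
theorem exists_flat_chart {𝒴' : AlgSt.Cat S} (u : 𝒴' ⥤ᵇ 𝒴) (h𝒴' : FibCat.IsFibGrpd 𝒴'.p)
    (hfl : AlgSt.LocQ (AlgSp.LocP @Flat) u) :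
    ∃ (U : Over S) (x : FibCat.overCat U ⥤ᵇ 𝒴'),
      AlgSt.RepByAlgSpWith (AlgSp.LocP @Flat) (BasedFunctor.comp x u) ∧
        Function.Surjective (AlgSt.Points.ofChart x) := by
  obtain ⟨U, V, x, y, h, α, hx, hxs, hy, hh⟩ := hfl
  haveI : Flat h.left := hh (𝟙 _) (𝟙 _) h (Groth.L23.repWith_of_isIso _) (Groth.L23.repWith_of_isIso _)
    (by rw [Category.id_comp, Category.comp_id])
  refine ⟨U, x, (repWith_congr α).2 ?_, surjective_ofChart_of_repWith h𝒴' hxs⟩
  exact repWith_comp_locP Groth.L23.etLocal_flat (overCat_isFibGrpd U) (overCat_isFibGrpd V)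
    (Groth.L24.St.repWith_mono (fun _ _ _ _ h => Groth.L23.locP_of_repWith Groth.L23.etLocal_flat h)
      (repWith_overMap (R := @Flat) ‹_›))
    (Groth.L24.St.repWith_mono (fun _ _ _ _ h => Groth.L23.locP_mono (fun _ hφ => by have := hφ; infer_instance) h) hy)

end Groth.L23.RelGen
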