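import Groth.Agent.L23.RelGen.Cast
import Groth.Agent.L23.RelGen.AtlasExists

/-!
# Generation and atlases along equivalences over the base
-/

universe t w' v' w v u

open CategoryTheory CategoryTheory.Limits AlgebraicGeometry Opposite TopologicalSpace

set_option backward.isDefEq.respectTransparency false
set_option backward.isDefEq.respectTransparency.types false
set_option linter.style.haveILetI false
set_option linter.unusedSectionVars false

noncomputable section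

namespace Groth.L23.RelGen

open StMod

variable {S : Scheme.{u}} {𝒳 : BasedCategory.{v, w} (Over S)} {ℬ : BasedCategory.{v', w'} (Over S)}

/-- Isomorphic families generate simultaneously. -/
theorem isGenFam_congr {ι : Type t} {E E' : ι → QCoh 𝒳} (e : ∀ i, (E i).obj ≅ (E' i).obj) (h : IsGenFam E) :
    IsGenFam E' := by
  rw [isGenFam_iff] at h ⊢
  exact fun M N u hu => h u fun i φ => by
    rw [← cancel_epi (e i).inv, comp_zero, ← Category.assoc]
    exact hu i _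

theorem fnMap_iso_inv {x y : 𝒳.obj} (j : x ≅ y) (r : Fn y) : fnMap j.inv (fnMap j.hom r) = r := by
  have := congrArg (fun t => fnMap t r) j.inv_hom_id
  rw [fnMap_comp] at this
  refine this.trans ?_
  show (bmap _ (𝟙 y)).appTop.hom r = r
  rw [bmap_id, Scheme.Hom.id_appTop]; rfl

theorem isIso_bmap {x y : 𝒳.obj} (j : x ⟶ y) [IsIso j] : IsIso (bmap 𝒳 j) := by
  show IsIso ((Over.forget S).map (𝒳.p.map j))
  infer_instance

theorem exists_descend_hom (Φ : ℬ ⥤ᵇ 𝒳) [Φ.toFunctor.Full] [Φ.toFunctor.EssSurj]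
    (hX : FibCat.IsFibGrpd 𝒳.p) (E M : Mod 𝒳) (hM : M.IsCartesian)
    (φ' : Mod.comap Φ E ⟶ Mod.comap Φ M) :
    ∃ φ : E ⟶ M, ∀ (b : ℬ.obj) (_ : IsAffine (sch ℬ b)) (m : Sec E (Φ.obj b)),
      secC Φ M b ((φ.app (Φ.obj b)).app ⊤ m) = (φ'.app b).app ⊤ (secC Φ E b m) := by
  let L : ∀ b, Sec E (Φ.obj b) →+ Sec M (Φ.obj b) := fun b =>
    ((secC Φ M b).symm.toAddMonoidHom.comp ((φ'.app b).app ⊤).hom).comp (secC Φ E b).toAddMonoidHom
  have hLsmul : ∀ b (r : Fn (Φ.obj b)) m, L b (r • m) = r • L b m := by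
    intro b r m
    obtain ⟨s, rfl⟩ := (castFn_bijective Φ b).2 r
    show (secC Φ M b).symm ((φ'.app b).app ⊤ (secC Φ E b (castFn (sch_obj_eq Φ b) s • m))) = _
    rw [secC_smul, Scheme.Modules.Hom.app_smul, secC_symm_smul]
    rfl
  have hLnat : ∀ {b' b} (k : b' ⟶ b) m, L b' (E.mapTop (Φ.map k) m) = M.mapTop (Φ.map k) (L b m) := by
    intro b' b k m
    show (secC Φ M b').symm ((φ'.app b').app ⊤ (secC Φ E b' (E.mapTop (Φ.map k) m))) = _
    rw [← secC_mapTop, ← Mod.mapTop_app, secC_symm_mapTop]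
    rfl
  let o : 𝒳.obj → ℬ.obj := fun a => Φ.toFunctor.objPreimage a
  let j : ∀ a, Φ.obj (o a) ≅ a := fun a => Φ.toFunctor.objObjPreimageIso a
  let θ : ∀ a, IsAffine (sch 𝒳 a) → (Sec E a →ₗ[Fn a] Sec M a) := fun a _ =>
    { toFun := fun m => M.mapTop (j a).inv (L (o a) (E.mapTop (j a).hom m))
      map_add' := fun x y => by rw [Mod.mapTop_add, map_add, Mod.mapTop_add]
      map_smul' := fun r m => by
        rw [Mod.mapTop_smul, hLsmul, Mod.mapTop_smul]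
        exact congrArg (· • _) (fnMap_iso_inv (j a) r) }
  obtain ⟨φ, hφ⟩ := exists_hom_of_affine hX hM θ fun a' a s _ _ m => by
    show M.mapTop (j a').inv (L (o a') (E.mapTop (j a').hom (E.mapTop s m))) =
      M.mapTop s (M.mapTop (j a).inv (L (o a) (E.mapTop (j a).hom m)))
    obtain ⟨k, hk⟩ := Φ.toFunctor.map_surjective ((j a').hom ≫ s ≫ (j a).inv)
    have e₁ : (j a').hom ≫ s = Φ.map k ≫ (j a).hom := by rw [hk]; simp
    rw [← Mod.mapTop_comp E, e₁, Mod.mapTop_comp E, hLnat, ← Mod.mapTop_comp, ← Mod.mapTop_comp]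
    refine congrArg (fun t => M.mapTop t _) ?_
    rw [hk]; simp
  refine ⟨φ, fun b hb m => ?_⟩
  rw [hφ _ ((isAffine_obj_iff Φ b).2 hb)]
  show secC Φ M b (M.mapTop (j _).inv (L (o _) (E.mapTop (j _).hom m))) = _
  obtain ⟨k, hk⟩ := Φ.toFunctor.map_surjective (j (Φ.obj b)).hom
  rw [← hk, hLnat, hk, ← Mod.mapTop_comp, Iso.inv_hom_id, Mod.mapTop_id]
  exact (secC Φ M b).apply_symm_apply _

/-- Generation descends along a full and essentially surjective functor over the base. -/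
theorem isGenFam_of_equiv (Φ : ℬ ⥤ᵇ 𝒳) [Φ.toFunctor.Full] [Φ.toFunctor.EssSurj]
    (hB : FibCat.IsFibGrpd ℬ.p) (hX : FibCat.IsFibGrpd 𝒳.p) {ι : Type t} (E : ι → QCoh 𝒳)
    (h : IsGenFam (fun i => (comapQ Φ).obj (E i))) : IsGenFam E := by
  rw [isGenFam_iff] at h ⊢
  intro M N u hu
  have hkill : Mod.comapMap Φ u.hom = 0 := by
    suffices h₁ : (comapQ Φ).map u = 0 by
      have h₂ := congrArg InducedCategory.Hom.hom h₁
      exact h₂
    refine h ((comapQ Φ).map u) fun i φ' =>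
      eq_zero_of_affine hB (isCartesian_comap N.property.1) _ fun b hb m => ?_
    obtain ⟨φ, hφ⟩ := exists_descend_hom Φ hX (E i).obj M.obj M.property.1 φ'
    obtain ⟨m₀, rfl⟩ := (secC Φ (E i).obj b).surjective m
    show ((Mod.comapMap Φ u.hom).app b).app ⊤ ((φ'.app b).app ⊤ (secC Φ (E i).obj b m₀)) = 0
    refine (congrArg (fun x => ((Mod.comapMap Φ u.hom).app b).app ⊤ x) (hφ b hb m₀).symm).trans ?_
    rw [secC_app]
    have h0 : (u.hom.app (Φ.obj b)).app ⊤ ((φ.app (Φ.obj b)).app ⊤ m₀) = 0 :=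
      congrArg (fun k : (E i).obj ⟶ N.obj => (k.app (Φ.obj b)).app ⊤ m₀) (hu i φ)
    rw [h0, map_zero]
  refine InducedCategory.hom_ext (eq_zero_of_affine hX N.property.1 u.hom fun a ha m => ?_)
  let j : Φ.obj (Φ.toFunctor.objPreimage a) ≅ a := Φ.toFunctor.objObjPreimageIso a
  have h₀ : N.obj.mapTop j.hom ((u.hom.app a).app ⊤ m) = 0 := by
    refine (secC Φ N.obj _).injective ?_
    rw [map_zero, Mod.mapTop_app, ← secC_app]
    exact congrArg (fun k : Mod.comap Φ M.obj ⟶ Mod.comap Φ N.obj =>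
      (k.app (Φ.toFunctor.objPreimage a)).app ⊤ (secC Φ M.obj _ (M.obj.mapTop j.hom m))) hkill
  rw [← Mod.mapTop_id N.obj a ((u.hom.app a).app ⊤ m), ← j.inv_hom_id, Mod.mapTop_comp, h₀, Mod.mapTop_zero]

/-- Atlases transported along a full and essentially surjective functor over the base. -/
theorem nonempty_atlas_of_equiv (Φ : ℬ ⥤ᵇ 𝒳) [Φ.toFunctor.Full] [Φ.toFunctor.EssSurj] (A : Atlas ℬ) :
    Nonempty (Atlas 𝒳) := by
  let o : 𝒳.obj → ℬ.obj := fun a => Φ.toFunctor.objPreimage a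
  let j : ∀ a, Φ.obj (o a) ≅ a := fun a => Φ.toFunctor.objObjPreimageIso a
  have ho : ∀ a, IsAffine (sch 𝒳 a) → IsAffine (sch ℬ (o a)) := fun a ha => by
    haveI := ha
    haveI := isIso_bmap (j a).hom
    exact (isAffine_obj_iff Φ _).1 (IsAffine.of_isIso (bmap 𝒳 (j a).hom))
  let push : ∀ (a : 𝒳.obj), Cover (o a) → Cover a := fun a 𝒰 =>
    ⟨𝒰.ι, fun l => Φ.obj (𝒰.obj l), fun l => Φ.map (𝒰.map l) ≫ (j a).hom,
      fun l => (isAffine_obj_iff Φ _).2 (𝒰.affine l), by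
        haveI := isIso_bmap (j a).inv
        refine isCov_conj 𝒰.cov (fun l => eqToHom (sch_obj_eq Φ (𝒰.obj l)))
          (bmap 𝒳 (j a).inv ≫ eqToHom (sch_obj_eq Φ (o a))) fun l => ?_
        rw [← Category.assoc, ← bmap_comp, Category.assoc, Iso.hom_inv_id, Category.comp_id]
        exact bmap_map_comm Φ (𝒰.map l) rfl⟩
  refine ⟨⟨Φ.obj A.x₀, (isAffine_obj_iff Φ _).2 A.aff₀, fun x hx => ?_, A.n, fun k => Φ.obj (A.w k),
    fun k => (isAffine_obj_iff Φ _).2 (A.affw k), fun k => Φ.map (A.a k), fun k => Φ.map (A.b k),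
    fun z hz p q => ?_⟩⟩
  · obtain ⟨𝒰, hfin, hl⟩ := A.loc (o x) (ho x hx)
    exact ⟨push x 𝒰, hfin, fun l => ⟨Φ.map (hl l).some⟩⟩
  · obtain ⟨p', hp⟩ := Φ.toFunctor.map_surjective ((j z).hom ≫ p)
    obtain ⟨q', hq⟩ := Φ.toFunctor.map_surjective ((j z).hom ≫ q)
    obtain ⟨𝒰, h𝒰⟩ := A.pairs (o z) (ho z hz) p' q'
    refine ⟨push z 𝒰, fun l => ?_⟩
    obtain ⟨k, t, ha, hb⟩ := h𝒰 l
    refine ⟨k, Φ.map t, ?_, ?_⟩
    · show Φ.map t ≫ Φ.map (A.a k) = (Φ.map (𝒰.map l) ≫ (j z).hom) ≫ p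
      rw [← Φ.toFunctor.map_comp, ha, Φ.toFunctor.map_comp, hp, Category.assoc]
    · show Φ.map t ≫ Φ.map (A.b k) = (Φ.map (𝒰.map l) ≫ (j z).hom) ≫ q
      rw [← Φ.toFunctor.map_comp, hb, Φ.toFunctor.map_comp, hq, Category.assoc]

/-- An equivalence over the base has an inverse over the base. -/
theorem exists_based_inverse (Ψ : 𝒳 ⥤ᵇ ℬ) [Ψ.toFunctor.Full] [Ψ.toFunctor.Faithful]
    (h : ∀ b : ℬ.obj, ∃ (a : 𝒳.obj) (e : 𝒳.p.obj a = ℬ.p.obj b) (σ : Ψ.obj a ≅ b),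
      ℬ.p.map σ.hom = eqToHom ((Ψ.w_obj a).trans e)) :
    ∃ Φ : ℬ ⥤ᵇ 𝒳, Φ.toFunctor.Full ∧ Φ.toFunctor.EssSurj := by
  choose o e σ hσ using h
  let F : ℬ.obj ⥤ 𝒳.obj :=
    { obj := o
      map := fun {b' b} s => Ψ.toFunctor.preimage ((σ b').hom ≫ s ≫ (σ b).inv)
      map_id := fun b => Ψ.toFunctor.map_injective (by simp)
      map_comp := fun s t => Ψ.toFunctor.map_injective (by simp) }
  have hF : ∀ {b' b : ℬ.obj} (s : b' ⟶ b),
      𝒳.p.map (F.map s) = eqToHom (e b') ≫ ℬ.p.map s ≫ eqToHom (e b).symm := by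
    intro b' b s
    have h₁ : ℬ.p.map (Ψ.map (F.map s)) =
        eqToHom (Ψ.w_obj _) ≫ 𝒳.p.map (F.map s) ≫ eqToHom (Ψ.w_obj _).symm :=
      IsHomLift.fac' ℬ.p (𝒳.p.map (F.map s)) (Ψ.map (F.map s))
    have h₂ : Ψ.map (F.map s) ≫ (σ b).hom = (σ b').hom ≫ s := by
      show Ψ.map (Ψ.toFunctor.preimage _) ≫ _ = _
      rw [Functor.map_preimage]; simp
    have h₃ := congrArg ℬ.p.map h₂
    rw [Functor.map_comp, Functor.map_comp, hσ, hσ, h₁] at h₃
    rw [← cancel_epi (eqToHom (Ψ.w_obj (F.obj b')))]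
    rw [← cancel_mono (eqToHom (e b))]
    simpa using h₃
  refine ⟨⟨F, CategoryTheory.Functor.ext e fun b' b s => hF s⟩, ⟨fun {b' b} t => ?_⟩, ⟨fun a => ⟨Ψ.obj a, ⟨?_⟩⟩⟩⟩
  · exact ⟨(σ b').inv ≫ Ψ.map t ≫ (σ b).hom, Ψ.toFunctor.map_injective (by simp [F])⟩
  · exact Ψ.toFunctor.preimageIso (σ (Ψ.obj a))

end Groth.L23.RelGen
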