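import Groth.Agent.L23.RelGen.Atlas
import Groth.Agent.L20.ModStalk

/-!
# Linear maps on sections of finitely presented modules and flat base change
-/

universe w v u

open CategoryTheory CategoryTheory.Limits AlgebraicGeometry Opposite TopologicalSpace
open scoped TensorProduct

set_option backward.isDefEq.respectTransparency false
set_option backward.isDefEq.respectTransparency.types false
set_option linter.style.haveILetI false
set_option linter.unusedSectionVars false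

noncomputable section

namespace Groth.L23.RelGen

open StMod

variable {S : Scheme.{u}} {𝒳 : BasedCategory.{v, w} (Over S)} {E M : Mod 𝒳}

theorem IsExt.add {x' x : 𝒳.obj} {φ : x' ⟶ x} {θ θ₂ : Sec E x →ₗ[Fn x] Sec M x}
    {θ' θ₂' : Sec E x' →ₗ[Fn x'] Sec M x'} (h : IsExt φ θ θ') (h₂ : IsExt φ θ₂ θ₂') :
    IsExt φ (θ + θ₂) (θ' + θ₂') := fun m => by
  rw [LinearMap.add_apply, LinearMap.add_apply, h m, h₂ m, Mod.mapTop_add]

theorem IsExt.smul {x' x : 𝒳.obj} {φ : x' ⟶ x} {θ : Sec E x →ₗ[Fn x] Sec M x}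
    {θ' : Sec E x' →ₗ[Fn x'] Sec M x'} (h : IsExt φ θ θ') (r : Fn x) : IsExt φ (r • θ) (fnMap φ r • θ') := fun m => by
  rw [LinearMap.smul_apply, LinearMap.smul_apply, h m, Mod.mapTop_smul]

theorem IsExt.zero {x' x : 𝒳.obj} (φ : x' ⟶ x) : IsExt φ (0 : Sec E x →ₗ[Fn x] Sec M x) 0 := fun m => by
  rw [LinearMap.zero_apply, LinearMap.zero_apply, Mod.mapTop_zero]

/-- Finitely presented modules have finitely presented sections over affine objects. -/
theorem finitePresentation_sec (hF : E.IsFinPres) (x : 𝒳.obj) [IsAffine (sch 𝒳 x)] :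
    Module.FinitePresentation (Fn x) (Sec E x) :=
  Groth.L20.ModStalk.finitePresentation_sections (E.obj x) (hF x) (isAffineOpen_top _)

variable (hE : E.IsCartesian) (hEq : E.IsLocQCoh)

include hE hEq in
/-- Extension along a morphism as a linear map over a base ring. -/
theorem exists_extLin {x' x : 𝒳.obj} (φ : x' ⟶ x) [IsAffine (sch 𝒳 x')] [IsAffine (sch 𝒳 x)]
    {R : Type u} [CommRing R] (σ : R →+* Fn x) (σ' : R →+* Fn x') (hσ : ∀ r, σ' r = fnMap φ (σ r)) :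
    letI := Module.compHom (Sec E x →ₗ[Fn x] Sec M x) σ
    letI := Module.compHom (Sec E x' →ₗ[Fn x'] Sec M x') σ'
    ∃ D : (Sec E x →ₗ[Fn x] Sec M x) →ₗ[R] (Sec E x' →ₗ[Fn x'] Sec M x'), ∀ θ, IsExt φ θ (D θ) := by
  letI := Module.compHom (Sec E x →ₗ[Fn x] Sec M x) σ
  letI := Module.compHom (Sec E x' →ₗ[Fn x'] Sec M x') σ'
  choose D hD using fun θ : Sec E x →ₗ[Fn x] Sec M x => exists_isExt hE hEq φ θ
  refine ⟨{ toFun := D, map_add' := fun a b => ?_, map_smul' := fun r θ => ?_ }, hD⟩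
  · exact isExt_unique hE hEq φ (hD _) ((hD a).add (hD b))
  · show D (σ r • θ) = σ' r • D θ
    rw [hσ]
    exact isExt_unique hE hEq φ (hD _) ((hD θ).smul _)

variable (hM : M.IsCartesian) (hMq : M.IsLocQCoh)

include hE hEq hM hMq in
set_option maxHeartbeats 800000 in
/-- Linear maps on sections of a finitely presented module commute with flat base change. -/
theorem exists_homEquiv {x' x : 𝒳.obj} (q : x' ⟶ x) [IsAffine (sch 𝒳 x')] [IsAffine (sch 𝒳 x)]
    [Flat (bmap 𝒳 q)] (hfp : Module.FinitePresentation (Fn x) (Sec E x))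
    {R R' : Type u} [CommRing R] [CommRing R'] [Algebra R R'] (σ : R →+* Fn x) (σ' : R' →+* Fn x')
    (H : IsPushout (CommRingCat.ofHom (algebraMap R R')) (CommRingCat.ofHom σ) (CommRingCat.ofHom σ')
      (CommRingCat.ofHom (fnMap q))) :
    letI := Module.compHom (Sec E x →ₗ[Fn x] Sec M x) σ
    ∃ Ψ : R' ⊗[R] (Sec E x →ₗ[Fn x] Sec M x) ≃+ (Sec E x' →ₗ[Fn x'] Sec M x'),
      ∀ r θ θ', IsExt q θ θ' → Ψ (r ⊗ₜ θ) = σ' r • θ' := by
  letI := (fnMap q).toAlgebra
  haveI : Module.Flat (Fn x) (Fn x') := fnMap_flat q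
  letI := σ.toAlgebra
  letI := σ'.toAlgebra
  letI := Module.compHom (Sec E x →ₗ[Fn x] Sec M x) σ
  letI : Algebra R (Fn x') := ((fnMap q).comp σ).toAlgebra
  haveI : IsScalarTower R (Fn x) (Fn x') := IsScalarTower.of_algebraMap_eq fun _ => rfl
  haveI : IsScalarTower R R' (Fn x') := IsScalarTower.of_algebraMap_eq fun r => (congr($(H.w) r)).symm
  haveI : IsScalarTower R (Fn x) (Sec E x →ₗ[Fn x] Sec M x) := IsScalarTower.of_algebraMap_smul fun _ _ => rfl
  haveI : Algebra.IsPushout R R' (Fn x) (Fn x') := CommRingCat.isPushout_iff_isPushout.mp H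
  letI := Module.compHom (Sec E x') (fnMap q)
  haveI : IsScalarTower (Fn x) (Fn x') (Sec E x') := IsScalarTower.of_algebraMap_smul fun _ _ => rfl
  letI := Module.compHom (Sec M x') (fnMap q)
  haveI : IsScalarTower (Fn x) (Fn x') (Sec M x') := IsScalarTower.of_algebraMap_smul fun _ _ => rfl
  haveI := hfp
  have hbE := isBaseChange_topMap hE hEq q
  have hbM := isBaseChange_topMap hM hMq q
  let e₁ := (Module.FinitePresentation.isBaseChange_map (R := Fn x) (M := Sec E x) (N := Sec M x) (Fn x')).equiv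
  let e₂ : (Fn x' ⊗[Fn x] Sec E x →ₗ[Fn x'] Fn x' ⊗[Fn x] Sec M x) ≃ₗ[Fn x'] (Sec E x' →ₗ[Fn x'] Sec M x') :=
    LinearEquiv.arrowCongr hbE.equiv hbM.equiv
  let e₀ := (Algebra.IsPushout.cancelBaseChange R R' (Fn x) (Fn x') (Sec E x →ₗ[Fn x] Sec M x)).symm
  refine ⟨e₀.toAddEquiv.trans (e₁.trans e₂).toAddEquiv, fun r θ θ' hθ => ?_⟩
  show e₂ (e₁ (e₀ (r ⊗ₜ θ))) = _
  rw [Algebra.IsPushout.cancelBaseChange_symm_tmul, IsBaseChange.equiv_tmul, map_smul]
  refine congrArg (σ' r • ·) (isExt_unique hE hEq q (θ := θ) (fun m => ?_) hθ)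
  show hbM.equiv (LinearMap.baseChange (Fn x') θ (hbE.equiv.symm (E.mapTop q m))) = _
  rw [show hbE.equiv.symm (E.mapTop q m) = 1 ⊗ₜ m from hbE.equiv_symm_apply m, LinearMap.baseChange_tmul,
    hbM.equiv_tmul, one_smul]
  rfl

include hE hEq hM hMq in
set_option maxHeartbeats 800000 in
/-- A linear map over a flat base change agreeing on finitely many overlaps is a combination of extensions of linear
maps agreeing on the overlaps. -/
theorem induction_agree {R R' : Type u} [CommRing R] [CommRing R'] [Algebra R R'] [Module.Flat R R']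
    (hfp : E.IsFinPres) {n : ℕ} {x₀ x₀' : 𝒳.obj} [IsAffine (sch 𝒳 x₀)] [IsAffine (sch 𝒳 x₀')]
    (q₀ : x₀' ⟶ x₀) [Flat (bmap 𝒳 q₀)] (σ₀ : R →+* Fn x₀) (σ₀' : R' →+* Fn x₀')
    (H₀ : IsPushout (CommRingCat.ofHom (algebraMap R R')) (CommRingCat.ofHom σ₀) (CommRingCat.ofHom σ₀')
      (CommRingCat.ofHom (fnMap q₀)))
    (w w' : Fin n → 𝒳.obj) (hw : ∀ k, IsAffine (sch 𝒳 (w k))) (hw' : ∀ k, IsAffine (sch 𝒳 (w' k)))
    (q : ∀ k, w' k ⟶ w k) (hq : ∀ k, Flat (bmap 𝒳 (q k)))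
    (σ : ∀ k, R →+* Fn (w k)) (σ' : ∀ k, R' →+* Fn (w' k))
    (H : ∀ k, IsPushout (CommRingCat.ofHom (algebraMap R R')) (CommRingCat.ofHom (σ k)) (CommRingCat.ofHom (σ' k))
      (CommRingCat.ofHom (fnMap (q k))))
    (a b : ∀ k, w k ⟶ x₀) (a' b' : ∀ k, w' k ⟶ x₀') (hca : ∀ k, a' k ≫ q₀ = q k ≫ a k)
    (hcb : ∀ k, b' k ≫ q₀ = q k ≫ b k)
    (haσ : ∀ k r, σ k r = fnMap (a k) (σ₀ r)) (hbσ : ∀ k r, σ k r = fnMap (b k) (σ₀ r))
    (haσ' : ∀ k r, σ' k r = fnMap (a' k) (σ₀' r)) (hbσ' : ∀ k r, σ' k r = fnMap (b' k) (σ₀' r))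
    (θ' : Sec E x₀' →ₗ[Fn x₀'] Sec M x₀')
    (hθ' : ∀ k θa θb, IsExt (a' k) θ' θa → IsExt (b' k) θ' θb → θa = θb)
    {p : (Sec E x₀' →ₗ[Fn x₀'] Sec M x₀') → Prop} (p0 : p 0) (padd : ∀ s t, p s → p t → p (s + t))
    (pext : ∀ (r : R') (θ : Sec E x₀ →ₗ[Fn x₀] Sec M x₀) (θ₁ : Sec E x₀' →ₗ[Fn x₀'] Sec M x₀'),
      (∀ k θa θb, IsExt (a k) θ θa → IsExt (b k) θ θb → θa = θb) → IsExt q₀ θ θ₁ → p (σ₀' r • θ₁)) :
    p θ' := by
  haveI := hw
  haveI := hw'
  haveI := hq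
  letI := Module.compHom (Sec E x₀ →ₗ[Fn x₀] Sec M x₀) σ₀
  letI := fun k => Module.compHom (Sec E (w k) →ₗ[Fn (w k)] Sec M (w k)) (σ k)
  obtain ⟨Ψ₀, hΨ₀⟩ := exists_homEquiv hE hEq hM hMq q₀ (finitePresentation_sec hfp x₀) σ₀ σ₀' H₀
  choose Ψ hΨ using fun k => exists_homEquiv hE hEq hM hMq (q k) (finitePresentation_sec hfp (w k)) (σ k) (σ' k) (H k)
  choose Da hDa using fun k => exists_extLin (M := M) hE hEq (a k) σ₀ (σ k) (haσ k)
  choose Db hDb using fun k => exists_extLin (M := M) hE hEq (b k) σ₀ (σ k) (hbσ k)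
  choose ea hea using fun k (θ : Sec E x₀' →ₗ[Fn x₀'] Sec M x₀') => exists_isExt hE hEq (a' k) θ
  choose eb heb using fun k (θ : Sec E x₀' →ₗ[Fn x₀'] Sec M x₀') => exists_isExt hE hEq (b' k) θ
  have key : ∀ k t, ea k (Ψ₀ t) = Ψ k ((Da k).lTensor R' t) ∧ eb k (Ψ₀ t) = Ψ k ((Db k).lTensor R' t) := by
    intro k t
    induction t using TensorProduct.induction_on with
    | zero =>
      simp only [map_zero]
      exact ⟨isExt_unique hE hEq _ (hea k _) (IsExt.zero _), isExt_unique hE hEq _ (heb k _) (IsExt.zero _)⟩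
    | tmul r θ =>
      obtain ⟨θ₁, h₁⟩ := exists_isExt (M := M) hE hEq q₀ θ
      obtain ⟨θa, h₂⟩ := exists_isExt (M := M) hE hEq (q k) (Da k θ)
      obtain ⟨θb, h₃⟩ := exists_isExt (M := M) hE hEq (q k) (Db k θ)
      simp only [LinearMap.lTensor_tmul]
      rw [hΨ₀ r θ θ₁ h₁, hΨ k r _ θa h₂, hΨ k r _ θb h₃]
      constructor
      · refine isExt_unique hE hEq _ (hea k _) ?_
        rw [haσ']
        refine IsExt.smul ?_ _
        obtain ⟨θ₂, h₂'⟩ := exists_isExt (M := M) hE hEq (a' k) θ₁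
        rwa [← isExt_unique hE hEq (q k ≫ a k) (hca k ▸ h₁.comp h₂') ((hDa k θ).comp h₂)]
      · refine isExt_unique hE hEq _ (heb k _) ?_
        rw [hbσ']
        refine IsExt.smul ?_ _
        obtain ⟨θ₂, h₂'⟩ := exists_isExt (M := M) hE hEq (b' k) θ₁
        rwa [← isExt_unique hE hEq (q k ≫ b k) (hcb k ▸ h₁.comp h₂') ((hDb k θ).comp h₃)]
    | add s t hs ht =>
      simp only [map_add]
      rw [← hs.1, ← ht.1, ← hs.2, ← ht.2]
      exact ⟨isExt_unique hE hEq _ (hea k _) ((hea k _).add (hea k _)),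
        isExt_unique hE hEq _ (heb k _) ((heb k _).add (heb k _))⟩
  let D : (Sec E x₀ →ₗ[Fn x₀] Sec M x₀) →ₗ[R] ∀ k, (Sec E (w k) →ₗ[Fn (w k)] Sec M (w k)) :=
    LinearMap.pi fun k => Da k - Db k
  obtain ⟨t, rfl⟩ := Ψ₀.surjective θ'
  have ht : D.lTensor R' t = 0 := by
    refine (TensorProduct.piRight R R R' fun k => Sec E (w k) →ₗ[Fn (w k)] Sec M (w k)).injective ?_
    funext k
    have hk : (Da k).lTensor R' t = (Db k).lTensor R' t :=
      (Ψ k).injective ((key k t).1.symm.trans ((hθ' k _ _ (hea k _) (heb k _)).trans (key k t).2))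
    rw [map_zero, Pi.zero_apply]
    have e : ∀ t, (TensorProduct.piRight R R R' (fun k => Sec E (w k) →ₗ[Fn (w k)] Sec M (w k))
        (D.lTensor R' t)) k = (Da k - Db k).lTensor R' t := fun t => by
      induction t using TensorProduct.induction_on with
      | zero => simp
      | tmul r θ =>
        rw [LinearMap.lTensor_tmul, TensorProduct.piRight_apply, TensorProduct.piRightHom_tmul,
          LinearMap.lTensor_tmul]
        rfl
      | add s u hs hu => simp only [map_add, Pi.add_apply, hs, hu]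
    rw [e, LinearMap.lTensor_sub, LinearMap.sub_apply, hk, sub_self]
  obtain ⟨t₁, rfl⟩ := (Module.Flat.lTensor_exact R' (LinearMap.exact_subtype_ker_map D) t).1 ht
  clear ht hθ'
  induction t₁ using TensorProduct.induction_on with
  | zero => rw [map_zero, map_zero]; exact p0
  | tmul r θ =>
    rw [LinearMap.lTensor_tmul]
    obtain ⟨θ₁, h₁⟩ := exists_isExt (M := M) hE hEq q₀ θ.1
    rw [show Ψ₀ (r ⊗ₜ (LinearMap.ker D).subtype θ) = σ₀' r • θ₁ from hΨ₀ r θ.1 θ₁ h₁]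
    refine pext r θ.1 θ₁ (fun k θa θb ha hb => ?_) h₁
    rw [isExt_unique hE hEq (a k) ha (hDa k θ.1), isExt_unique hE hEq (b k) hb (hDb k θ.1)]
    exact sub_eq_zero.1 (congrFun θ.2 k)
  | add s t hs ht =>
    rw [map_add, map_add]
    exact padd _ _ hs ht

end Groth.L23.RelGen
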