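import Groth.Agent.L23.RelGen.HomFam
import Groth.Agent.L23.RelGen.Slice
import Groth.Agent.L23.RelGen.TildeAff
import Groth.Agent.L16.AffineBC.Pullback

/-!
# The evaluation of a module on the slice in families of homomorphisms
-/

universe t w' v' w v u

open CategoryTheory CategoryTheory.Limits AlgebraicGeometry Opposite TopologicalSpace
open scoped TensorProduct

set_option backward.isDefEq.respectTransparency false
set_option backward.isDefEq.respectTransparency.types false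
set_option linter.style.haveILetI false
set_option linter.unusedSectionVars false

noncomputable section

namespace Groth.L23.RelGen

open StMod
open Groth.L18.Frame (rs ro rs_rs rs_self rs_smul pull pull_smul)

variable {S : Scheme.{u}} {𝒳 : BasedCategory.{v', w'} (Over S)} {𝒱 : BasedCategory.{v, w} (Over S)}
  {π : 𝒳 ⥤ᵇ 𝒱} {E M : QCoh 𝒳}

theorem sl_cond {x₀ : 𝒱.obj} {s' s : (Sl x₀).obj} (φ : s' ⟶ s) :
    bmap (Sl x₀) φ ≫ bmap 𝒱 (s.hom : s.left ⟶ x₀) = bmap 𝒱 (s'.hom : s'.left ⟶ x₀) := by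
  show bmap 𝒱 φ.left ≫ _ = _
  rw [← bmap_comp]
  exact congrArg (bmap 𝒱) (CostructuredArrow.w φ)

/-- The structure morphism of an object of the slice. -/
abbrev slArr {x₀ : 𝒱.obj} (s : (Sl x₀).obj) : s.left ⟶ x₀ := s.hom

/-- The module on the slice pulled back from the chart. -/
def slMod (x₀ : 𝒱.obj) (M₀ : (sch 𝒱 x₀).Modules) [Coh.IsQCoh M₀] : QCoh (Sl x₀) :=
  ⟨pullMod (fun s => bmap 𝒱 (s.hom : s.left ⟶ x₀)) (fun φ => sl_cond φ) M₀, isQCoh_pullMod _ _ M₀⟩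

theorem mapTop_slMod (x₀ : 𝒱.obj) (M₀ : (sch 𝒱 x₀).Modules) [Coh.IsQCoh M₀] {s' s : (Sl x₀).obj} (k : s' ⟶ s)
    (m : Γ(M₀, ⊤)) :
    (slMod x₀ M₀).obj.mapTop k (show Sec (slMod x₀ M₀).obj s from pull (bmap 𝒱 (slArr s)) M₀ ⊤ m) =
      (show Sec (slMod x₀ M₀).obj s' from pull (bmap 𝒱 (slArr s')) M₀ ⊤ m) :=
  mapTop_pullMod (𝒳 := Sl x₀) (fun s => bmap 𝒱 (slArr s)) (fun φ => sl_cond φ) M₀ k m

/-- Sections of a pullback along a morphism of affine schemes. -/
theorem exists_pullEquiv {X Y : Scheme.{u}} [IsAffine X] [IsAffine Y] (g : Y ⟶ X) (M₀ : X.Modules) [Coh.IsQCoh M₀] :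
    letI := g.appTop.hom.toAlgebra
    ∃ e : Γ(Y, ⊤) ⊗[Γ(X, ⊤)] Γ(M₀, ⊤) ≃+ Γ((Scheme.Modules.pullback g).obj M₀, (⊤ : Y.Opens)),
      ∀ r m, e (r ⊗ₜ m) = r • (show Γ((Scheme.Modules.pullback g).obj M₀, (⊤ : Y.Opens)) from pull g M₀ ⊤ m) := by
  have key : ∀ (σ : Γ(X, ⊤) →+* Γ(Y, ⊤)) (_ : σ = (g.appLE ⊤ ⊤ le_top).hom),
      letI := σ.toAlgebra
      ∃ e : Γ(Y, ⊤) ⊗[Γ(X, ⊤)] Γ(M₀, ⊤) ≃+ Γ((Scheme.Modules.pullback g).obj M₀, (⊤ : Y.Opens)),
        ∀ r m, e (r ⊗ₜ m) = r • rs ((Scheme.Modules.pullback g).obj M₀)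
          (le_top : (⊤ : Y.Opens) ≤ g ⁻¹ᵁ ⊤) (pull g M₀ ⊤ m) := by
    rintro σ rfl
    letI := (g.appLE ⊤ ⊤ le_top).hom.toAlgebra
    letI := Module.compHom Γ((Scheme.Modules.pullback g).obj M₀, (⊤ : Y.Opens)) (g.appLE ⊤ ⊤ le_top).hom
    haveI : IsScalarTower Γ(X, ⊤) Γ(Y, ⊤) Γ((Scheme.Modules.pullback g).obj M₀, (⊤ : Y.Opens)) :=
      IsScalarTower.of_algebraMap_smul fun _ _ => rfl
    have hb := Groth.L16.AffineBC.isBaseChange_pull (f := g) (G := M₀) (isAffineOpen_top X) (isAffineOpen_top Y)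
      (le_top : (⊤ : Y.Opens) ≤ g ⁻¹ᵁ ⊤)
    exact ⟨hb.equiv.toAddEquiv, fun r m => hb.equiv_tmul r m⟩
  obtain ⟨e, he⟩ := key g.appTop.hom (congrArg CommRingCat.Hom.hom (Scheme.Hom.app_eq_appLE g (U := ⊤)))
  exact ⟨e, fun r m => (he r m).trans (congrArg (r • ·) (rs_self _ _ _))⟩

/-- The value at an object of a morphism over an object. -/
theorem exists_homF_of_agree (hX : FibCat.IsFibGrpd 𝒳.p) {v : 𝒱.obj} (A : Atlas (fibCat π v))
    {θ : Sec (onFib π E v) A.x₀ →ₗ[Fn A.x₀] Sec (onFib π M v) A.x₀} (hθ : A.Agree θ) :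
    ∃ h : HomF π E M v, h.at' A.x₀ A.aff₀ = θ := by
  obtain ⟨φ, hφ⟩ := A.exists_hom (isCartesian_comap E.property.1) (isLocQCoh_comap E.property.2)
    (isCartesian_comap M.property.1) (isLocQCoh_comap M.property.2) (isFibGrpd_fibCat hX π v) hθ
  refine ⟨⟨fun ξ => { toFun := fun m => (φ.app ξ.1).app ⊤ m, map_add' := fun a b => map_add _ a b,
                      map_smul' := fun r a => (φ.app ξ.1).app_smul r a }, fun {ξ' ξ} k m => ?_⟩, LinearMap.ext hφ⟩
  exact (Mod.mapTop_app φ k m).symm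

/-- Linear maps on the chart agreeing on the overlaps. -/
def agreeSub {v : 𝒱.obj} (A : Atlas (fibCat π v)) :
    letI := Module.compHom (Sec (onFib π E v) A.x₀ →ₗ[Fn A.x₀] Sec (onFib π M v) A.x₀) (toBase A.x₀).appTop.hom
    Submodule (Fn v) (Sec (onFib π E v) A.x₀ →ₗ[Fn A.x₀] Sec (onFib π M v) A.x₀) :=
  letI := Module.compHom (Sec (onFib π E v) A.x₀ →ₗ[Fn A.x₀] Sec (onFib π M v) A.x₀) (toBase A.x₀).appTop.hom
  { carrier := {θ | A.Agree θ}
    zero_mem' := fun k θa θb ha hb => by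
      haveI := A.aff₀
      haveI := A.affw k
      exact (isExt_unique (isCartesian_comap E.property.1) (isLocQCoh_comap E.property.2) _ ha (IsExt.zero _)).trans
        (isExt_unique (isCartesian_comap E.property.1) (isLocQCoh_comap E.property.2) _ hb (IsExt.zero _)).symm
    add_mem' := fun {a b} ha hb k θa θb hθa hθb => by
      haveI := A.aff₀
      haveI := A.affw k
      have hE := isCartesian_comap (f := fibFst π v) E.property.1
      have hEq := isLocQCoh_comap (f := fibFst π v) E.property.2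
      obtain ⟨a₁, ha₁⟩ := exists_isExt (M := onFib π M v) hE hEq (A.a k) a
      obtain ⟨a₂, ha₂⟩ := exists_isExt (M := onFib π M v) hE hEq (A.b k) a
      obtain ⟨b₁, hb₁⟩ := exists_isExt (M := onFib π M v) hE hEq (A.a k) b
      obtain ⟨b₂, hb₂⟩ := exists_isExt (M := onFib π M v) hE hEq (A.b k) b
      rw [isExt_unique hE hEq _ hθa (ha₁.add hb₁), isExt_unique hE hEq _ hθb (ha₂.add hb₂), ha k a₁ a₂ ha₁ ha₂,
        hb k b₁ b₂ hb₁ hb₂]
    smul_mem' := fun r a ha k θa θb hθa hθb => by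
      haveI := A.aff₀
      haveI := A.affw k
      have hE := isCartesian_comap (f := fibFst π v) E.property.1
      have hEq := isLocQCoh_comap (f := fibFst π v) E.property.2
      obtain ⟨a₁, ha₁⟩ := exists_isExt (M := onFib π M v) hE hEq (A.a k) a
      obtain ⟨a₂, ha₂⟩ := exists_isExt (M := onFib π M v) hE hEq (A.b k) a
      have h₁ := ha₁.smul ((toBase A.x₀).appTop.hom r)
      have h₂ := ha₂.smul ((toBase A.x₀).appTop.hom r)
      rw [fnMap_toBase] at h₁ h₂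
      rw [isExt_unique hE hEq _ hθa h₁, isExt_unique hE hEq _ hθb h₂, ha k a₁ a₂ ha₁ ha₂] }

theorem cover_fibComp {v v₀ : 𝒱.obj} (c : v ⟶ v₀) (A : Atlas (fibCat π v₀)) (x₀' : (fibCat π v).obj)
    (q₀ : (fibComp π c).obj x₀' ⟶ A.x₀) (hx₀ : IsAffine (sch (fibCat π v) x₀'))
    (l₀ : ∀ (y : (fibCat π v).obj) (s : (fibComp π c).obj y ⟶ A.x₀), ∃ t : y ⟶ x₀', (fibComp π c).map t ≫ q₀ = s)
    (y : (fibCat π v).obj) (hy : IsAffine (sch (fibCat π v) y)) :
    ∃ 𝒲 : Cover y, ∀ l, ∃ z, z = x₀' ∧ IsAffine (sch (fibCat π v) z) ∧ Nonempty (𝒲.obj l ⟶ z) := by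
  obtain ⟨𝒰, -, h₀⟩ := A.loc ((fibComp π c).obj y) hy
  let yl : 𝒰.ι → (fibCat π v).obj := fun l => CostructuredArrow.mk (π.map (𝒰.map l).left ≫ y.hom)
  let tl : ∀ l, yl l ⟶ y := fun l => CostructuredArrow.homMk (𝒰.map l).left
  refine ⟨⟨𝒰.ι, yl, tl, 𝒰.affine, 𝒰.cov⟩, fun l => ⟨x₀', rfl, hx₀, ?_⟩⟩
  let j : (fibComp π c).obj (yl l) ⟶ 𝒰.obj l := CostructuredArrow.homMk (𝟙 _) (by
    rw [π.toFunctor.map_id, Category.id_comp]
    show (𝒰.obj l).hom = (π.map (𝒰.map l).left ≫ y.hom) ≫ c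
    rw [Category.assoc]
    exact (CostructuredArrow.w (𝒰.map l)).symm)
  exact ⟨(l₀ (yl l) (j ≫ (h₀ l).some)).choose⟩

set_option maxHeartbeats 1600000 in
/-- Families of homomorphisms over a flat affine object come by base change. -/
theorem homF_flat (hX : FibCat.IsFibGrpd 𝒳.p) (hV : FibCat.IsFibGrpd 𝒱.p) (hfp : E.obj.IsFinPres) {v v₀ : 𝒱.obj}
    [IsAffine (sch 𝒱 v₀)] [IsAffine (sch 𝒱 v)] (c : v ⟶ v₀) [Flat (bmap 𝒱 c)] (A : Atlas (fibCat π v₀)) :
    letI := (fnMap c).toAlgebra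
    letI := Module.compHom (Sec (onFib π E v₀) A.x₀ →ₗ[Fn A.x₀] Sec (onFib π M v₀) A.x₀) (toBase A.x₀).appTop.hom
    ∀ (K : agreeSub (E := E) (M := M) A → HomF π E M v₀), (∀ θ, (K θ).at' A.x₀ A.aff₀ = θ.1) →
    ∀ (Φ : Fn v ⊗[Fn v₀] agreeSub (E := E) (M := M) A →+ HomF π E M v),
      (∀ r θ, Φ (r ⊗ₜ θ) = r • HomF.res c (K θ)) → Function.Bijective Φ := by
  letI := (fnMap c).toAlgebra
  letI := Module.compHom (Sec (onFib π E v₀) A.x₀ →ₗ[Fn A.x₀] Sec (onFib π M v₀) A.x₀) (toBase A.x₀).appTop.hom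
  intro K hK Φ hΦ
  haveI : Module.Flat (Fn v₀) (Fn v) := fnMap_flat c
  have hE : (onFib π E v₀).IsCartesian := isCartesian_comap E.property.1
  have hEq : (onFib π E v₀).IsLocQCoh := isLocQCoh_comap E.property.2
  have hM : (onFib π M v₀).IsCartesian := isCartesian_comap M.property.1
  have hMq : (onFib π M v₀).IsLocQCoh := isLocQCoh_comap M.property.2
  haveI := A.aff₀
  haveI := A.affw
  obtain ⟨x₀', q₀, H₀, l₀⟩ := exists_bc hX hV c A.x₀
  choose w' q H lq using fun k => exists_bc hX hV c (A.w k)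
  haveI hx₀ : IsAffine (sch (fibCat π v₀) ((fibComp π c).obj x₀')) := IsAffine.of_isIso H₀.isoPullback.hom
  haveI hw' : ∀ k, IsAffine (sch (fibCat π v₀) ((fibComp π c).obj (w' k))) :=
    fun k => IsAffine.of_isIso (H k).isoPullback.hom
  haveI hq₀ : Flat (bmap (fibCat π v₀) q₀) := MorphismProperty.of_isPullback H₀.flip ‹Flat (bmap 𝒱 c)›
  have hq : ∀ k, Flat (bmap (fibCat π v₀) (q k)) :=
    fun k => MorphismProperty.of_isPullback (H k).flip ‹Flat (bmap 𝒱 c)›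
  choose a' ha' using fun k => l₀ (w' k) (q k ≫ A.a k)
  choose b' hb' using fun k => l₀ (w' k) (q k ≫ A.b k)
  let ev : HomF π E M v → (Sec (onFib π E v₀) ((fibComp π c).obj x₀') →ₗ[Fn ((fibComp π c).obj x₀')]
      Sec (onFib π M v₀) ((fibComp π c).obj x₀')) := fun θ => θ.at' x₀' hx₀
  have hevinj : ∀ θ θ', ev θ = ev θ' → θ = θ' := fun θ θ' e =>
    HomF.eq_of_cover θ θ' (· = x₀') (cover_fibComp c A x₀' q₀ hx₀ l₀) fun z hz h => by
      subst h; exact e
  obtain ⟨Ψ₀, hΨ₀⟩ := exists_homEquiv hE hEq hM hMq q₀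
    (finitePresentation_sec (isFinPres_fibFst π v₀ hfp) A.x₀) (toBase A.x₀).appTop.hom (toBase x₀').appTop.hom
    (isPushout_hom H₀)
  have hval : ∀ r θ, ev (r • HomF.res c (K θ)) = Ψ₀ (r ⊗ₜ θ.1) := fun r θ => by
    have h₁ := (K θ).isExt q₀ hx₀ A.aff₀
    rw [hK θ] at h₁
    rw [hΨ₀ r θ.1 _ h₁]
    rfl
  have hcomp : ∀ t, ev (Φ t) = Ψ₀ ((agreeSub (E := E) (M := M) A).subtype.lTensor (Fn v) t) := fun t => by
    induction t using TensorProduct.induction_on with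
    | zero => rw [map_zero, map_zero, map_zero]; rfl
    | tmul r θ => rw [hΦ, hval, LinearMap.lTensor_tmul]; rfl
    | add a b ha hb =>
      rw [map_add, map_add, map_add, ← ha, ← hb]
      rfl
  refine ⟨(injective_iff_map_eq_zero Φ).2 fun t ht => ?_, fun θ => ?_⟩
  · refine Module.Flat.lTensor_preserves_injective_linearMap _ (agreeSub (E := E) (M := M) A).subtype_injective ?_
    rw [map_zero]
    refine Ψ₀.injective ?_
    rw [← hcomp, ht, map_zero]
    rfl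
  · have hbase : ∀ {z x : (fibCat π v₀).obj} (t : z ⟶ x) r,
        (toBase z).appTop.hom r = fnMap t ((toBase x).appTop.hom r) := fun t r => (fnMap_toBase t r).symm
    have hbase' : ∀ {z x : (fibCat π v).obj} (t : z ⟶ x) r,
        (toBase z).appTop.hom r = fnMap ((fibComp π c).map t) ((toBase x).appTop.hom r) := fun t r => by
      rw [← bmap_toBase t, Scheme.Hom.comp_appTop]; rfl
    have hnat : ∀ {y' y : (fibCat π v).obj} (hy' : IsAffine (sch (fibCat π v) y'))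
        (hy : IsAffine (sch (fibCat π v) y)) (φ : y' ⟶ y), IsExt (E := onFib π E v₀) (M := onFib π M v₀)
          ((fibComp π c).map φ) (show Sec (onFib π E v₀) ((fibComp π c).obj y) →ₗ[Fn ((fibComp π c).obj y)]
            Sec (onFib π M v₀) ((fibComp π c).obj y) from θ.at' y hy) (θ.at' y' hy') := by
      intro y' y hy' hy φ m
      have h₁ := θ.isExt φ hy' hy m
      rw [mapTop_fibFst_comp π c E.obj φ m] at h₁
      exact h₁.trans (mapTop_fibFst_comp π c M.obj φ _)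
    obtain ⟨t, ht⟩ := induction_agree hE hEq hM hMq (isFinPres_fibFst π v₀ hfp) q₀ (toBase A.x₀).appTop.hom
      (toBase x₀').appTop.hom (isPushout_hom H₀) A.w
      (fun k => (fibComp π c).obj (w' k)) A.affw hw' q hq (fun k => (toBase (A.w k)).appTop.hom)
      (fun k => (toBase (w' k)).appTop.hom) (fun k => isPushout_hom (H k)) A.a A.b
      (fun k => (fibComp π c).map (a' k)) (fun k => (fibComp π c).map (b' k)) ha' hb'
      (fun k r => hbase _ r) (fun k r => hbase _ r) (fun k r => hbase' _ r) (fun k r => hbase' _ r) (ev θ)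
      (fun k θa θb ha hb => by
        rw [isExt_unique hE hEq _ ha (hnat (hw' k) hx₀ (a' k)), isExt_unique hE hEq _ hb (hnat (hw' k) hx₀ (b' k))])
      (p := fun θ' => ∃ t, ev (Φ t) = θ') ⟨0, by rw [hcomp, map_zero, map_zero]⟩
      (fun s s' => by
        rintro ⟨t, rfl⟩ ⟨t', rfl⟩
        exact ⟨t + t', by rw [map_add]; rfl⟩)
      (fun r θ₀ θ₁ h h₁ => ⟨r ⊗ₜ (⟨θ₀, h⟩ : agreeSub (E := E) (M := M) A), by
        rw [hcomp, LinearMap.lTensor_tmul]; exact hΨ₀ r θ₀ θ₁ h₁⟩)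
    exact ⟨t, hevinj _ _ ht⟩

/-- An evaluation of a module on the slice in families of homomorphisms. -/
structure HomEval (π : 𝒳 ⥤ᵇ 𝒱) (E M : QCoh 𝒳) (x₀ : 𝒱.obj) where
  /-- the module -/
  G : QCoh (Sl x₀)
  /-- evaluation -/
  β : ∀ s : (Sl x₀).obj, IsAffine (sch (Sl x₀) s) → (Sec G.obj s →+ HomF π E M s.left)
  β_smul : ∀ (s : (Sl x₀).obj) hs (r : Fn s) (m : Sec G.obj s),
    β s hs (r • m) = (show Fn s.left from r) • β s hs m
  β_nat : ∀ {s' s : (Sl x₀).obj} (k : s' ⟶ s) hs' hs m, β s' hs' (G.obj.mapTop k m) = HomF.res k.left (β s hs m)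
  bij : ∀ s hs, Flat (bmap 𝒱 (slArr s)) → Function.Bijective (β s hs)

/-- The underlying evaluation. -/
abbrev HomEval.toEval {π : 𝒳 ⥤ᵇ 𝒱} {x₀ : 𝒱.obj} (he : HomEval π E M x₀) : Eval he.G.obj where
  H := fun v => HomF π E M v
  res := fun k θ => HomF.res k θ
  sc := fun v r θ => r • θ
  β := he.β
  res_zero := fun k => map_zero _
  res_add := fun k => map_add _
  β_smul := he.β_smul
  res_sc := fun k r h => HomF.res_smul k r h
  β_nat := he.β_nat
  bij := he.bij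

set_option maxHeartbeats 1600000 in
/-- An evaluation of a module on the slice in families of homomorphisms. -/
theorem exists_homEval (hX : FibCat.IsFibGrpd 𝒳.p) (hV : FibCat.IsFibGrpd 𝒱.p) (hfp : E.obj.IsFinPres)
    (π : 𝒳 ⥤ᵇ 𝒱) (M : QCoh 𝒳) (x₀ : 𝒱.obj) [IsAffine (sch 𝒱 x₀)] (A : Atlas (fibCat π x₀)) :
    Nonempty (HomEval π E M x₀) := by
  letI := Module.compHom (Sec (onFib π E x₀) A.x₀ →ₗ[Fn A.x₀] Sec (onFib π M x₀) A.x₀) (toBase A.x₀).appTop.hom
  choose K hK using fun θ : agreeSub (E := E) (M := M) A => exists_homF_of_agree hX A θ.2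
  have hKuniq : ∀ h h' : HomF π E M x₀, h.at' A.x₀ A.aff₀ = h'.at' A.x₀ A.aff₀ → h = h' := fun h h' e =>
    HomF.eq_of_cover h h' (· = A.x₀)
      (fun ξ hξ => by
        obtain ⟨𝒰, -, h𝒰⟩ := A.loc ξ hξ
        exact ⟨𝒰, fun l => ⟨A.x₀, rfl, A.aff₀, h𝒰 l⟩⟩)
      fun c hc hcc => by subst hcc; exact e
  obtain ⟨M₀, hM₀, ⟨e⟩⟩ := exists_qcoh_sections (sch 𝒱 x₀) (agreeSub (E := E) (M := M) A)
  haveI := hM₀
  let Klin : agreeSub (E := E) (M := M) A →ₗ[Fn x₀] HomF π E M x₀ :=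
    { toFun := K
      map_add' := fun a b => hKuniq _ _ ((hK _).trans (congrArg₂ (· + ·) (hK a) (hK b)).symm)
      map_smul' := fun r a => hKuniq _ _ ((hK _).trans (congrArg ((toBase A.x₀).appTop.hom r • ·) (hK a)).symm) }
  have hβ : ∀ s : (Sl x₀).obj, IsAffine (sch (Sl x₀) s) →
      ∃ β : Sec (slMod x₀ M₀).obj s →+ HomF π E M s.left,
        (∀ (r : Fn s) h, β (r • (show Sec (slMod x₀ M₀).obj s from pull (bmap 𝒱 (slArr s)) M₀ ⊤ (e h))) =
          (show Fn s.left from r) • HomF.res (slArr s) (K h)) ∧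
        (∀ (r : Fn s) m, β (r • m) = (show Fn s.left from r) • β m) ∧
        (∀ {p : Sec (slMod x₀ M₀).obj s → Prop}, p 0 → (∀ a b, p a → p b → p (a + b)) →
          (∀ (r : Fn s) h, p (r • (show Sec (slMod x₀ M₀).obj s from pull (bmap 𝒱 (slArr s)) M₀ ⊤ (e h)))) → ∀ m, p m) ∧
        (Flat (bmap 𝒱 (s.hom : s.left ⟶ x₀)) → Function.Bijective β) := by
    intro s hs
    haveI : IsAffine (sch 𝒱 s.left) := hs
    let c : s.left ⟶ x₀ := slArr s
    letI := (fnMap c).toAlgebra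
    letI : Module (Fn x₀) (HomF π E M s.left) := Module.compHom _ (fnMap c)
    haveI : IsScalarTower (Fn x₀) (Fn s.left) (HomF π E M s.left) :=
      IsScalarTower.of_algebraMap_smul fun _ _ => rfl
    let L : agreeSub (E := E) (M := M) A →ₗ[Fn x₀] HomF π E M s.left :=
      { toFun := fun h => HomF.res c (Klin h)
        map_add' := fun a b => by rw [map_add, map_add]
        map_smul' := fun r a => by rw [map_smul, HomF.res_smul]; rfl }
    let Φ := L.liftBaseChange (Fn s.left)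
    obtain ⟨eP, heP⟩ := exists_pullEquiv (bmap 𝒱 c) M₀
    let eH := LinearEquiv.lTensor (Fn s.left) e
    let Ψ : Fn s.left ⊗[Fn x₀] agreeSub (E := E) (M := M) A ≃+ Sec (slMod x₀ M₀).obj s := eH.toAddEquiv.trans eP
    have hΨ : ∀ r h, Ψ (r ⊗ₜ h) =
        (show Fn s from r) • (show Sec (slMod x₀ M₀).obj s from pull (bmap 𝒱 c) M₀ ⊤ (e h)) := fun r h => heP r (e h)
    let β : Sec (slMod x₀ M₀).obj s →+ HomF π E M s.left := Φ.toAddMonoidHom.comp Ψ.symm.toAddMonoidHom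
    have hgen : ∀ (r : Fn s) h, β (r • (show Sec (slMod x₀ M₀).obj s from pull (bmap 𝒱 (slArr s)) M₀ ⊤ (e h))) =
        (show Fn s.left from r) • HomF.res (slArr s) (K h) := fun r h => by
      show Φ (Ψ.symm _) = _
      rw [show Ψ.symm _ = (show Fn s.left from r) ⊗ₜ h from Ψ.symm_apply_eq.2 (hΨ r h).symm]
      exact LinearMap.liftBaseChange_tmul _ L _ _
    have hind : ∀ {p : Sec (slMod x₀ M₀).obj s → Prop}, p 0 → (∀ a b, p a → p b → p (a + b)) →
        (∀ (r : Fn s) h, p (r • (show Sec (slMod x₀ M₀).obj s from pull (bmap 𝒱 (slArr s)) M₀ ⊤ (e h)))) → ∀ m, p m := by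
      intro p h0 hadd hm m
      obtain ⟨t, rfl⟩ := Ψ.surjective m
      induction t using TensorProduct.induction_on with
      | zero => rw [map_zero]; exact h0
      | tmul r h => rw [hΨ]; exact hm r h
      | add a b ha hb => rw [map_add]; exact hadd _ _ ha hb
    refine ⟨β, hgen, fun r m => ?_, hind, fun hfl => ?_⟩
    · refine hind (p := fun m => β (r • m) = (show Fn s.left from r) • β m) ?_ (fun a b ha hb => ?_) (fun c h => ?_) m
      · rw [smul_zero, map_zero, smul_zero]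
      · rw [smul_add, map_add, ha, hb, map_add, smul_add]
      · rw [smul_smul, hgen, hgen]
        exact mul_smul (show Fn s.left from r) (show Fn s.left from c) _
    · haveI := hfl
      exact (homF_flat hX hV hfp c A K hK Φ.toAddMonoidHom
        (fun r h => LinearMap.liftBaseChange_tmul _ L r h)).comp Ψ.symm.bijective
  choose β hβgen hβsmul hβind hβbij using hβ
  refine ⟨⟨slMod x₀ M₀, β, hβsmul, ?_, hβbij⟩⟩
  intro s' s k hs' hs m
  refine hβind s hs (p := fun m => β s' hs' ((slMod x₀ M₀).obj.mapTop k m) = HomF.res k.left (β s hs m)) ?_ ?_ ?_ m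
  · rw [Mod.mapTop_zero, map_zero, map_zero, map_zero]
  · intro a b ha hb; rw [Mod.mapTop_add, map_add, map_add, ha, hb, map_add]
  · intro r h
    rw [hβgen, Mod.mapTop_smul, mapTop_slMod x₀ M₀ k (e h), hβgen]
    refine Eq.trans ?_ (HomF.res_smul k.left _ _).symm
    rw [HomF.res_comp k.left (slArr s) (CostructuredArrow.w k) (K h)]
    rfl

end Groth.L23.RelGen
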