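import Groth.Agent.L23.RelGen.Transfer

/-!
# Compatible families of homomorphisms over the objects of the target
-/

universe t w' v' w v u

open CategoryTheory CategoryTheory.Limits AlgebraicGeometry Opposite TopologicalSpace

set_option backward.isDefEq.respectTransparency false
set_option backward.isDefEq.respectTransparency.types false
set_option linter.style.haveILetI false
set_option linter.unusedSectionVars false

noncomputable section

namespace Groth.L23.RelGen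

open StMod

variable {S : Scheme.{u}} {𝒳 : BasedCategory.{v', w'} (Over S)} {𝒱 : BasedCategory.{v, w} (Over S)}

/-- A module restricted to the category over an object. -/
abbrev onFib (π : 𝒳 ⥤ᵇ 𝒱) (E : QCoh 𝒳) (v : 𝒱.obj) : Mod (fibCat π v) := Mod.comap (fibFst π v) E.obj

/-- Affine objects over an object. -/
abbrev AffObj (π : 𝒳 ⥤ᵇ 𝒱) (v : 𝒱.obj) :=
  {ξ : (fibCat π v).obj // IsAffine (sch (fibCat π v) ξ)}

variable (π : 𝒳 ⥤ᵇ 𝒱) (E M : QCoh 𝒳)

/-- Compatibility of a family of linear maps. -/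
def IsHomFamily (v : 𝒱.obj) (θ : ∀ ξ : AffObj π v, Sec (onFib π E v) ξ.1 →ₗ[Fn ξ.1] Sec (onFib π M v) ξ.1) : Prop :=
  ∀ {ξ' ξ : AffObj π v} (φ : ξ'.1 ⟶ ξ.1), IsExt φ (θ ξ) (θ ξ')

/-- The group of compatible families. -/
def homFam (v : 𝒱.obj) :
    AddSubgroup (∀ ξ : AffObj π v, Sec (onFib π E v) ξ.1 →ₗ[Fn ξ.1] Sec (onFib π M v) ξ.1) where
  carrier := {θ | IsHomFamily π E M v θ}
  zero_mem' := fun {ξ' ξ} φ => IsExt.zero φ
  add_mem' := fun {a b} ha hb {ξ' ξ} φ => (ha φ).add (hb φ)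
  neg_mem' := fun {a} ha {ξ' ξ} φ m => by
    show -(a ξ' ((onFib π E v).mapTop φ m)) = (onFib π M v).mapTop φ (-(a ξ m))
    rw [ha φ m]
    exact (map_neg (topMap (onFib π M v) φ) _).symm

/-- Compatible families of homomorphisms over an object. -/
abbrev HomF (v : 𝒱.obj) := ↥(homFam π E M v)

variable {π E M}

/-- The value at an affine object. -/
def HomF.at' {v : 𝒱.obj} (θ : HomF π E M v) (ξ : (fibCat π v).obj) (h : IsAffine (sch (fibCat π v) ξ)) :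
    Sec (onFib π E v) ξ →ₗ[Fn ξ] Sec (onFib π M v) ξ := θ.1 ⟨ξ, h⟩

theorem HomF.isExt {v : 𝒱.obj} (θ : HomF π E M v) {ξ' ξ : (fibCat π v).obj} (φ : ξ' ⟶ ξ)
    (h' : IsAffine (sch (fibCat π v) ξ')) (h : IsAffine (sch (fibCat π v) ξ)) :
    IsExt φ (θ.at' ξ h) (θ.at' ξ' h') := θ.2 (ξ' := ⟨ξ', h'⟩) (ξ := ⟨ξ, h⟩) φ

theorem HomF.ext {v : 𝒱.obj} {θ θ' : HomF π E M v}
    (h : ∀ ξ hξ, θ.at' ξ hξ = θ'.at' ξ hξ) : θ = θ' := Subtype.ext (funext fun ξ => h ξ.1 ξ.2)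

theorem fnMap_toBase {v : 𝒱.obj} {ξ' ξ : (fibCat π v).obj} (φ : ξ' ⟶ ξ) (r : Fn v) :
    fnMap φ ((toBase ξ).appTop.hom r) = (toBase ξ').appTop.hom r := by
  rw [← bmap_toBase φ, Scheme.Hom.comp_appTop]; rfl

instance homFModule (v : 𝒱.obj) : Module (Fn v) (HomF π E M v) where
  smul r θ := ⟨fun ξ => (toBase ξ.1).appTop.hom r • θ.1 ξ, fun {ξ' ξ} φ => by
    show IsExt φ ((toBase ξ.1).appTop.hom r • θ.1 ξ) ((toBase ξ'.1).appTop.hom r • θ.1 ξ')
    rw [← fnMap_toBase φ]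
    exact (θ.2 φ).smul _⟩
  one_smul θ := Subtype.ext (funext fun ξ => by
    show (toBase ξ.1).appTop.hom 1 • θ.1 ξ = _
    rw [map_one, one_smul])
  mul_smul r r' θ := Subtype.ext (funext fun ξ => by
    show (toBase ξ.1).appTop.hom (r * r') • θ.1 ξ = (toBase ξ.1).appTop.hom r • (toBase ξ.1).appTop.hom r' • θ.1 ξ
    rw [map_mul, mul_smul])
  smul_zero r := Subtype.ext (funext fun ξ => smul_zero _)
  smul_add r a b := Subtype.ext (funext fun ξ => smul_add _ _ _)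
  add_smul r r' θ := Subtype.ext (funext fun ξ => by
    show (toBase ξ.1).appTop.hom (r + r') • θ.1 ξ = (toBase ξ.1).appTop.hom r • θ.1 ξ + (toBase ξ.1).appTop.hom r' • θ.1 ξ
    rw [map_add, add_smul])
  zero_smul θ := Subtype.ext (funext fun ξ => by
    show (toBase ξ.1).appTop.hom 0 • θ.1 ξ = 0
    rw [map_zero, zero_smul])

theorem HomF.smul_at {v : 𝒱.obj} (r : Fn v) (θ : HomF π E M v) (ξ : (fibCat π v).obj)
    (h : IsAffine (sch (fibCat π v) ξ)) : (r • θ).at' ξ h = (toBase ξ).appTop.hom r • θ.at' ξ h := rfl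

/-- Restriction of families. -/
def HomF.res {v' v : 𝒱.obj} (k : v' ⟶ v) : HomF π E M v →+ HomF π E M v' where
  toFun θ := ⟨fun ξ =>
      (show Sec (onFib π E v') ξ.1 →ₗ[Fn ξ.1] Sec (onFib π M v') ξ.1 from θ.at' ((fibComp π k).obj ξ.1) ξ.2),
    fun {ξ' ξ} φ m => by
      show θ.at' ((fibComp π k).obj ξ'.1) ξ'.2 ((onFib π E v').mapTop φ m) = _
      rw [mapTop_fibFst_comp π k E.obj φ m]
      refine (θ.isExt ((fibComp π k).map φ) ξ'.2 ξ.2 m).trans ?_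
      exact (mapTop_fibFst_comp π k M.obj φ _).symm⟩
  map_zero' := rfl
  map_add' _ _ := rfl

theorem HomF.res_at {v' v : 𝒱.obj} (k : v' ⟶ v) (θ : HomF π E M v) (ξ : (fibCat π v').obj)
    (h : IsAffine (sch (fibCat π v') ξ)) :
    (HomF.res k θ).at' ξ h =
      (show Sec (onFib π E v') ξ →ₗ[Fn ξ] Sec (onFib π M v') ξ from θ.at' ((fibComp π k).obj ξ) h) := rfl

theorem toBase_fibComp {v' v : 𝒱.obj} (k : v' ⟶ v) (ξ : (fibCat π v').obj) :
    toBase ((fibComp π k).obj ξ) = toBase ξ ≫ bmap 𝒱 k := by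
  show (baseOver π ξ.left (ξ.hom ≫ k)).left = _
  rw [baseOver_comp]; rfl

theorem HomF.res_smul {v' v : 𝒱.obj} (k : v' ⟶ v) (r : Fn v) (θ : HomF π E M v) :
    HomF.res k (r • θ) = fnMap k r • HomF.res k θ := by
  refine HomF.ext fun ξ hξ => LinearMap.ext fun m => ?_
  show (toBase ((fibComp π k).obj ξ)).appTop.hom r • (θ.at' ((fibComp π k).obj ξ) hξ m) =
    (show Fn ξ from (toBase ξ).appTop.hom (fnMap k r)) • θ.at' ((fibComp π k).obj ξ) hξ m
  rw [toBase_fibComp, Scheme.Hom.comp_appTop]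
  rfl

theorem HomF.res_comp {v'' v' v : 𝒱.obj} (k' : v'' ⟶ v') (k : v' ⟶ v) {k'' : v'' ⟶ v} (e : k' ≫ k = k'')
    (θ : HomF π E M v) : HomF.res k' (HomF.res k θ) = HomF.res k'' θ := by
  subst e
  refine HomF.ext fun ξ hξ => LinearMap.ext fun m => ?_
  have key : ∀ (η η' : (fibCat π v).obj) (e : η = η') (hη : IsAffine (sch (fibCat π v) η))
      (hη' : IsAffine (sch (fibCat π v) η')), HEq (θ.at' η hη) (θ.at' η' hη') := by
    rintro η η' rfl hη hη'; rfl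
  have h := key ((fibComp π k).obj ((fibComp π k').obj ξ)) ((fibComp π (k' ≫ k)).obj ξ)
    (congrArg CostructuredArrow.mk (Category.assoc ξ.hom k' k)) hξ hξ
  show θ.at' ((fibComp π k).obj ((fibComp π k').obj ξ)) hξ m = θ.at' ((fibComp π (k' ≫ k)).obj ξ) hξ m
  exact congrFun (congrArg DFunLike.coe (eq_of_heq h)) m

/-- A family vanishes if it vanishes on objects covering all others. -/
theorem HomF.eq_zero_of_cover {v : 𝒱.obj} (θ : HomF π E M v) (C : (fibCat π v).obj → Prop)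
    (hC : ∀ ξ, IsAffine (sch (fibCat π v) ξ) → ∃ 𝒰 : Cover ξ, ∀ l, ∃ c, C c ∧
      IsAffine (sch (fibCat π v) c) ∧ Nonempty (𝒰.obj l ⟶ c))
    (h0 : ∀ c (hc : IsAffine (sch (fibCat π v) c)), C c → θ.at' c hc = 0) : θ = 0 := by
  refine HomF.ext fun ξ hξ => LinearMap.ext fun m => ?_
  obtain ⟨𝒰, h𝒰⟩ := hC ξ hξ
  haveI := hξ
  refine 𝒰.eq_zero (isCartesian_comap M.property.1) (isLocQCoh_comap M.property.2) _ fun l => ?_
  obtain ⟨c, hc, hca, ⟨s⟩⟩ := h𝒰 l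
  haveI := 𝒰.affine l
  haveI := hca
  rw [← θ.isExt (𝒰.map l) (𝒰.affine l) hξ m]
  have h₁ : θ.at' (𝒰.obj l) (𝒰.affine l) = 0 :=
    isExt_unique (isCartesian_comap E.property.1) (isLocQCoh_comap E.property.2) s
      (θ := θ.at' c hca) (θ.isExt s (𝒰.affine l) hca) (by rw [h0 c hca hc]; exact IsExt.zero s)
  rw [h₁]
  rfl

theorem HomF.eq_of_cover {v : 𝒱.obj} (θ θ' : HomF π E M v) (C : (fibCat π v).obj → Prop)
    (hC : ∀ ξ, IsAffine (sch (fibCat π v) ξ) → ∃ 𝒰 : Cover ξ, ∀ l, ∃ c, C c ∧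
      IsAffine (sch (fibCat π v) c) ∧ Nonempty (𝒰.obj l ⟶ c))
    (h0 : ∀ c (hc : IsAffine (sch (fibCat π v) c)), C c → θ.at' c hc = θ'.at' c hc) : θ = θ' :=
  sub_eq_zero.1 (HomF.eq_zero_of_cover (θ - θ') C hC fun c hc hCc => sub_eq_zero.2 (h0 c hc hCc))

end Groth.L23.RelGen
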