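import Groth.Agent.L23.RelGen.HomEval
import Groth.Agent.L23.RelGen.DD
import Groth.Agent.L23.RelGen.FamQCoh

/-!
# The module of homomorphisms on the target and the maps induced on it
-/

universe t w' v' w v u

open CategoryTheory CategoryTheory.Limits AlgebraicGeometry Opposite TopologicalSpace

set_option backward.isDefEq.respectTransparency false
set_option backward.isDefEq.respectTransparency.types false
set_option linter.style.haveILetI false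
set_option linter.unusedSectionVars false
set_option maxHeartbeats 1000000

noncomputable section

namespace Groth.L23.RelGen

open StMod

variable {S : Scheme.{u}} {𝒳 : BasedCategory.{v', w'} (Over S)} {𝒱 : BasedCategory.{v, w} (Over S)}
  {π : 𝒳 ⥤ᵇ 𝒱} {E M N : QCoh 𝒳}

/-- Families composed with a morphism. -/
def HomF.postComp (u : M ⟶ N) {v : 𝒱.obj} : HomF π E M v →+ HomF π E N v where
  toFun θ := ⟨fun ξ =>
      { toFun := fun m => (u.hom.app ξ.1.left).app ⊤ (θ.at' ξ.1 ξ.2 m)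
        map_add' := fun a b => by rw [map_add]; exact map_add _ _ _
        map_smul' := fun r a => by rw [map_smul]; exact (u.hom.app ξ.1.left).app_smul r _ },
    fun {ξ' ξ} φ m => by
      show (u.hom.app ξ'.1.left).app ⊤ (θ.at' ξ'.1 ξ'.2 _) = _
      rw [θ.isExt φ ξ'.2 ξ.2 m, mapTop_fibFst π v M.obj φ]
      exact (Mod.mapTop_app u.hom φ.left _).symm.trans (mapTop_fibFst π v N.obj φ _).symm⟩
  map_zero' := Subtype.ext (funext fun ξ => LinearMap.ext fun m => map_zero ((u.hom.app ξ.1.left).app ⊤).hom)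
  map_add' a b := Subtype.ext (funext fun ξ => LinearMap.ext fun m =>
    map_add ((u.hom.app ξ.1.left).app ⊤).hom (a.at' ξ.1 ξ.2 m) (b.at' ξ.1 ξ.2 m))

theorem HomF.postComp_at (u : M ⟶ N) {v : 𝒱.obj} (θ : HomF π E M v) (ξ : (fibCat π v).obj)
    (h : IsAffine (sch (fibCat π v) ξ)) (m : Sec (onFib π E v) ξ) :
    (HomF.postComp u θ).at' ξ h m = (u.hom.app ξ.left).app ⊤ (θ.at' ξ h m) := rfl

theorem HomF.postComp_res (u : M ⟶ N) {v' v : 𝒱.obj} (k : v' ⟶ v) (θ : HomF π E M v) :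
    HomF.postComp u (HomF.res k θ) = HomF.res k (HomF.postComp u θ) :=
  HomF.ext fun _ _ => LinearMap.ext fun _ => rfl

theorem HomF.postComp_smul (u : M ⟶ N) {v : 𝒱.obj} (r : Fn v) (θ : HomF π E M v) :
    HomF.postComp u (r • θ) = r • HomF.postComp u θ :=
  HomF.ext fun ξ _ => LinearMap.ext fun _ => (u.hom.app ξ.left).app_smul _ _

/-- A descended module of homomorphisms. -/
structure HomPB (π : 𝒳 ⥤ᵇ 𝒱) (E M : QCoh 𝒳) (A : Atlas3 𝒱) where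
  /-- the evaluation -/
  he : HomEval π E M A.x₀
  /-- the identifications -/
  D : DD he.G
  T_ev : ∀ {v : 𝒱.obj} (hv : IsAffine (sch 𝒱 v)) (p q : v ⟶ A.x₀) (t : v ⟶ A.ov), t ≫ A.a = p → t ≫ A.b = q →
    ∀ e : Sec he.G.obj (slMk p), he.β (slMk q) hv (D.T hv p q e) = he.β (slMk p) hv e
  fib : FibCat.IsFibGrpd 𝒱.p

theorem nonempty_homPB (hX : FibCat.IsFibGrpd 𝒳.p) (hV : FibCat.IsFibGrpd 𝒱.p) (hfp : E.obj.IsFinPres)
    (π : 𝒳 ⥤ᵇ 𝒱) (M : QCoh 𝒳) (A : Atlas3 𝒱) (A' : Atlas (fibCat π A.x₀)) : Nonempty (HomPB π E M A) := by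
  haveI := A.aff₀
  obtain ⟨he⟩ := exists_homEval hX hV hfp π M A.x₀ A'
  obtain ⟨D, hD⟩ := Eval.exists_dd A he.toEval hV
  exact ⟨⟨he, D, hD, hV⟩⟩

namespace HomPB

variable {A : Atlas3 𝒱}

/-- The underlying descent datum with local lifts. -/
abbrev pb (P : HomPB π E M A) : PB A.x₀ where
  G := P.he.G
  D := P.D
  fib := P.fib
  aff₀ := A.aff₀
  loc := A.loc

variable (PM : HomPB π E M A) (PN : HomPB π E N A)

theorem exists_thetaChart (u : M ⟶ N) :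
    ∃ θ₀ : Sec PM.he.G.obj (slMk (𝟙 A.x₀)) →ₗ[Fn (slMk (𝟙 A.x₀))] Sec PN.he.G.obj (slMk (𝟙 A.x₀)),
      ∀ m, PN.he.β (slMk (𝟙 A.x₀)) A.aff₀ (θ₀ m) = HomF.postComp u (PM.he.β (slMk (𝟙 A.x₀)) A.aff₀ m) := by
  have hb : Function.Bijective (PN.he.β (slMk (𝟙 A.x₀)) A.aff₀) := PN.he.bij _ _ (by
    show Flat (bmap 𝒱 (𝟙 A.x₀))
    rw [bmap_id]; infer_instance)
  choose θ hθ using fun m => hb.2 (HomF.postComp u (PM.he.β (slMk (𝟙 A.x₀)) A.aff₀ m))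
  refine ⟨{ toFun := θ, map_add' := fun a b => hb.1 ?_, map_smul' := fun r a => hb.1 ?_ }, hθ⟩
  · rw [map_add, hθ, hθ, hθ, map_add, map_add]
  · rw [RingHom.id_apply, PN.he.β_smul, hθ, hθ, PM.he.β_smul, HomF.postComp_smul]

/-- The map to the chart in the slice. -/
abbrev slTop (s : (Sl A.x₀).obj) : s ⟶ slMk (𝟙 A.x₀) :=
  slHom (s' := s) (s := slMk (𝟙 A.x₀)) (slArr s) (Category.comp_id _)

theorem theta_comm (u : M ⟶ N)
    {θ₀ : Sec PM.he.G.obj (slMk (𝟙 A.x₀)) →ₗ[Fn (slMk (𝟙 A.x₀))] Sec PN.he.G.obj (slMk (𝟙 A.x₀))}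
    (hθ₀ : ∀ m, PN.he.β (slMk (𝟙 A.x₀)) A.aff₀ (θ₀ m) = HomF.postComp u (PM.he.β (slMk (𝟙 A.x₀)) A.aff₀ m))
    {s : (Sl A.x₀).obj} (hs : IsAffine (sch (Sl A.x₀) s)) {θ : Sec PM.he.G.obj s →ₗ[Fn s] Sec PN.he.G.obj s}
    (hθ : IsExt (slTop s) θ₀ θ) (m : Sec PM.he.G.obj s) :
    PN.he.β s hs (θ m) = HomF.postComp u (PM.he.β s hs m) := by
  haveI := hs
  haveI : IsAffine (sch (Sl A.x₀) (slMk (𝟙 A.x₀))) := A.aff₀
  refine induction_topMap PM.he.G.property.1 PM.he.G.property.2 (slTop s) m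
    (p := fun m => PN.he.β s hs (θ m) = HomF.postComp u (PM.he.β s hs m))
    (by rw [map_zero, map_zero, map_zero, map_zero]) (fun r a => ?_)
    (fun a b ha hb => by rw [map_add, map_add, map_add, map_add, ha, hb])
  rw [map_smul, PN.he.β_smul, PM.he.β_smul, hθ a, PN.he.β_nat (slTop s) hs A.aff₀,
    PM.he.β_nat (slTop s) hs A.aff₀, hθ₀]
  refine Eq.trans ?_ (HomF.postComp_smul u _ _).symm
  exact congrArg _ (HomF.postComp_res u _ _).symm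

theorem exists_theta (u : M ⟶ N) :
    ∃ θ : ∀ (s : (Sl A.x₀).obj), IsAffine (sch (Sl A.x₀) s) → (Sec PM.he.G.obj s →ₗ[Fn s] Sec PN.he.G.obj s),
      (∀ {s' s : (Sl A.x₀).obj} (k : s' ⟶ s) hs' hs, IsExt k (θ s hs) (θ s' hs')) ∧
      ∀ s hs m, PN.he.β s hs (θ s hs m) = HomF.postComp u (PM.he.β s hs m) := by
  obtain ⟨θ₀, hθ₀⟩ := PM.exists_thetaChart PN u
  haveI : IsAffine (sch (Sl A.x₀) (slMk (𝟙 A.x₀))) := A.aff₀
  choose θ hθ using fun (s : (Sl A.x₀).obj) (hs : IsAffine (sch (Sl A.x₀) s)) =>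
    haveI := hs
    exists_isExt (E := PM.he.G.obj) (M := PN.he.G.obj) PM.he.G.property.1 PM.he.G.property.2 (slTop s) θ₀
  refine ⟨θ, fun {s' s} k hs' hs => ?_, fun s hs m => PM.theta_comm PN u hθ₀ hs (hθ s hs) m⟩
  haveI := hs'
  haveI := hs
  obtain ⟨θ', hθ'⟩ := exists_isExt (M := PN.he.G.obj) PM.he.G.property.1 PM.he.G.property.2 k (θ s hs)
  have e : k ≫ slTop s = slTop s' := CostructuredArrow.hom_ext _ _ (CostructuredArrow.w k)
  rw [isExt_unique PM.he.G.property.1 PM.he.G.property.2 (slTop s') (hθ s' hs') (e ▸ (hθ s hs).comp hθ')]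
  exact hθ'

theorem theta_T_piece
    (θ : ∀ (s : (Sl A.x₀).obj), IsAffine (sch (Sl A.x₀) s) → (Sec PM.he.G.obj s →ₗ[Fn s] Sec PN.he.G.obj s))
    (hnat : ∀ {s' s : (Sl A.x₀).obj} (k : s' ⟶ s) hs' hs, IsExt k (θ s hs) (θ s' hs'))
    (hov : ∀ e, θ (slMk A.b) A.affov (PM.D.T A.affov A.a A.b e) =
      PN.D.T A.affov A.a A.b (θ (slMk A.a) A.affov e))
    {v : 𝒱.obj} (hv : IsAffine (sch 𝒱 v)) (p q : v ⟶ A.x₀) (t : v ⟶ A.ov) (ha : t ≫ A.a = p) (hb : t ≫ A.b = q)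
    (m : Sec PM.he.G.obj (slMk p)) :
    θ (slMk q) hv (PM.D.T hv p q m) = PN.D.T hv p q (θ (slMk p) hv m) := by
  haveI : IsAffine (sch (Sl A.x₀) (slMk p)) := hv
  haveI : IsAffine (sch (Sl A.x₀) (slMk A.a)) := A.affov
  refine induction_topMap PM.he.G.property.1 PM.he.G.property.2
    (slHom (s' := slMk p) (s := slMk A.a) t ha) m
    (p := fun e => θ (slMk q) hv (PM.D.T hv p q e) = PN.D.T hv p q (θ (slMk p) hv e))
    (by rw [map_zero, map_zero, map_zero, map_zero]) (fun r e => ?_)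
    (fun a b ha hb => by rw [map_add, map_add, map_add, map_add, ha, hb])
  refine ((congrArg _ (PM.D.T_smul hv _ _ r _)).trans ((θ (slMk q) hv).map_smul _ _)).trans ?_
  refine Eq.trans ?_ ((congrArg (PN.D.T hv _ _) ((θ (slMk p) hv).map_smul r _)).trans
    (PN.D.T_smul hv _ _ r _)).symm
  refine congrArg (fun z => (show Fn (slMk q) from r) • z) ?_
  have h₁ := PM.D.T_nat hv A.affov t ha hb e
  have h₂ := hnat (slHom (s' := slMk q) (s := slMk A.b) t hb) hv A.affov (PM.D.T A.affov A.a A.b e)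
  have h₃ := hnat (slHom (s' := slMk p) (s := slMk A.a) t ha) hv A.affov e
  have h₄ := PN.D.T_nat hv A.affov t ha hb (θ (slMk A.a) A.affov e)
  exact ((congrArg _ h₁).trans h₂).trans ((congrArg _ (hov e)).trans
    (h₄.symm.trans (congrArg (PN.D.T hv p q) h₃.symm)))

theorem theta_T (u : M ⟶ N)
    (θ : ∀ (s : (Sl A.x₀).obj), IsAffine (sch (Sl A.x₀) s) → (Sec PM.he.G.obj s →ₗ[Fn s] Sec PN.he.G.obj s))
    (hnat : ∀ {s' s : (Sl A.x₀).obj} (k : s' ⟶ s) hs' hs, IsExt k (θ s hs) (θ s' hs'))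
    (hβ : ∀ s hs m, PN.he.β s hs (θ s hs m) = HomF.postComp u (PM.he.β s hs m))
    {v : 𝒱.obj} (hv : IsAffine (sch 𝒱 v)) (p q : v ⟶ A.x₀) (m : Sec PM.he.G.obj (slMk p)) :
    θ (slMk q) hv (PM.D.T hv p q m) = PN.D.T hv p q (θ (slMk p) hv m) := by
  have hov : ∀ e, θ (slMk A.b) A.affov (PM.D.T A.affov A.a A.b e) =
      PN.D.T A.affov A.a A.b (θ (slMk A.a) A.affov e) := fun e => by
    refine (PN.he.bij (slMk A.b) A.affov A.flat_b).1 ?_
    rw [PN.T_ev A.affov A.a A.b (𝟙 _) (Category.id_comp _) (Category.id_comp _), hβ, hβ,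
      PM.T_ev A.affov A.a A.b (𝟙 _) (Category.id_comp _) (Category.id_comp _)]
    rfl
  haveI : IsAffine (sch (Sl A.x₀) (slMk q)) := hv
  obtain ⟨𝒰, -, h𝒰⟩ := A.pairs v hv p q
  refine (slCover 𝒰 q).ext PN.he.G.property.1 PN.he.G.property.2 _ _ fun l => ?_
  obtain ⟨t, ha, hb⟩ := h𝒰 l
  have hl := 𝒰.affine l
  let kq : slMk (𝒰.map l ≫ q) ⟶ slMk q := slHom (𝒰.map l) rfl
  let kp : slMk (𝒰.map l ≫ p) ⟶ slMk p := slHom (𝒰.map l) rfl
  have h₁ := hnat kq hl hv (PM.D.T hv p q m)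
  have h₂ := PM.D.T_nat hl hv (𝒰.map l) (p := p) (q := q) (p' := 𝒰.map l ≫ p) (q' := 𝒰.map l ≫ q) rfl rfl m
  have h₃ := PN.D.T_nat hl hv (𝒰.map l) (p := p) (q := q) (p' := 𝒰.map l ≫ p) (q' := 𝒰.map l ≫ q) rfl rfl
    (θ (slMk p) hv m)
  have h₄ := hnat kp hl hv m
  exact (h₁.symm.trans (congrArg _ h₂.symm)).trans
    ((PM.theta_T_piece PN θ (fun k hs' hs => hnat k hs' hs) hov hl _ _ t ha hb _).trans
      ((congrArg _ h₄).trans h₃))

/-- Maps of families induced by maps of the modules on the slice. -/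
def mapFamTop
    (θ : ∀ (s : (Sl A.x₀).obj), IsAffine (sch (Sl A.x₀) s) → (Sec PM.he.G.obj s →ₗ[Fn s] Sec PN.he.G.obj s))
    (hnat : ∀ {s' s : (Sl A.x₀).obj} (k : s' ⟶ s) hs' hs, IsExt k (θ s hs) (θ s' hs'))
    (hT : ∀ {v : 𝒱.obj} (hv : IsAffine (sch 𝒱 v)) (p q : v ⟶ A.x₀) (m : Sec PM.he.G.obj (slMk p)),
      θ (slMk q) hv (PM.D.T hv p q m) = PN.D.T hv p q (θ (slMk p) hv m)) (x : 𝒱.obj) :
    PM.pb.Fam x ⊤ →ₗ[Γ(sch 𝒱 x, ⊤)] PN.pb.Fam x ⊤ where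
  toFun s := ⟨fun j => θ (slMk j.p) j.aff (PB.ev s j.aff j.p j.α j.le),
    fun {v' v} hv' hv k {p p' α α'} hp hα e e' =>
      (hnat (slHom (s' := slMk p') (s := slMk p) k hp) hv' hv _).symm.trans
        (congrArg _ (PB.ev_map s hv' hv k hp hα e e')),
    fun {v} hv p q α e => (hT hv p q _).symm.trans (congrArg _ (PB.ev_tw s hv p q α e))⟩
  map_add' a b := PB.fam_ext fun v hv p α e =>
    map_add (θ (slMk p) hv) (PB.ev a hv p α e) (PB.ev b hv p α e)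
  map_smul' r a := PB.fam_ext fun v hv p α e => (θ (slMk p) hv).map_smul _ (PB.ev a hv p α e)

theorem exists_pbMap (u : M ⟶ N) :
    ∃ (Pu : PM.pb.toQCoh ⟶ PN.pb.toQCoh)
      (θ : ∀ (s : (Sl A.x₀).obj), IsAffine (sch (Sl A.x₀) s) → (Sec PM.he.G.obj s →ₗ[Fn s] Sec PN.he.G.obj s)),
      (∀ s hs m, PN.he.β s hs (θ s hs m) = HomF.postComp u (PM.he.β s hs m)) ∧
      (∀ {s' s : (Sl A.x₀).obj} (k : s' ⟶ s) hs' hs, IsExt k (θ s hs) (θ s' hs')) ∧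
      ∀ (x : 𝒱.obj) (_ : IsAffine (sch 𝒱 x)) (m : Sec PM.pb.toMod x) {v : 𝒱.obj} (hv : IsAffine (sch 𝒱 v))
        (p : v ⟶ A.x₀) (α : v ⟶ x),
        PN.pb.evG hv p α ((Pu.hom.app x).app ⊤ m) = θ (slMk p) hv (PM.pb.evG hv p α m) := by
  obtain ⟨θ, hnat, hβ⟩ := PM.exists_theta PN u
  let mf := fun x => PM.mapFamTop PN θ (fun k hs' hs => hnat k hs' hs)
    (fun hv p q m => PM.theta_T PN u θ (fun k hs' hs => hnat k hs' hs) hβ hv p q m) x
  let L : ∀ x, IsAffine (sch 𝒱 x) → (Sec PM.pb.toMod x →ₗ[Fn x] Sec PN.pb.toMod x) := fun x _ =>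
    (PN.pb.secFam x ⊤).symm.toLinearMap.comp ((mf x).comp (PM.pb.secFam x ⊤).toLinearMap)
  obtain ⟨φ, hφ⟩ := exists_hom_of_affine PM.fib PB.isCartesian_toMod L fun x' x k _ _ m => by
    refine (PN.pb.secFam x' ⊤).injective ?_
    show PN.pb.secFam x' ⊤ ((PN.pb.secFam x' ⊤).symm _) = _
    rw [LinearEquiv.apply_symm_apply, PB.secFam_mapTop]
    show mf x' (PM.pb.secFam x' ⊤ (PM.pb.toMod.mapTop k m)) = PN.pb.mapFam k rfl ⊤ (PN.pb.secFam x ⊤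
      ((PN.pb.secFam x ⊤).symm (mf x (PM.pb.secFam x ⊤ m))))
    rw [LinearEquiv.apply_symm_apply, PB.secFam_mapTop]
    rfl
  refine ⟨InducedCategory.homMk φ, θ, hβ, fun k hs' hs => hnat k hs' hs, fun x hx m v hv p α => ?_⟩
  show PB.ev (PN.pb.secFam x ⊤ ((φ.app x).app ⊤ m)) hv p α _ = _
  rw [hφ x hx m]
  show PB.ev (PN.pb.secFam x ⊤ ((PN.pb.secFam x ⊤).symm _)) hv p α _ = _
  rw [LinearEquiv.apply_symm_apply]
  rfl

end HomPB

end Groth.L23.RelGen
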