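import Groth.Agent.L19.LocFreeDescent
import Groth.Agent.L00.LocalData
import Groth.Agent.L16.CohKernel
import Groth.Agent.L18.LocFreeFP
import Mathlib.Algebra.Category.ModuleCat.Sheaf.LocallyFree

/-!
# Locally free modules of finite type on schemes
-/

universe u

open CategoryTheory CategoryTheory.Limits AlgebraicGeometry TopologicalSpace

set_option backward.isDefEq.respectTransparency false
set_option backward.isDefEq.respectTransparency.types false
set_option linter.style.haveILetI false
set_option linter.unusedSectionVars false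

noncomputable section

namespace Groth.L23.RelGen

variable {X : Scheme.{u}}

theorem isIso_ofEpi_π {C : Type u} [Category.{u} C] {J : GrothendieckTopology C} {R : Sheaf J RingCat.{u}}
    [HasWeakSheafify J AddCommGrpCat.{u}] [J.WEqualsLocallyBijective AddCommGrpCat.{u}] {I : Type u}
    {M : SheafOfModules.{u} R} (e : SheafOfModules.free.{u} (R := R) I ≅ M) :
    IsIso ((SheafOfModules.free.generatingSections (R := R) I).ofEpi e.hom).π := by
  rw [SheafOfModules.GeneratingSections.ofEpi_π]
  infer_instance

/-- A locally free module of finite type is finite locally free. -/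
theorem isFinLocFree_of_isLocallyFree {M : X.Modules}
    (hlf : SheafOfModules.IsLocallyFree.{u, u, u} (R := X.ringCatSheaf) M) (hft : CohB1.IsFT M) :
    FlatMod.IsFinLocFree M := by
  obtain ⟨q, hq⟩ := hlf.exists_isLocallyFreeData
  haveI : SheafOfModules.IsLocallyFree.{u, u, u} (R := X.ringCatSheaf) M := hlf
  haveI : Coh.IsQCoh M := (inferInstance : SheafOfModules.IsQuasicoherent (R := X.ringCatSheaf) M)
  have hc : TopologicalSpace.IsOpenCover q.X := (Opens.coversTop_iff _ q.X).1 q.coversTop
  refine Groth.L19.PullChart.isFinLocFree_of_projective_charts M fun x => ?_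
  obtain ⟨i, hi⟩ := TopologicalSpace.Opens.mem_iSup.1
    (show x ∈ ⨆ i, q.X i from hc.symm ▸ TopologicalSpace.Opens.mem_top x)
  obtain ⟨_, ⟨V, hV, rfl⟩, hxV, hVU⟩ :=
    X.isBasis_affineOpens.exists_subset_of_mem_open (show x ∈ (q.X i : Set X) from hi) (q.X i).2
  replace hV : IsAffineOpen V := hV
  replace hVU : V ≤ q.X i := hVU
  let U : X.Opens := q.X i
  let I := (q.generators i).I
  haveI := hq.isIso i
  haveI : PreservesColimitsOfSize.{u, u} (Scheme.Modules.overEquiv U).functor := inferInstance
  let a : SheafOfModules.free.{u, u, u} (R := (U : Scheme.{u}).ringCatSheaf) I ≅ M.restrict U.ι :=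
    SheafOfModules.mapFreeIso (Scheme.Modules.overEquiv U).functor I
      (TopologicalSpace.Opens.sheafOfModulesEquivOverUnit U X.ringCatSheaf).symm ≪≫
    (Scheme.Modules.overEquiv U).functor.mapIso (asIso (q.generators i).π) ≪≫
    (Scheme.Modules.overFunctorEquiv U).app M
  let j := hV.fromSpec
  let l : Spec Γ(X, V) ⟶ (U : Scheme.{u}) :=
    IsOpenImmersion.lift U.ι j (by rw [Scheme.Opens.range_ι, hV.range_fromSpec]; exact hVU)
  have hl : l ≫ U.ι = j := IsOpenImmersion.lift_fac _ _ _
  haveI : IsOpenImmersion (l ≫ U.ι) := by rw [hl]; infer_instance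
  haveI : IsOpenImmersion l := IsOpenImmersion.of_comp l U.ι
  let F : SheafOfModules.{u} (U : Scheme.{u}).ringCatSheaf ⥤ SheafOfModules.{u} (Spec Γ(X, V)).ringCatSheaf :=
    Scheme.Modules.restrictFunctor l
  haveI : PreservesColimitsOfSize.{u, u} F :=
    (Scheme.Modules.restrictAdjunction l).leftAdjoint_preservesColimits
  let b : SheafOfModules.free.{u, u, u} (R := (Spec Γ(X, V)).ringCatSheaf) I ≅ M.restrict j :=
    SheafOfModules.mapFreeIso F I (Scheme.Modules.restrictUnitIso l).symm ≪≫ F.mapIso a ≪≫
    ((Scheme.Modules.restrictFunctorComp l U.ι).symm ≪≫ Scheme.Modules.restrictFunctorCongr hl).app M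
  let N : ModuleCat.{u} Γ(X, V) := ModuleCat.of Γ(X, V) (I →₀ Γ(X, V))
  let e : M.restrict j ≅ tilde N := b.symm ≪≫ (tildeFinsupp (R := Γ(X, V)) I).symm
  haveI : Module.Finite Γ(X, V) N := Groth.L16.CohKernel.finite_of_tilde_iso M hft j N e
  haveI : Module.Free Γ(X, V) N := inferInstanceAs (Module.Free Γ(X, V) (I →₀ Γ(X, V)))
  exact ⟨Γ(X, V), j, inferInstance, N, by rw [hV.opensRange_fromSpec]; exact hxV,
    Module.finitePresentation_of_projective _ _, Module.Projective.of_free, ⟨e⟩⟩

theorem exists_free_over {M : X.Modules} {U : X.Opens} {n : ℕ}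
    (e : M.restrict U.ι ≅ FlatMod.freeMod (U : Scheme.{u}) n) :
    Nonempty (SheafOfModules.free.{u, u, u} (R := X.ringCatSheaf.over U) (ULift.{u} (Fin n)) ≅
      SheafOfModules.over M U) := by
  haveI : PreservesColimitsOfSize.{u, u} (Scheme.Modules.overEquiv U).inverse := inferInstance
  let a : SheafOfModules.free.{u, u, u} (R := (U : Scheme.{u}).ringCatSheaf) (ULift.{u} (Fin n)) ≅ M.restrict U.ι :=
    Sigma.whiskerEquiv (f := fun _ : ULift.{u} (Fin n) => Coh.structureModule U.toScheme)
      (g := fun _ : Fin n => Coh.structureModule U.toScheme) Equiv.ulift (fun _ => Iso.refl _) ≪≫ e.symm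
  exact ⟨SheafOfModules.mapFreeIso (Scheme.Modules.overEquiv U).inverse _ (Groth.L00.Local.overInverseUnit U) ≪≫
    (Scheme.Modules.overEquiv U).inverse.mapIso a ≪≫ Groth.L00.Local.overIso M U⟩

theorem isLocallyFree_of_generators {M : SheafOfModules.{u} X.ringCatSheaf} (U : ↥X → X.Opens) (hU : ∀ x, x ∈ U x)
    (σ : ∀ x, (SheafOfModules.over M (U x)).GeneratingSections) (hσ : ∀ x, IsIso (σ x).π) :
    SheafOfModules.IsLocallyFree.{u, u, u} M := by
  let q : SheafOfModules.LocalGeneratorsData.{u} M :=
    SheafOfModules.LocalGeneratorsData.mk.{u, u, u, u} (M := M) (↥X) U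
      (Groth.L00.Local.coversTop_of_forall_exists U fun x => ⟨x, hU x⟩) σ
  haveI : q.IsLocallyFreeData := SheafOfModules.LocalGeneratorsData.IsLocallyFreeData.mk.{u, u, u, u} (q := q) hσ
  exact q.isLocallyFree

theorem exists_generators_over {M : SheafOfModules.{u} X.ringCatSheaf} {U : X.Opens} {n : ℕ}
    (b : SheafOfModules.free.{u, u, u} (R := X.ringCatSheaf.over U) (ULift.{u} (Fin n)) ≅ SheafOfModules.over M U) :
    ∃ σ : (SheafOfModules.over M U).GeneratingSections, IsIso σ.π :=
  ⟨_, isIso_ofEpi_π b⟩

/-- A finite locally free module is locally free. -/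
theorem isLocallyFree_of_isFinLocFree {M : X.Modules} (h : FlatMod.IsFinLocFree M) :
    SheafOfModules.IsLocallyFree.{u, u, u} (R := X.ringCatSheaf) M := by
  choose U n hU he using h
  choose σ hσ using fun x => exists_generators_over (exists_free_over (he x).some).some
  exact isLocallyFree_of_generators U hU σ hσ

end Groth.L23.RelGen
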