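import Groth.Agent.L23.RelGen.HomMap

/-!
# Pairings from maps into modules of homomorphisms
-/

universe t w' v' w v u

open CategoryTheory CategoryTheory.Limits AlgebraicGeometry Opposite TopologicalSpace

set_option backward.isDefEq.respectTransparency false
set_option backward.isDefEq.respectTransparency.types false
set_option linter.style.haveILetI false
set_option linter.unusedSectionVars false
set_option maxHeartbeats 1000000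

noncomputable section

namespace Groth.L23.RelGen

open StMod

variable {S : Scheme.{u}} {𝒳 : BasedCategory.{v', w'} (Over S)} {𝒱 : BasedCategory.{v, w} (Over S)}
  {π : 𝒳 ⥤ᵇ 𝒱} {E M : QCoh 𝒳}

theorem isAffine_image (π : 𝒳 ⥤ᵇ 𝒱) (ξ : 𝒳.obj) (h : IsAffine (sch 𝒳 ξ)) : IsAffine (sch 𝒱 (π.obj ξ)) := by
  haveI := h
  exact IsAffine.of_isIso (eqToHom (sch_obj_eq π ξ))

/-- An object over its image. -/
abbrev self (π : 𝒳 ⥤ᵇ 𝒱) (ξ : 𝒳.obj) : (fibCat π (π.obj ξ)).obj := CostructuredArrow.mk (𝟙 (π.obj ξ))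

/-- Functions on the image acting on an object. -/
abbrev baseFn (π : 𝒳 ⥤ᵇ 𝒱) (ξ : 𝒳.obj) : Fn (π.obj ξ) →+* Fn ξ := (toBase (self π ξ)).appTop.hom

/-- A natural bilinear pairing of a module on the target and a module on the source. -/
structure BiFam (π : 𝒳 ⥤ᵇ 𝒱) (F : QCoh 𝒱) (E M : QCoh 𝒳) where
  /-- the pairing -/
  B : ∀ ξ : 𝒳.obj, IsAffine (sch 𝒳 ξ) → Sec F.obj (π.obj ξ) → Sec E.obj ξ → Sec M.obj ξ
  add_left : ∀ ξ hξ m m' e, B ξ hξ (m + m') e = B ξ hξ m e + B ξ hξ m' e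
  add_right : ∀ ξ hξ m e e', B ξ hξ m (e + e') = B ξ hξ m e + B ξ hξ m e'
  smul_left : ∀ ξ hξ (r : Fn (π.obj ξ)) m e, B ξ hξ (r • m) e = baseFn π ξ r • B ξ hξ m e
  smul_right : ∀ ξ hξ m (r : Fn ξ) e, B ξ hξ m (r • e) = r • B ξ hξ m e
  nat : ∀ {ξ' ξ : 𝒳.obj} (k : ξ' ⟶ ξ) hξ' hξ m e,
    B ξ' hξ' (F.obj.mapTop (π.map k) m) (E.obj.mapTop k e) = M.obj.mapTop k (B ξ hξ m e)

/-- A cover of an object over a cover of its image. -/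
theorem exists_cover_over (hX : FibCat.IsFibGrpd 𝒳.p) (hV : FibCat.IsFibGrpd 𝒱.p) {ξ : 𝒳.obj}
    (hξ : IsAffine (sch 𝒳 ξ)) (𝒰 : Cover (π.obj ξ)) :
    ∃ 𝒲 : Cover ξ, (Finite 𝒰.ι → Finite 𝒲.ι) ∧
      ∀ n, ∃ (l : 𝒰.ι) (t : π.obj (𝒲.obj n) ⟶ 𝒰.obj l), t ≫ 𝒰.map l = π.map (𝒲.map n) := by
  haveI := hξ
  haveI := isAffine_image π ξ hξ
  haveI := 𝒰.affine
  choose x' q H hl using fun l => exists_bc hX hV (𝒰.map l) (self π ξ)
  haveI : IsAffine (sch (fibCat π (π.obj ξ)) (self π ξ)) := hξ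
  refine ⟨⟨𝒰.ι, fun l => (x' l).left, fun l => (q l).left, fun l => ?_, ⟨fun l => ?_, fun y => ?_⟩⟩, _root_.id,
    fun l => ⟨l, (x' l).hom, ?_⟩⟩
  · exact (IsAffine.of_isIso (H l).isoPullback.hom : IsAffine (sch (fibCat π (π.obj ξ)) ((fibComp π (𝒰.map l)).obj (x' l))))
  · exact (MorphismProperty.of_isPullback (H l).flip (𝒰.cov.flat l) :
      Flat (bmap (fibCat π (π.obj ξ)) (q l)))
  · obtain ⟨l, w, hw⟩ := 𝒰.cov.surj (toBase (self π ξ) y)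
    obtain ⟨p, hp₁, hp₂⟩ := Scheme.Pullback.exists_preimage_pullback y w hw.symm
    refine ⟨l, (H l).isoPullback.inv p, ?_⟩
    show (bmap (fibCat π (π.obj ξ)) (q l)) ((H l).isoPullback.inv p) = y
    rw [← Scheme.Hom.comp_apply, (H l).isoPullback_inv_fst]
    exact hp₁
  · exact ((CostructuredArrow.w (q l)).symm.trans (Category.comp_id _))

namespace HomPB

variable {A : Atlas3 𝒱} (PM : HomPB π E M A) {F : QCoh 𝒱} (φ : F.obj ⟶ PM.pb.toMod)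

/-- The value of a map into the module of homomorphisms along a lift. -/
def lam {v : 𝒱.obj} (hv : IsAffine (sch 𝒱 v)) (p : v ⟶ A.x₀) (m : Sec F.obj v) : Sec PM.he.G.obj (slMk p) :=
  PM.pb.evG hv p (𝟙 v) ((φ.app v).app ⊤ m)

theorem lam_add {v : 𝒱.obj} (hv : IsAffine (sch 𝒱 v)) (p : v ⟶ A.x₀) (m m' : Sec F.obj v) :
    PM.lam φ hv p (m + m') = PM.lam φ hv p m + PM.lam φ hv p m' := by
  rw [lam, map_add]
  exact PB.evG_add hv p _ _ _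

theorem lam_smul {v : 𝒱.obj} (hv : IsAffine (sch 𝒱 v)) (p : v ⟶ A.x₀) (r : Fn v) (m : Sec F.obj v) :
    PM.lam φ hv p (r • m) = (show Fn (slMk p) from r) • PM.lam φ hv p m := by
  rw [lam, Scheme.Modules.Hom.app_smul]
  refine (PB.evG_smul hv p (𝟙 v) r _).trans (congrArg (fun a : Fn (slMk p) => a • _) ?_)
  show fnMap (𝟙 v) r = r
  rw [fnMap, bmap_id, Scheme.Hom.id_appTop]
  rfl

theorem lam_zero {v : 𝒱.obj} (hv : IsAffine (sch 𝒱 v)) (p : v ⟶ A.x₀) : PM.lam φ hv p (0 : Sec F.obj v) = 0 := by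
  have h := PM.lam_smul φ hv p 0 0
  rw [zero_smul] at h
  exact h.trans (zero_smul _ _)

theorem lam_evG {x v : 𝒱.obj} (hv : IsAffine (sch 𝒱 v)) (p : v ⟶ A.x₀) (α : v ⟶ x) (m : Sec F.obj x) :
    PM.pb.evG hv p α ((φ.app x).app ⊤ m) = PM.lam φ hv p (F.obj.mapTop α m) := by
  rw [lam, ← Mod.mapTop_app φ α m, PB.evG_mapTop]
  exact (PB.ev_congr _ hv p (Category.id_comp α).symm _ _)

theorem lam_map {v' v : 𝒱.obj} (hv' : IsAffine (sch 𝒱 v')) (hv : IsAffine (sch 𝒱 v)) (k : v' ⟶ v)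
    {p : v ⟶ A.x₀} {p' : v' ⟶ A.x₀} (hp : k ≫ p = p') (m : Sec F.obj v) :
    PM.he.G.obj.mapTop (slHom (s' := slMk p') (s := slMk p) k hp) (PM.lam φ hv p m) =
      PM.lam φ hv' p' (F.obj.mapTop k m) := by
  rw [← lam_evG]
  exact PB.evG_map (P := PM.pb) hv' hv k hp (Category.comp_id k) _

theorem lam_T {v : 𝒱.obj} (hv : IsAffine (sch 𝒱 v)) (p q : v ⟶ A.x₀) (m : Sec F.obj v) :
    PM.D.T hv p q (PM.lam φ hv p m) = PM.lam φ hv q m := PB.evG_tw (P := PM.pb) hv p q _ _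

/-- The pairing over objects with lifts. -/
def om {ξ : 𝒳.obj} (hξ : IsAffine (sch 𝒳 ξ)) (p : π.obj ξ ⟶ A.x₀) (m : Sec F.obj (π.obj ξ)) :
    Sec E.obj ξ →ₗ[Fn ξ] Sec M.obj ξ :=
  (PM.he.β (slMk p) (isAffine_image π ξ hξ) (PM.lam φ (isAffine_image π ξ hξ) p m)).at' (self π ξ) hξ

theorem om_nat {ξ' ξ : 𝒳.obj} (k : ξ' ⟶ ξ) (hξ' : IsAffine (sch 𝒳 ξ')) (hξ : IsAffine (sch 𝒳 ξ))
    (p : π.obj ξ ⟶ A.x₀) {p' : π.obj ξ' ⟶ A.x₀} (hp : π.map k ≫ p = p') (m : Sec F.obj (π.obj ξ))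
    (e : Sec E.obj ξ) :
    PM.om φ hξ' p' (F.obj.mapTop (π.map k) m) (E.obj.mapTop k e) = M.obj.mapTop k (PM.om φ hξ p m e) := by
  let j : (fibComp π (π.map k)).obj (self π ξ') ⟶ self π ξ := CostructuredArrow.homMk k (by
    show π.map k ≫ 𝟙 _ = 𝟙 _ ≫ π.map k
    rw [Category.comp_id, Category.id_comp])
  let k₀ : slMk p' ⟶ slMk p := slHom (π.map k) hp
  unfold om
  rw [← PM.lam_map φ (isAffine_image π ξ' hξ') (isAffine_image π ξ hξ) (π.map k) hp m,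
    PM.he.β_nat k₀ (isAffine_image π ξ' hξ') (isAffine_image π ξ hξ)]
  generalize PM.he.β (slMk p) _ (PM.lam φ _ p m) = θ
  exact ((congrArg (θ.at' ((fibComp π (π.map k)).obj (self π ξ')) hξ')
    (mapTop_fibFst π (π.obj ξ) E.obj j e)).symm.trans (θ.isExt j hξ' hξ e)).trans
      (mapTop_fibFst π (π.obj ξ) M.obj j _)

theorem om_lift {ξ : 𝒳.obj} (hξ : IsAffine (sch 𝒳 ξ)) (p q : π.obj ξ ⟶ A.x₀) (t : π.obj ξ ⟶ A.ov)
    (ha : t ≫ A.a = p) (hb : t ≫ A.b = q) (m : Sec F.obj (π.obj ξ)) : PM.om φ hξ p m = PM.om φ hξ q m := by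
  unfold om
  rw [← PM.lam_T φ (isAffine_image π ξ hξ) p q m, PM.T_ev (isAffine_image π ξ hξ) p q t ha hb]

theorem om_indep (hX : FibCat.IsFibGrpd 𝒳.p) {ξ : 𝒳.obj} (hξ : IsAffine (sch 𝒳 ξ)) (p q : π.obj ξ ⟶ A.x₀)
    (m : Sec F.obj (π.obj ξ)) (e : Sec E.obj ξ) : PM.om φ hξ p m e = PM.om φ hξ q m e := by
  obtain ⟨𝒰, -, h𝒰⟩ := A.pairs (π.obj ξ) (isAffine_image π ξ hξ) p q
  obtain ⟨𝒲, -, h𝒲⟩ := exists_cover_over hX PM.fib hξ 𝒰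
  haveI := hξ
  refine 𝒲.ext M.property.1 M.property.2 _ _ fun n => ?_
  obtain ⟨l, t, ht⟩ := h𝒲 n
  obtain ⟨s, ha, hb⟩ := h𝒰 l
  rw [← PM.om_nat φ (𝒲.map n) (𝒲.affine n) hξ p rfl, ← PM.om_nat φ (𝒲.map n) (𝒲.affine n) hξ q rfl,
    PM.om_lift φ (𝒲.affine n) _ _ (t ≫ s) (by rw [Category.assoc, ha, ← Category.assoc, ht])
      (by rw [Category.assoc, hb, ← Category.assoc, ht])]

/-- A value of the pairing. -/
def IsValB {ξ : 𝒳.obj} (m : Sec F.obj (π.obj ξ)) (e : Sec E.obj ξ) (n : Sec M.obj ξ) : Prop :=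
  ∀ (ξ' : 𝒳.obj) (hξ' : IsAffine (sch 𝒳 ξ')) (k : ξ' ⟶ ξ) (p : π.obj ξ' ⟶ A.x₀),
    M.obj.mapTop k n = PM.om φ hξ' p (F.obj.mapTop (π.map k) m) (E.obj.mapTop k e)

include PM in
theorem exists_lift_cover (hX : FibCat.IsFibGrpd 𝒳.p) {ξ : 𝒳.obj} (hξ : IsAffine (sch 𝒳 ξ)) :
    ∃ 𝒲 : Cover ξ, Finite 𝒲.ι ∧ ∀ n, Nonempty (π.obj (𝒲.obj n) ⟶ A.x₀) := by
  obtain ⟨𝒰, hfin, hl⟩ := A.loc (π.obj ξ) (isAffine_image π ξ hξ)
  obtain ⟨𝒲, hf, h𝒲⟩ := exists_cover_over hX PM.fib hξ 𝒰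
  exact ⟨𝒲, hf hfin, fun n => ⟨(h𝒲 n).choose_spec.choose ≫ (hl _).some⟩⟩

theorem isValB_unique (hX : FibCat.IsFibGrpd 𝒳.p) {ξ : 𝒳.obj} (hξ : IsAffine (sch 𝒳 ξ))
    {m : Sec F.obj (π.obj ξ)} {e : Sec E.obj ξ} {n n' : Sec M.obj ξ} (h : PM.IsValB φ m e n)
    (h' : PM.IsValB φ m e n') : n = n' := by
  obtain ⟨𝒲, -, hp⟩ := PM.exists_lift_cover hX hξ
  haveI := hξ
  refine 𝒲.ext M.property.1 M.property.2 _ _ fun i => ?_
  rw [h _ (𝒲.affine i) (𝒲.map i) (hp i).some, h' _ (𝒲.affine i) (𝒲.map i) (hp i).some]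

theorem exists_isValB (hX : FibCat.IsFibGrpd 𝒳.p) {ξ : 𝒳.obj} (hξ : IsAffine (sch 𝒳 ξ))
    (m : Sec F.obj (π.obj ξ)) (e : Sec E.obj ξ) : ∃ n, PM.IsValB φ m e n := by
  obtain ⟨𝒲, hfin, hp⟩ := PM.exists_lift_cover hX hξ
  haveI := hξ
  haveI := hfin
  obtain ⟨n, hn⟩ := 𝒲.exists_glue hX M.property.1 M.property.2
    (fun i => PM.om φ (𝒲.affine i) (hp i).some (F.obj.mapTop (π.map (𝒲.map i)) m) (E.obj.mapTop (𝒲.map i) e))
    fun z hz k l a b hab => by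
      rw [← PM.om_nat φ a hz (𝒲.affine k) (hp k).some rfl, ← PM.om_nat φ b hz (𝒲.affine l) (hp l).some rfl,
        ← Mod.mapTop_comp, ← Mod.mapTop_comp, ← Mod.mapTop_comp, ← Mod.mapTop_comp, ← π.toFunctor.map_comp,
        ← π.toFunctor.map_comp, hab]
      exact PM.om_indep φ hX hz _ _ _ _
  refine ⟨n, fun ξ' hξ' k p => ?_⟩
  haveI := hξ'
  obtain ⟨𝒴, -, h𝒴⟩ := 𝒲.exists_pullback hX k
  refine 𝒴.ext M.property.1 M.property.2 _ _ fun j => ?_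
  obtain ⟨i, c, hc⟩ := h𝒴 j
  rw [← Mod.mapTop_comp, ← hc, Mod.mapTop_comp, hn i, ← PM.om_nat φ c (𝒴.affine j) (𝒲.affine i) (hp i).some rfl,
    ← PM.om_nat φ (𝒴.map j) (𝒴.affine j) hξ' p rfl, ← Mod.mapTop_comp, ← Mod.mapTop_comp, ← Mod.mapTop_comp,
    ← Mod.mapTop_comp, ← π.toFunctor.map_comp, ← π.toFunctor.map_comp, hc]
  exact PM.om_indep φ hX (𝒴.affine j) _ _ _ _

theorem exists_biFam (hX : FibCat.IsFibGrpd 𝒳.p) :
    ∃ b : BiFam π F E M, ∀ (ξ : 𝒳.obj) (hξ : IsAffine (sch 𝒳 ξ)) (p : π.obj ξ ⟶ A.x₀) m e,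
      b.B ξ hξ m e = PM.om φ hξ p m e := by
  choose B hB using fun (ξ : 𝒳.obj) (hξ : IsAffine (sch 𝒳 ξ)) m e => PM.exists_isValB φ hX hξ m e
  refine ⟨⟨B, fun ξ hξ m m' e => ?_, fun ξ hξ m e e' => ?_, fun ξ hξ r m e => ?_, fun ξ hξ m r e => ?_,
    fun {ξ' ξ} k hξ' hξ m e => ?_⟩, fun ξ hξ p m e => ?_⟩
  · refine PM.isValB_unique φ hX hξ (hB ξ hξ _ _) fun ξ' hξ' k p => ?_
    rw [Mod.mapTop_add, Mod.mapTop_add, hB ξ hξ m e ξ' hξ' k p, hB ξ hξ m' e ξ' hξ' k p]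
    unfold om
    rw [lam_add, map_add]
    rfl
  · refine PM.isValB_unique φ hX hξ (hB ξ hξ _ _) fun ξ' hξ' k p => ?_
    rw [Mod.mapTop_add, Mod.mapTop_add, map_add, hB ξ hξ m e ξ' hξ' k p, hB ξ hξ m e' ξ' hξ' k p]
  · refine PM.isValB_unique φ hX hξ (hB ξ hξ _ _) fun ξ' hξ' k p => ?_
    rw [Mod.mapTop_smul, Mod.mapTop_smul, hB ξ hξ m e ξ' hξ' k p]
    unfold om
    rw [lam_smul, PM.he.β_smul, HomF.smul_at]
    refine congrArg (fun a : Fn ξ' => a • _) ?_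
    show fnMap k ((toBase (self π ξ)).appTop.hom r) = (toBase (self π ξ')).appTop.hom (fnMap (π.map k) r)
    let j : (fibComp π (π.map k)).obj (self π ξ') ⟶ self π ξ := CostructuredArrow.homMk k (by
      show π.map k ≫ 𝟙 _ = 𝟙 _ ≫ π.map k
      rw [Category.comp_id, Category.id_comp])
    have h := fnMap_toBase j r
    rw [toBase_fibComp, Scheme.Hom.comp_appTop] at h
    exact h
  · refine PM.isValB_unique φ hX hξ (hB ξ hξ _ _) fun ξ' hξ' k p => ?_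
    rw [Mod.mapTop_smul, Mod.mapTop_smul, map_smul, hB ξ hξ m e ξ' hξ' k p]
  · refine PM.isValB_unique φ hX hξ' (hB ξ' hξ' _ _) fun ξ'' hξ'' k' p => ?_
    rw [← Mod.mapTop_comp, ← Mod.mapTop_comp, ← Mod.mapTop_comp, ← π.toFunctor.map_comp,
      hB ξ hξ m e ξ'' hξ'' (k' ≫ k) p]
  · have h := hB ξ hξ m e ξ hξ (𝟙 ξ) p
    rw [π.toFunctor.map_id, Mod.mapTop_id, Mod.mapTop_id, Mod.mapTop_id] at h
    exact h

end HomPB

end Groth.L23.RelGen
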