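import Groth.Agent.L16.AffineBC.Pullback
import Groth.Agent.L16.QcqsPush
import Groth.Agent.L17.BC.Sheaf
import Groth.Agent.L18.SymPowBaseChange

/-!
# Affine base change for direct images of quasi-coherent modules
-/

universe u

open CategoryTheory CategoryTheory.Limits AlgebraicGeometry Opposite TopologicalSpace
open scoped TensorProduct

set_option autoImplicit false
set_option backward.isDefEq.respectTransparency false
set_option linter.style.haveILetI false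

noncomputable section

namespace Groth.L23.RelGen

open Groth.L18.Frame (rs ro rs_rs rs_self rs_smul pull)
open Groth.L17.BC.PullSec (app_rs)

theorem ro_app_eq {X Y : Scheme.{u}} (f : X ⟶ Y) (V : Y.Opens) (r : Γ(Y, V)) {W : X.Opens} (e : W ≤ f ⁻¹ᵁ V) :
    ro e (f.app V r) = f.appLE V W e r := rfl

/-- A map between sections linked by pushouts of functions is a base change. -/
theorem bijective_of_cancel {A B A' B' N Q P : Type u} [CommRing A] [CommRing B] [CommRing A'] [CommRing B']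
    [Algebra A B] [Algebra A A'] [Algebra A B'] [Algebra A' B'] [Algebra B B'] [IsScalarTower A B B']
    [IsScalarTower A A' B'] [Algebra.IsPushout A B A' B'] [AddCommGroup N] [Module A N] [Module A' N]
    [IsScalarTower A A' N] [AddCommGroup Q] [AddCommGroup P] [Module B' P]
    (e : B ⊗[A] N ≃+ Q) (e' : B' ⊗[A'] N ≃+ P) (a : Q →+ P)
    (h : ∀ b m, a (e (b ⊗ₜ m)) = e' (algebraMap B B' b ⊗ₜ m)) : Function.Bijective a := by
  let c := Algebra.IsPushout.cancelBaseChange A B A' B' N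
  have key : ∀ x, a (e x) = e' (c.symm x) := by
    intro x
    induction x using TensorProduct.induction_on with
    | zero => simp
    | add x y hx hy => simp only [map_add, hx, hy]
    | tmul b m => rw [h, Algebra.IsPushout.cancelBaseChange_symm_tmul]
  have : Function.Bijective (fun x => a (e x)) := by
    rw [funext key]; exact e'.bijective.comp c.symm.bijective
  exact (Function.Bijective.of_comp_iff a e.bijective).1 this

variable {X Y X' Y' : Scheme.{u}} {h : X' ⟶ X} {p' : X' ⟶ Y'} {p : X ⟶ Y} {g : Y' ⟶ Y}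

set_option maxHeartbeats 800000 in
/-- Affine base change for direct images of quasi-coherent modules. -/
theorem isIso_adjunct_push (H : IsPullback h p' p g) [IsAffineHom p] (M : X.Modules) [Coh.IsQCoh M]
    (M' : X'.Modules) (c : M ⟶ (Scheme.Modules.pushforward h).obj M')
    [IsIso (((Scheme.Modules.pullbackPushforwardAdjunction h).homEquiv M M').symm c)]
    (d : (Scheme.Modules.pushforward p).obj M ⟶
      (Scheme.Modules.pushforward g).obj ((Scheme.Modules.pushforward p').obj M'))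
    (e : ∀ U, p' ⁻¹ᵁ (g ⁻¹ᵁ U) ≤ h ⁻¹ᵁ (p ⁻¹ᵁ U))
    (hd : ∀ (U : Y.Opens) (m : Γ((Scheme.Modules.pushforward p).obj M, U)),
      d.app U m = rs M' (e U) (c.app (p ⁻¹ᵁ U) m)) :
    IsIso (((Scheme.Modules.pullbackPushforwardAdjunction g).homEquiv _ _).symm d) := by
  let N := (Scheme.Modules.pushforward p).obj M
  let a := ((Scheme.Modules.pullbackPushforwardAdjunction g).homEquiv _ _).symm d
  let c₀ := ((Scheme.Modules.pullbackPushforwardAdjunction h).homEquiv M M').symm c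
  haveI : Coh.IsQCoh N := Groth.L16.QcqsPush.isQCoh_push M p
  have happ : ∀ (U : Y.Opens) (m : Γ(N, U)), a.app (g ⁻¹ᵁ U) (pull g N U m) = d.app U m := fun U m =>
    congr($(congrArg (fun k => Scheme.Modules.Hom.app k U)
      (((Scheme.Modules.pullbackPushforwardAdjunction g).homEquiv_unit _ _ a).symm.trans
        (Equiv.apply_symm_apply _ d))) m)
  have hc : ∀ (U : X.Opens) (m : Γ(M, U)), c₀.app (h ⁻¹ᵁ U) (pull h M U m) = c.app U m := fun U m =>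
    congr($(congrArg (fun k => Scheme.Modules.Hom.app k U)
      (((Scheme.Modules.pullbackPushforwardAdjunction h).homEquiv_unit _ _ c₀).symm.trans
        (Equiv.apply_symm_apply _ c))) m)
  refine Groth.L17.BC.Classes.isIso_of_affine a fun y => ?_
  obtain ⟨_, ⟨U, hU, rfl⟩, hyU, -⟩ :=
    Y.isBasis_affineOpens.exists_subset_of_mem_open (Set.mem_univ (g y)) isOpen_univ
  refine ⟨g ⁻¹ᵁ U, hyU, fun V hV hVa => ?_⟩
  have eX : p' ⁻¹ᵁ V ≤ h ⁻¹ᵁ (p ⁻¹ᵁ U) := (p'.preimage_mono hV).trans (e U)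
  have hW : p' ⁻¹ᵁ V = h ⁻¹ᵁ (p ⁻¹ᵁ U) ⊓ p' ⁻¹ᵁ V := (inf_eq_right.2 eX).symm
  obtain ⟨hWa, hpo⟩ := Groth.L18.SymPow.isPushout_appLE H hU hVa (hU.preimage p) hV le_rfl hW
  letI : Algebra Γ(Y, U) Γ(Y', V) := (g.appLE U V hV).hom.toAlgebra
  letI : Algebra Γ(Y, U) Γ(X, p ⁻¹ᵁ U) := (p.appLE U (p ⁻¹ᵁ U) le_rfl).hom.toAlgebra
  letI : Algebra Γ(X, p ⁻¹ᵁ U) Γ(X', p' ⁻¹ᵁ V) := (h.appLE (p ⁻¹ᵁ U) (p' ⁻¹ᵁ V) eX).hom.toAlgebra
  letI : Algebra Γ(Y', V) Γ(X', p' ⁻¹ᵁ V) := (p'.appLE V (p' ⁻¹ᵁ V) le_rfl).hom.toAlgebra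
  letI : Algebra Γ(Y, U) Γ(X', p' ⁻¹ᵁ V) :=
    ((p'.appLE V (p' ⁻¹ᵁ V) le_rfl).hom.comp (g.appLE U V hV).hom).toAlgebra
  haveI : IsScalarTower Γ(Y, U) Γ(Y', V) Γ(X', p' ⁻¹ᵁ V) := IsScalarTower.of_algebraMap_eq fun _ => rfl
  haveI : IsScalarTower Γ(Y, U) Γ(X, p ⁻¹ᵁ U) Γ(X', p' ⁻¹ᵁ V) :=
    IsScalarTower.of_algebraMap_eq fun r => (ConcreteCategory.congr_hom hpo.w r).symm
  haveI : Algebra.IsPushout Γ(Y, U) Γ(Y', V) Γ(X, p ⁻¹ᵁ U) Γ(X', p' ⁻¹ᵁ V) :=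
    CommRingCat.isPushout_iff_isPushout.1 hpo.flip
  letI : Module Γ(X, p ⁻¹ᵁ U) Γ(N, U) := (inferInstance : Module Γ(X, p ⁻¹ᵁ U) Γ(M, p ⁻¹ᵁ U))
  haveI : IsScalarTower Γ(Y, U) Γ(X, p ⁻¹ᵁ U) Γ(N, U) := IsScalarTower.of_algebraMap_smul fun r m => by
    show p.appLE U (p ⁻¹ᵁ U) le_rfl r • m = r • m
    rw [← Scheme.Hom.app_eq_appLE]
    rfl
  letI : Module Γ(Y, U) Γ((Scheme.Modules.pullback g).obj N, V) := Module.compHom _ (g.appLE U V hV).hom
  haveI : IsScalarTower Γ(Y, U) Γ(Y', V) Γ((Scheme.Modules.pullback g).obj N, V) :=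
    IsScalarTower.of_algebraMap_smul fun _ _ => rfl
  have hpr := Groth.L16.AffineBC.isBaseChange_pull g N hU hVa hV
  letI : Module Γ(X, p ⁻¹ᵁ U) Γ((Scheme.Modules.pullback h).obj M, p' ⁻¹ᵁ V) :=
    Module.compHom _ (h.appLE (p ⁻¹ᵁ U) (p' ⁻¹ᵁ V) eX).hom
  haveI : IsScalarTower Γ(X, p ⁻¹ᵁ U) Γ(X', p' ⁻¹ᵁ V) Γ((Scheme.Modules.pullback h).obj M, p' ⁻¹ᵁ V) :=
    IsScalarTower.of_algebraMap_smul fun _ _ => rfl
  have hbc := Groth.L16.AffineBC.isBaseChange_pull h M (hU.preimage p) hWa eX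
  let e' : Γ((Scheme.Modules.pullback h).obj M, p' ⁻¹ᵁ V) ≃+ Γ(M', p' ⁻¹ᵁ V) :=
    AddEquiv.ofBijective (c₀.app (p' ⁻¹ᵁ V)).hom
      ((ConcreteCategory.isIso_iff_bijective _).1 (Scheme.Modules.Hom.isIso_iff_isIso_app.1 inferInstance _))
  refine bijective_of_cancel (A := Γ(Y, U)) (B := Γ(Y', V)) (A' := Γ(X, p ⁻¹ᵁ U)) (B' := Γ(X', p' ⁻¹ᵁ V))
    (N := Γ(N, U)) (P := Γ(M', p' ⁻¹ᵁ V)) hpr.equiv.toAddEquiv (hbc.equiv.toAddEquiv.trans e')
    (a.app V).hom fun b m => ?_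
  show a.app V (hpr.equiv (b ⊗ₜ m)) = c₀.app (p' ⁻¹ᵁ V) (hbc.equiv (_ ⊗ₜ m))
  rw [hpr.equiv_tmul, hbc.equiv_tmul, Scheme.Modules.Hom.app_smul, Scheme.Modules.Hom.app_smul]
  show p'.app V b • (show Γ(M', p' ⁻¹ᵁ V) from a.app V (rs _ hV (pull g N U m))) =
    p'.appLE V (p' ⁻¹ᵁ V) le_rfl b • c₀.app (p' ⁻¹ᵁ V) (rs _ eX (pull h M (p ⁻¹ᵁ U) m))
  rw [app_rs a, happ, app_rs c₀, hc, hd, ← Scheme.Hom.app_eq_appLE]
  congr 1
  exact rs_rs M' (e U) (p'.preimage_mono hV) _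

end Groth.L23.RelGen
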