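import Groth.Agent.L23.RelGen.FibCat
import Groth.Agent.L23.RelGen.Transfer
import Groth.Agent.L23.RelGen.PushScheme

/-!
# Direct image of modules along a change of the object of the target
-/

universe t w' v' w v u

open CategoryTheory CategoryTheory.Limits AlgebraicGeometry Opposite TopologicalSpace

set_option backward.isDefEq.respectTransparency false
set_option backward.isDefEq.respectTransparency.types false
set_option linter.style.haveILetI false
set_option linter.unusedSectionVars false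

noncomputable section

namespace Groth.L23.RelGen

open StMod
open Groth.L18.Frame (rs ro rs_rs rs_self rs_smul pull)
open Groth.L17.BC.PullSec (app_rs)

/-- The transport of a map of modules to direct images along two names of a composite. -/
def pushSquare {X Y X' Y' : Scheme.{u}} {h : X' ⟶ X} {p' : X' ⟶ Y'} {p : X ⟶ Y} {g : Y' ⟶ Y} (e : h ≫ p = p' ≫ g)
    {M : X.Modules} {M' : X'.Modules} (c : M ⟶ (Scheme.Modules.pushforward h).obj M') :
    (Scheme.Modules.pushforward p).obj M ⟶ (Scheme.Modules.pushforward g).obj ((Scheme.Modules.pushforward p').obj M') :=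
  (Scheme.Modules.pushforward p).map c ≫ (Scheme.Modules.pushforwardComp h p).hom.app M' ≫
    (Scheme.Modules.pushforwardCongr e).hom.app M' ≫ (Scheme.Modules.pushforwardComp p' g).inv.app M'

theorem pushSquare_app {X Y X' Y' : Scheme.{u}} {h : X' ⟶ X} {p' : X' ⟶ Y'} {p : X ⟶ Y} {g : Y' ⟶ Y} (e : h ≫ p = p' ≫ g)
    {M : X.Modules} {M' : X'.Modules} (c : M ⟶ (Scheme.Modules.pushforward h).obj M') (U : Y.Opens)
    (le : p' ⁻¹ᵁ (g ⁻¹ᵁ U) ≤ h ⁻¹ᵁ (p ⁻¹ᵁ U)) (m : Γ((Scheme.Modules.pushforward p).obj M, U)) :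
    (pushSquare e c).app U m = rs M' le (c.app (p ⁻¹ᵁ U) m) := by
  simp only [pushSquare, Scheme.Modules.Hom.comp_app, Scheme.Modules.pushforward_map_app,
    Scheme.Modules.pushforwardComp_hom_app_app, Scheme.Modules.pushforwardComp_inv_app_app,
    Scheme.Modules.pushforwardCongr_hom_app_app, Category.comp_id]
  rfl

variable {S : Scheme.{u}} {𝒳 : BasedCategory.{v, w} (Over S)} {𝒴 : BasedCategory.{v', w'} (Over S)}

/-- Chosen base changes along a morphism of the target. -/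
structure BcData (f : 𝒳 ⥤ᵇ 𝒴) {η' η : 𝒴.obj} (β : η' ⟶ η) where
  pt : (fibCat f η).obj → (fibCat f η').obj
  q : ∀ x, (fibComp f β).obj (pt x) ⟶ x
  isPullback : ∀ x, IsPullback (bmap (fibCat f η) (q x)) (toBase (pt x)) (toBase x) (bmap 𝒴 β)
  lift : ∀ {x} {y : (fibCat f η').obj} (_ : (fibComp f β).obj y ⟶ x), y ⟶ pt x
  lift_q : ∀ {x} {y : (fibCat f η').obj} (s : (fibComp f β).obj y ⟶ x), (fibComp f β).map (lift s) ≫ q x = s
  uniq : ∀ {x} {y : (fibCat f η').obj} (t t' : y ⟶ pt x),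
    (fibComp f β).map t ≫ q x = (fibComp f β).map t' ≫ q x → t = t'

theorem nonempty_bcData (h : FibCat.IsFibGrpd 𝒳.p) (h' : FibCat.IsFibGrpd 𝒴.p) (f : 𝒳 ⥤ᵇ 𝒴) {η' η : 𝒴.obj}
    (β : η' ⟶ η) : Nonempty (BcData f β) := by
  choose pt q H l using fun x => exists_bc h h' (f := f) β x
  choose L hL using l
  refine ⟨⟨pt, q, H, fun {x y} s => L x y s, fun {x y} s => hL x y s, fun {x y} t t' e => ?_⟩⟩
  have h₁ : t.left ≫ (q x).left = t'.left ≫ (q x).left := congrArg CommaMorphism.left e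
  have hb : bmap (fibCat f η') t = bmap (fibCat f η') t' := by
    refine (H x).hom_ext ?_ ?_
    · show bmap 𝒳 t.left ≫ bmap 𝒳 (q x).left = bmap 𝒳 t'.left ≫ bmap 𝒳 (q x).left
      rw [← bmap_comp, ← bmap_comp, h₁]
    · rw [bmap_toBase, bmap_toBase]
  refine CostructuredArrow.hom_ext _ _ ?_
  exact (existsUnique_factor h (t.left ≫ (q x).left) (q x).left (𝒳.p.map t.left) (Functor.map_comp _ _ _).symm).unique
    ⟨rfl, rfl⟩ ⟨(Over.OverMorphism.ext hb).symm, h₁.symm⟩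

namespace BcData

variable {f : 𝒳 ⥤ᵇ 𝒴} {η' η : 𝒴.obj} {β : η' ⟶ η} (D : BcData f β)

/-- The scheme map of a base change. -/
abbrev qb (x : (fibCat f η).obj) : sch (fibCat f η') (D.pt x) ⟶ sch (fibCat f η) x := bmap (fibCat f η) (D.q x)

/-- Base change of a morphism. -/
def ext {x₁ x : (fibCat f η).obj} (φ : x₁ ⟶ x) : D.pt x₁ ⟶ D.pt x := D.lift (D.q x₁ ≫ φ)

theorem ext_q {x₁ x : (fibCat f η).obj} (φ : x₁ ⟶ x) :
    (fibComp f β).map (D.ext φ) ≫ D.q x = D.q x₁ ≫ φ := D.lift_q _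

theorem ext_id (x : (fibCat f η).obj) : D.ext (𝟙 x) = 𝟙 (D.pt x) :=
  D.uniq _ _ (by rw [ext_q, (fibComp f β).toFunctor.map_id, Category.id_comp, Category.comp_id])

theorem ext_comp {x₂ x₁ x : (fibCat f η).obj} (ψ : x₂ ⟶ x₁) (φ : x₁ ⟶ x) :
    D.ext (ψ ≫ φ) = D.ext ψ ≫ D.ext φ :=
  D.uniq _ _ (by
    rw [ext_q, (fibComp f β).toFunctor.map_comp, Category.assoc, ext_q, ← Category.assoc, ← Category.assoc,
      ext_q])

theorem bmap_ext {x₁ x : (fibCat f η).obj} (φ : x₁ ⟶ x) {g : sch (fibCat f η) x₁ ⟶ sch (fibCat f η) x}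
    (hg : bmap (fibCat f η) φ = g) : bmap (fibCat f η') (D.ext φ) ≫ D.qb x = D.qb x₁ ≫ g := by
  subst hg
  show bmap (fibCat f η) ((fibComp f β).map (D.ext φ)) ≫ _ = _
  rw [← bmap_comp, ext_q, bmap_comp]

theorem le_ext {x₁ x : (fibCat f η).obj} (φ : x₁ ⟶ x) {g : sch (fibCat f η) x₁ ⟶ sch (fibCat f η) x}
    (hg : bmap (fibCat f η) φ = g) (U : (sch (fibCat f η) x).Opens) :
    D.qb x₁ ⁻¹ᵁ (g ⁻¹ᵁ U) ≤ bmap (fibCat f η') (D.ext φ) ⁻¹ᵁ (D.qb x ⁻¹ᵁ U) := by
  rw [← Scheme.Hom.comp_preimage, ← Scheme.Hom.comp_preimage, D.bmap_ext φ hg]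

theorem map_app_congr (M : Mod (fibCat f η')) {y' y : (fibCat f η').obj} {t t' : y' ⟶ y} (e : t = t')
    {g g' : sch (fibCat f η') y' ⟶ sch (fibCat f η') y} (hg : bmap (fibCat f η') t = g) (hg' : bmap (fibCat f η') t' = g')
    {U : (sch (fibCat f η') y).Opens} {W : (sch (fibCat f η') y').Opens} (le : W ≤ g ⁻¹ᵁ U) (le' : W ≤ g' ⁻¹ᵁ U) (m : Γ(M.obj y, U)) :
    rs (M.obj y') le ((M.map t hg).app U m) = rs (M.obj y') le' ((M.map t' hg').app U m) := by
  subst e; subst hg; subst hg'; rfl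

/-- Direct image of a module. -/
def push (M : Mod (fibCat f η')) : Mod (fibCat f η) where
  obj x := (Scheme.Modules.pushforward (D.qb x)).obj (M.obj (D.pt x))
  map φ _ hg := pushSquare (D.bmap_ext φ hg) (M.map (D.ext φ) rfl)
  map_id x := by
    refine Scheme.Modules.hom_ext _ _ fun U => ?_
    ext m
    simp only [Scheme.Modules.Hom.comp_app, Scheme.Modules.pushforwardId_hom_app_app, Category.comp_id]
    refine (pushSquare_app _ _ U (D.le_ext (𝟙 x) (bmap_id x) U) m).trans ?_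
    have h₁ := map_app_congr M (D.ext_id x) rfl (bmap_id _) (D.le_ext (𝟙 x) (bmap_id x) U) le_rfl m
    refine h₁.trans ?_
    rw [M.map_id_app]
    exact rs_self _ _ _
  map_comp {x₂ x₁ x} ψ φ h g hh hg := by
    refine Scheme.Modules.hom_ext _ _ fun U => ?_
    ext m
    simp only [Scheme.Modules.Hom.comp_app, Scheme.Modules.pushforwardComp_hom_app_app,
      Scheme.Modules.pushforward_map_app]
    rw [pushSquare_app _ _ U (D.le_ext (ψ ≫ φ) (by rw [bmap_comp, hh, hg]) U)]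
    show _ = (pushSquare (D.bmap_ext ψ hh) _).app (g ⁻¹ᵁ U) ((pushSquare (D.bmap_ext φ hg) _).app U m)
    rw [pushSquare_app _ _ (g ⁻¹ᵁ U) (D.le_ext ψ hh _), pushSquare_app _ _ U (D.le_ext φ hg U), app_rs]
    have le₂ : D.qb x₂ ⁻¹ᵁ (h ⁻¹ᵁ (g ⁻¹ᵁ U)) ≤
        (bmap (fibCat f η') (D.ext ψ) ≫ bmap (fibCat f η') (D.ext φ)) ⁻¹ᵁ (D.qb x ⁻¹ᵁ U) :=
      (D.le_ext ψ hh _).trans ((bmap (fibCat f η') (D.ext ψ)).preimage_mono (D.le_ext φ hg U))
    have h₁ := map_app_congr M (D.ext_comp ψ φ) rfl (bmap_comp _ _)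
      (D.le_ext (ψ ≫ φ) (g := h ≫ g) (by rw [bmap_comp, hh, hg]) U) le₂ m
    refine h₁.trans ?_
    rw [M.map_comp_app _ _ rfl rfl]
    exact (rs_rs _ _ _ _).symm

theorem push_map_app (M : Mod (fibCat f η')) {x₁ x : (fibCat f η).obj} (φ : x₁ ⟶ x)
    {g : sch (fibCat f η) x₁ ⟶ sch (fibCat f η) x} (hg : bmap (fibCat f η) φ = g) (U : (sch (fibCat f η) x).Opens)
    (m : Γ((D.push M).obj x, U)) :
    ((D.push M).map φ hg).app U m =
      rs (M.obj (D.pt x₁)) (D.le_ext φ hg U) ((M.map (D.ext φ) rfl).app (D.qb x ⁻¹ᵁ U) m) :=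
  pushSquare_app _ _ U _ m

theorem mapTop_push (M : Mod (fibCat f η')) {x₁ x : (fibCat f η).obj} (φ : x₁ ⟶ x) (m : Sec M (D.pt x)) :
    (D.push M).mapTop φ m = M.mapTop (D.ext φ) m :=
  (D.push_map_app M φ rfl ⊤ m).trans (rs_self _ _ _)

/-- Direct image of a morphism. -/
def pushMap {M N : Mod (fibCat f η')} (u : M ⟶ N) : D.push M ⟶ D.push N where
  app x := (Scheme.Modules.pushforward (D.qb x)).map (u.app (D.pt x))
  comm {x₁ x} φ g hg := by
    refine Scheme.Modules.hom_ext _ _ fun U => ?_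
    ext m
    simp only [Scheme.Modules.Hom.comp_app]
    show (u.app (D.pt x₁)).app (D.qb x₁ ⁻¹ᵁ (g ⁻¹ᵁ U)) (((D.push M).map φ hg).app U m) =
      ((D.push N).map φ hg).app U ((u.app (D.pt x)).app (D.qb x ⁻¹ᵁ U) m)
    rw [D.push_map_app M φ hg, D.push_map_app N φ hg, app_rs]
    refine congrArg _ ?_
    exact congrArg (fun k => Scheme.Modules.Hom.app k (D.qb x ⁻¹ᵁ U) m) (u.comm (D.ext φ) rfl)

variable [IsAffineHom (bmap 𝒴 β)]

include D in
theorem isAffineHom_qb (x : (fibCat f η).obj) : IsAffineHom (D.qb x) :=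
  MorphismProperty.of_isPullback (D.isPullback x).flip ‹IsAffineHom (bmap 𝒴 β)›

theorem isQCoh_push {M : Mod (fibCat f η')} (hM : M.IsCartesian) (hq : M.IsLocQCoh) :
    StMod.isQCoh (fibCat f η) (D.push M) := by
  refine ⟨fun x₁ x φ g hg => ?_, fun x => ?_⟩
  · haveI := D.isAffineHom_qb x
    haveI := hq (D.pt x)
    haveI := hM (D.ext φ) rfl
    have hs : IsPullback (bmap (fibCat f η') (D.ext φ)) (D.qb x₁) (D.qb x) g := by
      refine IsPullback.of_right ?_ (D.bmap_ext φ hg) (D.isPullback x).flip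
      have h₁ := (D.isPullback x₁).flip
      rwa [← bmap_toBase (D.ext φ), show toBase x₁ = g ≫ toBase x from by rw [← hg, bmap_toBase]] at h₁
    exact isIso_adjunct_push hs (M.obj (D.pt x)) (M.obj (D.pt x₁)) (M.map (D.ext φ) rfl)
      ((D.push M).map φ hg) (D.le_ext φ hg) (D.push_map_app M φ hg)
  · haveI := D.isAffineHom_qb x
    haveI := hq (D.pt x)
    exact Groth.L16.QcqsPush.isQCoh_push (M.obj (D.pt x)) (D.qb x)

end BcData


end Groth.L23.RelGen
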