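import Groth.Agent.L23.RelGen.GenEquiv

/-!
# Relative generation along isomorphic functors
-/

universe t w' v' w v u

open CategoryTheory CategoryTheory.Limits AlgebraicGeometry Opposite TopologicalSpace

set_option backward.isDefEq.respectTransparency false
set_option backward.isDefEq.respectTransparency.types false
set_option linter.style.haveILetI false
set_option linter.unusedSectionVars false
set_option linter.unusedVariables false

noncomputable section

namespace Groth.L23.RelGen

open StMod

variable {S : Scheme.{u}} {𝒳 : BasedCategory.{v, w} (Over S)} {𝒴 : BasedCategory.{v', w'} (Over S)}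
  {π π' : 𝒳 ⥤ᵇ 𝒴}

/-- Categories over an object along isomorphic functors. -/
def fibCongr (e : π.toFunctor ≅ π'.toFunctor) (η : 𝒴.obj) : fibCat π η ⥤ᵇ fibCat π' η where
  toFunctor :=
    { obj := fun x => CostructuredArrow.mk (Y := x.left) (e.inv.app x.left ≫ x.hom)
      map := fun {x' x} φ => CostructuredArrow.homMk φ.left (by
        show π'.map φ.left ≫ e.inv.app x.left ≫ x.hom = e.inv.app x'.left ≫ x'.hom
        rw [← Category.assoc, e.inv.naturality, Category.assoc, CostructuredArrow.w φ])
      map_id := fun x => CostructuredArrow.hom_ext _ _ rfl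
      map_comp := fun φ ψ => CostructuredArrow.hom_ext _ _ rfl }
  w := rfl

theorem fibCongr_full (e : π.toFunctor ≅ π'.toFunctor) (η : 𝒴.obj) : (fibCongr e η).toFunctor.Full :=
  ⟨fun {x' x} t => ⟨CostructuredArrow.homMk t.left (by
    rw [← cancel_epi (e.inv.app x'.left), ← Category.assoc, ← e.inv.naturality, Category.assoc]
    exact CostructuredArrow.w t), CostructuredArrow.hom_ext _ _ rfl⟩⟩

theorem fibCongr_essSurj (e : π.toFunctor ≅ π'.toFunctor) (η : 𝒴.obj) : (fibCongr e η).toFunctor.EssSurj :=
  ⟨fun x => ⟨CostructuredArrow.mk (Y := x.left) (e.hom.app x.left ≫ x.hom),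
    ⟨CostructuredArrow.isoMk (Iso.refl _) (by
      show π'.map (𝟙 x.left) ≫ x.hom = e.inv.app x.left ≫ e.hom.app x.left ≫ x.hom
      rw [π'.toFunctor.map_id, Category.id_comp, Iso.inv_hom_id_app_assoc])⟩⟩⟩

theorem isRelGenFam_congr (h : FibCat.IsFibGrpd 𝒳.p) (e : π.toFunctor ≅ π'.toFunctor) {ι : Type t}
    (E : ι → QCoh 𝒳) (hE : IsRelGenFam π E) : IsRelGenFam π' E := by
  intro η hη
  haveI := fibCongr_full e η
  haveI := fibCongr_essSurj e η
  exact isGenFam_of_equiv (fibCongr e η) (isFibGrpd_fibCat h π η) (isFibGrpd_fibCat h π' η) _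
    (isGenFam_congr (fun i => comapCompIso (fibFst π' η) (fibCongr e η) (E i).obj) (hE η hη))

end Groth.L23.RelGen
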